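import Cfsg.Agent.H17.KnDefs

/-!
# Project KN, piece KIT: consequences of the hypothesis `Ki`
-/

set_option autoImplicit false

namespace Cfsg.Agent.H69.KnKit

open Equiv Subgroup Cfsg.Agent.H63 Cfsg.Agent.H8.GD
open Cfsg.Agent.H11.A16 hiding z2
open Cfsg.Agent.H89.Rec (Syl)
open Cfsg.Agent.H17.Kn

universe u

variable {G : Type u} [Group G] {J : N2 → G} {φ : G → Perm Ω}

theorem z2_AA : z2 ∈ AA := by decide +kernel

theorem z2_ne : z2 ≠ 1 := by decide +kernel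

theorem k_one (h : Ki J φ) : φ 1 = 1 := by
  have := h.mul 1 (one_mem _) 1 (one_mem _)
  rw [mul_one] at this
  exact left_eq_mul.1 this

theorem k_inv (h : Ki J φ) {g : G} (hg : g ∈ NA J) : φ g⁻¹ = (φ g)⁻¹ := by
  have := h.mul g hg g⁻¹ (inv_mem hg)
  rw [mul_inv_cancel, k_one h] at this
  exact (inv_eq_of_mul_eq_one_right this.symm).symm

theorem k_mna [Finite G] (h : Ki J φ) {g : G} (hg : ∀ a ∈ AA, ∃ b ∈ AA, R J g a b) :
    g ∈ NA J := by
  refine mem_normalizer_fintype fun n hn => ?_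
  obtain ⟨a, ha, rfl⟩ := (h.em.mono AA_le_T0).mem.1 hn
  obtain ⟨b, hb, e⟩ := hg a ha
  rw [show g * J a * g⁻¹ = J b from e]
  exact mem_im hb

theorem k_le [Finite G] (h2 : Mod2) (h : Ki J φ) {t : N2} (ht : t ∈ T0) : J t ∈ NA J :=
  k_mna h fun a ha => ⟨_, ((h2.nrm t).2.2.2.1 ht.1).1 a ha, h.em.self ht (AA_le_T0 ha)⟩

theorem k_cj [Finite G] (h2 : Mod2) (h : Ki J φ) {g : G} (hg : g ∈ NA J) {u : N2} (hu : u ∈ T0) :
    φ (g * J u * g⁻¹) = φ g * pm2 u * (φ g)⁻¹ := by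
  rw [h.mul _ (mul_mem hg (k_le h2 h hu)) _ (inv_mem hg), h.mul _ hg _ (k_le h2 h hu),
    k_inv h hg, h.res u hu]

theorem k_down [Finite G] (h2 : Mod2) (h : Ki J φ) {g : G} (hg : g ∈ NA J) {u v : N2}
    (hu : u ∈ T0) (hv : v ∈ T0) (e : R J g u v) : φ g * pm2 u * (φ g)⁻¹ = pm2 v := by
  rw [← k_cj h2 h hg hu, show g * J u * g⁻¹ = J v from e, h.res v hv]

/-- If the conjugate lies in the image of `Y`, it is the expected element. -/
theorem k_up [Finite G] (h2 : Mod2) (h : Ki J φ) {g : G} (hg : g ∈ NA J) {Y : Subgroup N2}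
    (hY : Y ≤ T0) {u v : N2} (hu : u ∈ T0) (hm : g * J u * g⁻¹ ∈ im J Y)
    (e : φ g * pm2 u * (φ g)⁻¹ = pm2 v) : R J g u v := by
  obtain ⟨w, hw, e'⟩ := (h.em.mono hY).mem.1 hm
  have := k_down h2 h hg hu (hY hw) e'.symm
  rw [e] at this
  rw [pm2_inj this]
  exact e'.symm

theorem k_imle [Finite G] (h2 : Mod2) (h : Ki J φ) {X : Subgroup N2} (hX : X ≤ T0) :
    im J X ≤ NA J := im_le fun _ hu => k_le h2 h (hX hu)

theorem k_two (h1 : Mod1) (h : Ki J φ) {X : Subgroup N2} (hX : X ≤ T0) : IsPGroup 2 (im J X) :=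
  (h.em.mono hX).two (h1.two.to_le (hX.trans inf_le_right))

theorem k_real [Finite G] (hg : Gen G) (h1 : Mod1) (h2 : Mod2) (h : Ki J φ) {X Y : Subgroup N2}
    (hX : X ≤ T0) (hY : Y ≤ T0) {m : Perm Ω} (hm : m ∈ Aff)
    (hc : ∀ u ∈ X, ∃ v ∈ Y, m * pm2 u * m⁻¹ = pm2 v) : ∃ g ∈ NA J, φ g = m ∧ Ey J g m X Y := by
  obtain ⟨g, hgN, rfl⟩ := h.sur m hm
  obtain ⟨k, hk, e1, hkY⟩ := hg.lift (NA J) φ h.mul h.ker
    ((im J X).map (MulAut.conj g).toMonoidHom) (im J Y)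
    (by
      rintro _ ⟨a, ha, rfl⟩
      exact mul_mem (mul_mem hgN (k_imle h2 h hX ha)) (inv_mem hgN))
    (k_imle h2 h hY) ((k_two h1 h hX).map _) (k_two h1 h hY)
    (by
      rintro _ ⟨a, ha, rfl⟩
      obtain ⟨u, hu, rfl⟩ := (h.em.mono hX).mem.1 ha
      obtain ⟨v, hv, e⟩ := hc u hu
      refine ⟨J v, mem_im hv, ?_⟩
      rw [h.res v (hY hv), ← e]
      exact k_cj h2 h hgN (hX hu))
  have e2 : φ (k * g) = φ g := by rw [h.mul k hk g hgN, e1, one_mul]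
  refine ⟨k * g, mul_mem hk hgN, e2, fun u hu v _ e => ?_⟩
  refine k_up h2 h (mul_mem hk hgN) hY (hX hu) ?_ (by rw [e2, e])
  have := hkY _ ⟨J u, mem_im hu, rfl⟩
  have e3 : k * g * J u * (k * g)⁻¹ = k * (g * J u * g⁻¹) * k⁻¹ := by group
  rw [e3]
  exact this

theorem k_onA [Finite G] (h2 : Mod2) (h : Ki J φ) {g : G} (hg : g ∈ NA J) :
    Ey J g (φ g) AA AA := fun _ hu _ _ e =>
  k_up h2 h hg AA_le_T0 (AA_le_T0 hu) ((mem_normalizer_iff.1 hg _).1 (mem_im hu)) e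

theorem k_card [Finite G] (h : Ki J φ) {L : Subgroup G} (hL : L ≤ NA J) {W : Subgroup (Perm Ω)}
    (a1 : ∀ g ∈ L, φ g ∈ W) (a2 : ∀ w ∈ W, ∃ g ∈ L, φ g = w) :
    ∃ m, Odd m ∧ Nat.card L = Nat.card W * m := by
  let f : L →* Perm Ω := MonoidHom.mk' (fun g => φ g) fun a b => h.mul a (hL a.2) b (hL b.2)
  have hr : f.range = W := by
    refine le_antisymm ?_ fun w hw => ?_
    · rintro _ ⟨g, rfl⟩
      exact a1 g g.2
    · obtain ⟨g, hg, e⟩ := a2 w hw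
      exact ⟨⟨g, hg⟩, e⟩
  refine ⟨Nat.card f.ker, ?_, ?_⟩
  · rw [← Nat.not_even_iff_odd, even_iff_two_dvd]
    intro hd
    obtain ⟨x, hx⟩ := exists_prime_orderOf_dvd_card' 2 hd
    have := h.ker x.1.1 (hL x.1.2) x.2
    rw [orderOf_coe, orderOf_coe, hx] at this
    exact absurd this (by decide)
  · rw [← f.ker.card_mul_index, index_ker, hr, mul_comm]

theorem k_syl [Finite G] (h1 : Mod1) (h2 : Mod2) (ha : Af) (h : Ki J φ) :
    Syl (im J T0) (NA J) := by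
  obtain ⟨m, hm, e⟩ := k_card h le_rfl h.aff h.sur
  refine Syl.of_card (k_imle h2 h le_rfl) (n := 10) (m := 315 * m) ?_ ?_
    (Odd.mul (by decide) hm)
  · rw [h.em.card, h1.cT0]; norm_num
  · rw [e, ha.card]; ring

theorem k_cen [Finite G] (h2 : Mod2) (ha : Af) (h : Ki J φ) {g : G} (hg : g ∈ C[im J AA]) :
    ∃ a ∈ AA, pm2 a = φ g := by
  refine ha.cA _ fun a ha' => ?_
  have e : R J g a a := by
    have := mem_centralizer_iff.1 hg _ (mem_im ha')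
    rw [R, ← this, mul_inv_cancel_right]
  have := k_down h2 h (centralizer_le_normalizer _ hg) (AA_le_T0 ha') (AA_le_T0 ha') e
  exact mul_inv_eq_iff_eq_mul.1 this

theorem k_AC (h2 : Mod2) (h : Ki J φ) : im J AA ≤ C[im J AA] := by
  intro x hx
  rw [mem_centralizer_iff]
  intro y hy
  obtain ⟨a, ha, rfl⟩ := (h.em.mono AA_le_T0).mem.1 hx
  obtain ⟨b, hb, rfl⟩ := (h.em.mono AA_le_T0).mem.1 hy
  rw [← h.em.mul _ (AA_le_T0 hb) _ (AA_le_T0 ha), ← h.em.mul _ (AA_le_T0 ha) _ (AA_le_T0 hb),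
    (h2.ab.2.2.1 a ha b hb).eq]

theorem k_cenA [Finite G] (h1 : Mod1) (h2 : Mod2) (ha : Af) (h : Ki J φ) :
    Syl (im J AA) C[im J AA] := by
  obtain ⟨m, hm, e⟩ := k_card h (centralizer_le_normalizer _) (W := AA.map pm2)
    (fun g hg => k_cen h2 ha h hg)
    (by
      rintro _ ⟨a, ha', rfl⟩
      exact ⟨J a, k_AC h2 h (mem_im ha'), h.res a (AA_le_T0 ha')⟩)
  refine Syl.of_card (k_AC h2 h) (n := 4) (m := m) ?_ ?_ hm
  · rw [(h.em.mono AA_le_T0).card, h1.cAA]; norm_num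
  · rw [e, card_map_of_injective pm2_inj, h1.cAA]; norm_num

theorem k_quo [Finite G] (h2 : Mod2) (h : Ki J φ) {g : G} (hg : g ∈ NA J) {t : N2} (ht : t ∈ T0)
    (e : φ g = pm2 t) : φ ((J t)⁻¹ * g) = 1 := by
  rw [h.mul _ (inv_mem (k_le h2 h ht)) _ hg, k_inv h (k_le h2 h ht), h.res t ht, e,
    inv_mul_cancel]

theorem k_eq [Finite G] (hg : Gen G) (h2 : Mod2) (h : Ki J φ) {S : Subgroup G}
    (hS : IsPGroup 2 S) {g : G} (hgS : g ∈ S) (hgN : g ∈ NA J) {t : N2} (ht : t ∈ T0)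
    (htS : J t ∈ S) (e : φ g = pm2 t) : g = J t := by
  have := hg.one S _ hS (mul_mem (inv_mem htS) hgS)
    (h.ker _ (mul_mem (inv_mem (k_le h2 h ht)) hgN) (k_quo h2 h hgN ht e))
  exact (inv_mul_eq_one.1 this).symm

theorem k_nz [Finite G] (h2 : Mod2) (ha : Af) (h : Ki J φ) {g : G} (hg : g ∈ NA J)
    (hc : Commute g (J z2)) : ∃ k ∈ QK, φ g = pm2 k := by
  have e : R J g z2 z2 := by rw [R, hc.eq, mul_inv_cancel_right]
  have := k_down h2 h hg (AA_le_T0 z2_AA) (AA_le_T0 z2_AA) e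
  obtain ⟨k, hk, e'⟩ := ha.cz _ (h.aff g hg) (mul_inv_eq_iff_eq_mul.1 this)
  exact ⟨k, hk, e'.symm⟩

theorem k_nq [Finite G] (h2 : Mod2) (h3 : Mod3) (ha : Af) (h : Ki J φ) {g : G} (hg : g ∈ NA J)
    (hq : g ∈ N[im J QQ]) : ∃ k ∈ QK, φ g = pm2 k ∧ Ex J g k QQ := by
  have hQ : QQ ≤ T0 := h2.le.2.1
  have hE := h.em.mono hQ
  have hz : z2 ∈ QQ := h2.le.2.2.2.1 z2_AA
  obtain ⟨α, hα, hR⟩ := hE.au hq
  have hc : Commute g (J z2) := by
    have hw : ∀ a ∈ QQ, Commute (α z2) a := fun a ha' => by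
      obtain ⟨b, hb, e⟩ := hE.mem.1 ((mem_normalizer_iff.1 (inv_mem hq) _).1 (mem_im ha'))
      have e1 : J (α b) = J a := by
        rw [← show g * J b * g⁻¹ = J (α b) from hR b hb, e]; group
      rw [← hE.inj _ (hα.mem b hb) _ ha' e1]
      show _ * _ = _ * _
      rw [← hα.mul _ hz _ hb, ← hα.mul _ hb _ hz, (h2.ab.2.2.2.2.2.2 b).eq]
    rcases h3.cQQ _ hw with e | e
    · exfalso
      have e1 : g * J z2 * g⁻¹ = J (α z2) := hR z2 hz
      rw [e, hE.one] at e1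
      exact z2_ne (hE.inj _ hz _ (one_mem _) (by rw [hE.one]; simpa using e1))
    · have e1 : g * J z2 * g⁻¹ = J (α z2) := hR z2 hz
      rw [e] at e1
      exact mul_inv_eq_iff_eq_mul.1 e1
  obtain ⟨k, hk, e⟩ := k_nz h2 ha h hg hc
  refine ⟨k, hk, e, fun u hu => ?_⟩
  refine k_up h2 h hg hQ (hQ hu) ((mem_normalizer_iff.1 hq _).1 (mem_im hu)) ?_
  rw [e, map_mul, map_mul, map_inv]

theorem kit (hg : GenStmt.{u}) (h1 : Mod1) (h2 : Mod2) (h3 : Mod3) (ha : Af) : KitStmt.{u} := by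
  intro G _ _ J φ h
  refine
    { le := fun t ht => k_le h2 h ht
      one := k_one h
      inv := fun g hg => k_inv h hg
      down := fun g hg u hu v hv e => k_down h2 h hg hu hv e
      real := fun X Y hX hY m hm hc => k_real hg h1 h2 h hX hY hm hc
      onA := fun g hg => k_onA h2 h hg
      syl := k_syl h1 h2 ha h
      cenA := k_cenA h1 h2 ha h
      dec := fun g hg' => ?_
      kerC := fun k hk e => ?_
      two := fun S hS g hgS hgN t ht htS e => k_eq hg h2 h hS hgS hgN ht htS e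
      cA2 := fun S hS hA g hgS hgC => ?_
      nT2 := fun S hS hT g hgS hgN => ?_
      fus := fun a ha' h0 => ?_
      nz := fun g hg hc => k_nz h2 ha h hg hc
      nq := fun g hg hq => k_nq h2 h3 ha h hg hq
      rq := fun k hk => ?_
      mna := fun g hg => k_mna h hg
      ind := fun hs H hH => ?_ }
  · obtain ⟨a, ha', e⟩ := k_cen h2 ha h hg'
    have hgN := centralizer_le_normalizer _ hg'
    exact ⟨a, ha', (J a)⁻¹ * g, mul_mem (inv_mem (k_le h2 h (AA_le_T0 ha'))) hgN,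
      k_quo h2 h hgN (AA_le_T0 ha') e.symm, by group⟩
  · rw [mem_centralizer_iff]
    intro y hy
    obtain ⟨a, ha', rfl⟩ := (h.em.mono AA_le_T0).mem.1 hy
    have : k * J a * k⁻¹ = J a := k_onA h2 h hk a ha' a ha' (by rw [e]; group)
    exact (mul_inv_eq_iff_eq_mul.1 this).symm
  · obtain ⟨a, ha', e⟩ := k_cen h2 ha h hgC
    rw [k_eq hg h2 h hS hgS (centralizer_le_normalizer _ hgC) (AA_le_T0 ha') (hA (mem_im ha'))
      e.symm]
    exact mem_im ha'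
  · rw [← (k_syl h1 h2 ha h).eq_of_le (P := S ⊓ NA J) (hS.to_le inf_le_left)
      (le_inf hT (k_imle h2 h le_rfl)) inf_le_right]
    exact ⟨hgS, hgN⟩
  · obtain ⟨m, hm, e⟩ := ha.tr a ha' h0
    obtain ⟨g, hgN, rfl⟩ := h.sur m hm
    exact ⟨g, hgN, k_onA h2 h hgN z2 z2_AA a ha' e⟩
  · have hn := ((h2.nrm k).2.2.2.2.1 (h2.le.2.2.2.2.2.2.2.2.2.1 hk)).1
    have hp : ∀ u, pm2 k * pm2 u * (pm2 k)⁻¹ = pm2 (k * u * k⁻¹) := fun u => by
      rw [map_mul, map_mul, map_inv]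
    obtain ⟨g, hgN, e, hE⟩ := k_real hg h1 h2 h h2.le.2.1 h2.le.2.1 (ha.qk k hk)
      fun u hu => ⟨_, hn u hu, hp u⟩
    exact ⟨g, hgN, e, fun u hu => hE u hu _ (hn u hu) (hp u)⟩
  · rcases (normal_of_index_eq_two hH).eq_bot_or_eq_top with e | e
    · rw [e, index_bot] at hH
      have := card_subgroup_dvd_card (im J T0)
      rw [h.em.card, h1.cT0, hH] at this
      exact absurd this (by decide)
    · rw [e, index_top] at hH
      exact absurd hH (by decide)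

end Cfsg.Agent.H69.KnKit
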