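import Cfsg.Agent.H69.WcG
import Cfsg.Agent.H69.WcH
import Cfsg.Agent.H48.Simple
import Cfsg.Agent.H52.FStar
import Cfsg.Agent.H51.Constraint
import Cfsg.Agent.S0283

/-! Weakly closed large extraspecial subgroups of width at least three. -/

set_option autoImplicit false
set_option linter.unusedSectionVars false

namespace Cfsg.Agent.H69.Out

open Subgroup Cfsg.Agent.H49 Cfsg.Agent.H69.XV Cfsg.Agent.H69.XV.VD Cfsg.Agent.H92.Lx
open scoped H28

universe u

variable {G : Type u} [Group G] [Finite G]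

theorem CB.sp {z s : G} (h : CB z s) : Nonempty (centralizer ({z} : Set G) ⧸
    pCore 2 (centralizer ({z} : Set G)) ≃* Matrix.symplecticGroup (Fin 3) (ZMod 2)) := by
  obtain ⟨d⟩ := exists_VD h.lx
  have := d.finite
  have c := fun {k} => mem_centralizer_singleton_iff (G := G) (g := z) (k := k)
  let ρ : centralizer ({z} : Set G) →* Module.End (ZMod 2) (Vq h.lx.toXS) :=
    { toFun := fun a => d.ρ a
      map_one' := LinearMap.ext d.ρ_one
      map_mul' := fun a b => LinearMap.ext (d.ρ_mul (c.1 a.2) (c.1 b.2)) }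
  have hk : ρ.ker = pCore 2 _ := Subgroup.ext fun a =>
    ⟨fun e => (mem_map_iff_mem (subtype_injective _)).1
      (d.mem_of_ρ (c.1 a.2) (LinearMap.congr_fun e)),
      fun e => LinearMap.ext (d.ρ_Q (mem_map_of_mem _ e))⟩
  obtain ⟨g, hg, o⟩ := h.exists_opp d
  have h' := h.conjH hg
  have k : ∀ {a b : centralizer ({z} : Set G)}, CB z a → CB z b →
      (∀ y ∈ d.comS a, y ∈ d.comS b → y = 0) →
      (ρ a + 1) * (ρ b + 1) + (ρ b + 1) * (ρ a + 1) = 1 := fun ha hb o =>
    LinearMap.ext fun v => ha.anti d hb o v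
  obtain ⟨e⟩ := Cliff.sp6 (h.cV d) ρ {a | CB z a} (fun g a ha => ha.conjH (c.1 g.2))
    (fun a ha => LinearMap.ext fun v => (CB.f_eq_zero ha d).2 (d.com_mem _ v))
    (fun a ha b hb => by
      by_cases o : ∀ y ∈ d.comS a, y ∈ d.comS b → y = 0
      · exact ⟨1, by rw [k ha hb o, one_smul]⟩
      · push Not at o
        obtain ⟨y, y1, y2, y0⟩ := o
        have : ρ a * ρ b = ρ b * ρ a := LinearMap.ext (CB.comm ha d hb y1 y2 y0)
        exact ⟨0, by
          rw [zero_smul, XV.add_eq_zero]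
          simp only [mul_add, add_mul, mul_one, one_mul, this]
          abel⟩)
    (fun x hx => h.scalar d x fun a ha =>
      LinearMap.congr_fun (hx ⟨_, c.2 (cconj ha h.sz)⟩ (h.conjH ha)))
    (s := ⟨s, c.2 h.sz⟩) (t := ⟨_, c.2 h'.sz⟩) h h' (k h h' o) ((O2C s).subgroupOf _)
    (by rw [← h.cA, ← inf_subgroupOf_right,
      Nat.card_congr (subgroupOfEquivOfLe inf_le_right).toEquiv])
    (fun a ha => Subtype.ext (h.op.lxT.cen _ ha)) fun a ha e => by
      refine Subtype.ext (h.tp.tr _ (d.mem_of_ρ (c.1 a.2) fun v => ?_) ha)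
      obtain ⟨x, hx, y, hy, rfl⟩ := h.split d h' o v
      have m := comS_conj h'.sz (c.1 a.2) hy
      rw [comS, show d.ρ (a * (g * s * g⁻¹) * (a : G)⁻¹) = d.ρ (g * s * g⁻¹) from e] at m
      rw [map_add, h.fixA d (a := a) ha (c.1 a.2) hx,
        XV.add_eq_zero.1 (o _ (h.comA d (a := a) ha (c.1 a.2) y) (add_mem m hy))]
  exact ⟨(QuotientGroup.quotientMulEquivOfEq hk.symm).trans e⟩

/-- the recognition theorem for `Co₂` -/
def Co2St : Prop := ∀ (G : Type u) [Group G] [Finite G], oddCore G = ⊥ → center G = ⊥ →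
  ∀ t : G, orderOf t = 2 → IsPConstrained 2 (centralizer ({t} : Set G)) →
    IsExtraspecial 2 (pCore 2 (centralizer ({t} : Set G))) →
    Nat.card (pCore 2 (centralizer ({t} : Set G))) = 2 ^ 9 →
    (centralizer ({t} : Set G) ⧸ pCore 2 (centralizer ({t} : Set G)) ≃*
      Matrix.symplecticGroup (Fin 3) (ZMod 2)) → Spor.IsoCo2 G

theorem center_bot {Q : Subgroup G} {z : G} (h : LX Q z) (hz : z ∉ center G) : center G = ⊥ :=
  (eq_bot_iff_forall _).2 fun x hx =>
    (h.cent x (h.cQ fun y _ => mem_center_iff.1 hx y) fun y _ =>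
      (mem_center_iff.1 hx y).symm).resolve_right fun e => hz (e ▸ hx)

theorem CB.co2 (hC : Co2St.{u}) (hO : pPrimeCore 2 G = ⊥) {z s : G} (hz : z ∉ center G)
    (h : CB z s) : Spor.IsoCo2 G := by
  obtain ⟨e⟩ := h.sp
  refine hC G hO (center_bot h.lx hz) z h.lx.toXS.orderOf_z
    (H51.isPConstrained_of_centralizer_le fun x hx => (mem_map_iff_mem (subtype_injective _)).1
      (h.lx.cQ ?_)) ((isExtraspecial_map_iff (subtype_injective _)).1 h.lx.toXS.isExtraspecial)
    ((card_map_of_injective (subtype_injective _)).symm.trans h.c9) e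
  rintro _ ⟨y, hy, rfl⟩
  exact congrArg Subtype.val (hx y hy)

theorem fstar_eq {L : Subgroup G} (hn : L.Normal) [IsSimpleGroup L]
    (hc : centralizer (L : Set G) = ⊥) : generalizedFittingSubgroup G = L := by
  have hL : IsComponent L := ⟨hn.isSubnormal, H52.isQuasisimple_of_isSimpleGroup fun hab => by
    obtain ⟨a, ha⟩ := exists_ne (1 : L)
    exact ha (Subtype.ext (hc.le (show (a : G) ∈ centralizer (L : Set G) from fun b hb =>
      congrArg Subtype.val (hab.is_comm.comm ⟨b, hb⟩ a))))⟩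
  refine le_antisymm ?_ (H52.IsComponent.le_fstar hL)
  simpa [hc] using H52.IsComponent.fstar_le_sup_centralizer hL

theorem UC.fstar {z : G} (h : UC z) (hO : pPrimeCore 2 G = ⊥) :
    normalClosure ({z} : Set G) = generalizedFittingSubgroup G ∧
      ∃ (F : Type) (_ : Field F) (_ : Fintype F), Fintype.card F = 4 ∧ ∃ m : ℕ, 4 ≤ m ∧
        Nonempty (generalizedFittingSubgroup G ≃* PSU m F 2) := by
  obtain ⟨n, hn, -, ⟨e⟩⟩ := h.iso hO
  have := S0283.result (F := H28.K4) (q := 2) H28.card_K4 n (by omega) (by omega)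
  have := e.isSimpleGroup
  rw [fstar_eq inferInstance (h.cent_K hO)]
  exact ⟨rfl, _, _, _, H28.card_K4, n, hn, ⟨e⟩⟩

theorem fstar_top [IsSimpleGroup G] {z : G} (hz : z ∉ center G) :
    normalClosure ({z} : Set G) = ⊤ ∧ generalizedFittingSubgroup G = ⊤ := by
  have := (topEquiv (G := G)).isSimpleGroup
  refine ⟨(IsSimpleGroup.eq_bot_or_eq_top_of_normal _ inferInstance).resolve_left fun e => hz ?_,
    fstar_eq inferInstance ?_⟩
  · rw [mem_bot.1 (e.le (subset_normalClosure (Set.mem_singleton z)))]; exact one_mem _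
  · rw [coe_top, centralizer_univ]
    exact (IsSimpleGroup.eq_bot_or_eq_top_of_normal _ inferInstance).resolve_right
      fun e => hz (e ▸ mem_top z)

/-- the weakly closed case, width at least three -/
theorem wc_wide (hC : Co2St.{u}) (hO : pPrimeCore 2 G = ⊥) {z : G} (hw : WC z)
    (h128 : 128 ≤ Nat.card (O2C z)) (hz : z ∉ center G) :
    normalClosure ({z} : Set G) = generalizedFittingSubgroup G ∧
      ((∃ (F : Type) (_ : Field F) (_ : Fintype F), Fintype.card F = 4 ∧ ∃ m : ℕ, 4 ≤ m ∧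
        Nonempty (generalizedFittingSubgroup G ≃* PSU m F 2)) ∨
        Spor.IsoCo2 (generalizedFittingSubgroup G)) := by
  have h := ws_of hw h128 hO hz
  by_cases c : UC z
  · exact (c.fstar hO).imp_right Or.inl
  obtain ⟨s, hs⟩ := exists_CB h c
  obtain ⟨e⟩ := hs.co2 hC hO hz
  have := H48.simple_Co2
  have := e.isSimpleGroup
  obtain ⟨a, b⟩ := fstar_top hz
  rw [a, b]
  exact ⟨rfl, Or.inr ⟨topEquiv.trans e⟩⟩

end Cfsg.Agent.H69.Out
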