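import Mathlib
import Cfsg.Agent.H63.Quo
import Cfsg.Agent.H67.Pi
import Cfsg.Agent.H69.Frob
import Cfsg.Agent.H69.FixLift
import Cfsg.Agent.H69.BG38
import Cfsg.Agent.H69.BG36

/-! B & G sections 2 and 3 and Wielandt's fixed point formula (internal action forms):
collects `H69.Frob`, `H69.FixLift`, `H69.BG38` and `H69.BG36`. -/
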