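import Cfsg.Agent.H69.O8e
import Cfsg.Agent.H69.XN3
import Cfsg.Agent.H49.Simp
import Cfsg.Agent.H86.ZDFinal
import Cfsg.Agent.S0287

/-! `C(z)/Q ≅ S₃³`: identification with `Ω₈⁺(2)`. -/

set_option autoImplicit false

namespace Cfsg.Agent.H69.O8

open Subgroup Cfsg.Agent.H49 Cfsg.Agent.H69.XV Equiv

universe u

variable {G : Type u} [Group G]

theorem EC.odd {z : G} {x : Subgroup G} {co : G → X6} (k : EC z x co) (z1 : z ≠ 1) {f : G}
    (hf : f ∈ x) (f1 : f ≠ 1) (nf : ¬ Cj z f) : Odd {u | u ∈ x ∧ Cj z u ∧ f ∈ O2C u}.ncard := by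
  have := six_odd (co f) fun e => ((k.q hf).1 e).elim f1 nf
  rw [← Set.ncard_coe_finset] at this
  convert this using 1
  refine Set.ncard_congr (fun u _ => co u) ?_ (fun a b ha hb e => k.eq ha.1 hb.1 e) ?_
  · rintro u ⟨u1, u2, u3⟩
    simp only [Finset.coe_filter, Finset.mem_univ, true_and, Set.mem_ofPred_eq]
    exact ⟨fun e => u2.ne_one z1 (k.inj u1 e), (k.q u1).2 (Or.inr u2), (k.b u1 u2 hf).2 u3⟩
  · intro v hv
    simp only [Finset.coe_filter, Finset.mem_univ, true_and, Set.mem_ofPred_eq] at hv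
    obtain ⟨u, u1, u2, rfl⟩ := k.exists_cj hv.1 hv.2.1
    exact ⟨u, ⟨u1, u2, (k.b u1 u2 hf).1 hv.2.2⟩, rfl⟩

theorem EC.F2 {z : G} {x : Subgroup G} {co : G → X6} (k : EC z x co) {E : Subgroup G} (hE : E ≤ x)
    (h1 : E ≠ ⊥) (hI : ∀ f ∈ E, ¬ Cj z f) :
    (∃ a ∈ x, Cj z a ∧ ∃ f ∈ E, f ≠ 1 ∧ Cj z (a * f)) ∧
      ∃ b ∈ x, Cj z b ∧ ¬ ∃ f ∈ E, f ≠ 1 ∧ Cj z (b * f) := by
  have q1 : ∀ f ∈ E, f ≠ 1 → q6 (co f) = 1 := fun f hf n =>
    z2_ne fun e => ((k.q (hE hf)).1 e).elim n (hI f hf)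
  obtain ⟨⟨f, hf⟩, f1⟩ := ne_bot_iff_exists_ne_one.1 h1
  replace f1 : f ≠ 1 := fun e => f1 (Subtype.ext e)
  constructor
  · obtain ⟨v, v0, vq, vb⟩ := six_nondeg (co f) fun e => f1 (k.inj (hE hf) e)
    obtain ⟨a, ha, ca, rfl⟩ := k.exists_cj v0 vq
    refine ⟨a, ha, ca, f, hf, f1, ((k.q (mul_mem ha (hE hf))).1 ?_).resolve_left fun e => ?_⟩
    · rw [k.mul ha (hE hf), q6_add, vq, vb, q1 f hf f1]; rfl
    · rw [eq_inv_of_mul_eq_one_left e] at ca; exact hI _ (inv_mem hf) ca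
  · obtain ⟨f', hf', t⟩ : ∃ f' ∈ E, ∀ e ∈ E, e = 1 ∨ e = f ∨ e = f' ∨ e = f * f' := by
      by_cases c : ∀ e ∈ E, e = 1 ∨ e = f
      · exact ⟨f, hf, fun e he => (c e he).imp id Or.inl⟩
      push Not at c
      obtain ⟨f', hf', n1, n2⟩ := c
      refine ⟨f', hf', fun e he => ?_⟩
      by_contra n
      push Not at n
      have ne : ∀ {a b : G}, a ∈ E → b ∈ E → b ≠ a → q6 (co a + co b) = 1 := fun ha hb c => by
        rw [← k.mul (hE ha) (hE hb)]
        exact q1 _ (mul_mem ha hb) fun e => c (by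
          rw [eq_inv_of_mul_eq_one_right e, inv_of_sq (k.sq (hE ha))])
      have := six_three (q1 f hf f1) (q1 f' hf' n1) (q1 e he n.1) (ne hf hf' n2) (ne hf he n.2.1)
        (ne hf' he n.2.2.1)
      rw [← add_assoc, ← k.mul (hE hf) (hE hf'), ne (mul_mem hf hf') he n.2.2.2] at this
      exact absurd this (by decide)
    obtain ⟨v, v0, vq, b1, b2⟩ := six_perp (co f) (co f')
    obtain ⟨b, hb, cb, rfl⟩ := k.exists_cj v0 vq
    refine ⟨b, hb, cb, ?_⟩
    rintro ⟨e, he, e1, c⟩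
    have := (k.q (mul_mem hb (hE he))).2 (Or.inr c)
    rw [k.mul hb (hE he), q6_add, vq, q1 e he e1] at this
    rcases t e he with a | a | a | a <;> subst a
    · exact e1 rfl
    · rw [b1] at this; exact absurd this (by decide)
    · rw [b2] at this; exact absurd this (by decide)
    · rw [k.mul (hE hf) (hE hf'), b6_add, b1, b2] at this; exact absurd this (by decide)

namespace TC

variable [Finite G] {z : G} {π : G → L3} {d : VD (O2C z) z V0} (h : TC z π d)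
include h

theorem F1z {x f : G} (cx : Cj z x) (xz : x * z = z * x) (nx : cj (EE d 0) x = EE d 0)
    (hf : f ∈ FF d 0) (f1 : f ≠ 1) (nf : ¬ Cj z f) (c : x * f = f * x) (cf : Cj z (x * f)) :
    x ∈ EE d 0 := by
  obtain ⟨s, g, f', t⟩ := h.td
  have dX := mt (t.sg_F hf).2 fun a => a.elim f1 nf
  obtain ⟨fq, X, e⟩ := id hf
  rw [tn_vec0] at e
  by_cases q : x ∈ O2C z
  · rcases (h.cj_iff q).1 cx with a | ⟨b, a⟩
    · rw [a]; exact h.z_E 0
    rcases (h.cj_iff (mul_mem q fq)).1 cf with a' | ⟨b', a'⟩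
    · exact (mul_mem_cancel_right (h.F_le 0 hf)).1 (a' ▸ h.z_E 0)
    have e' : pt b + pt b' = d.p f := by rw [← a, ← a', d.p_mul q fq, add_add_cancel]
    have b0 := pt_sum_W b b' (by rw [e', ← e]) (by rwa [e'])
    obtain ⟨Y, hY⟩ := pt_W b.1 b.2.1 b.2.2
    exact h.F_le 0 ⟨q, Y, by rw [a, ← b0, ← hY]⟩
  have p0 : (π x).1 0 = 0 := h.E_inj (by rw [← h.cj_E 0 xz, nx])
  have n1 : π x ≠ 1 := fun a => q ((h.hy.ker xz).1 a)
  have fx := h.p_conj xz fq
  rw [conj_of_comm c.symm, ← e, ← tn_vec0, act_tn, p0] at fx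
  replace fx := tn_injective 0 fx
  rw [← e] at dX
  rcases h.pi_cj xz cx with a | ⟨a, b⟩ | ⟨a, b⟩
  · refine t.mem_E xz (cx.sq h.hy.lx.zz) (Prod.ext ((eq_tr _ 0 p0).resolve_left fun b => ?_) a)
    exact n1 (Prod.ext b a)
  · exact absurd (act2_fix _ X (fun c => n1 (Prod.ext a (Prod.ext c b))) (Or.inl (by
      rw [← b]; exact fx.symm))) dX
  · exact absurd (act2_fix _ X (fun c => n1 (Prod.ext a (Prod.ext b c))) (Or.inr (by
      rw [← b]; exact fx.symm))) dX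

theorem F1 {x f : G} (cx : Cj z x) (hx : x ∈ KK z) (hf : f ∈ EE d 0) (f1 : f ≠ 1) (nf : ¬ Cj z f)
    (c : x * f = f * x) (cf : Cj z (x * f)) : x ∈ EE d 0 := by
  obtain ⟨y, co, b⟩ := h.geo.exists_base (h.pp 0)
  rw [← h.G0_eq b] at hx
  obtain ⟨v, r⟩ := hx
  have fc := conj_of_comm c.symm
  have nx := b.unique r hf (fc ▸ cj_mem.2 hf) f1 nf
  obtain ⟨u, ⟨u1, u2, u3⟩, e⟩ := H86.exists_commute_of_odd (cx.sq h.hy.lx.zz)
    (b.ec.odd h.hy.lx.ne hf f1 nf) fun u hu =>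
      ⟨nx ▸ cj_mem.2 hu.1, hu.2.1.conj x, fc ▸ mem_O2C_conj.2 hu.2.2⟩
  obtain ⟨s, g, f', t⟩ := h.td
  obtain ⟨n, n1, rfl⟩ := t.orbit u1 u2
  obtain ⟨x, rfl⟩ := ex_conj n x
  obtain ⟨f, rfl⟩ := ex_conj n f
  rw [← n1, cj_mem] at hf ⊢
  rw [← n1, cj_cj, cj_eq] at nx
  rw [conj_mul', conj_mul', conj_eq] at c
  rw [conj_mul', cj_conj] at cf
  refine h.F1z (cj_conj.1 cx) (comm_of_conj (conj_eq (k := n).1 ?_)).symm nx
    (h.Q_inf_E (mem_O2C_conj.1 u3) hf) (fun a => f1 (by simp [a])) (mt cj_conj.2 nf) c cf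
  rw [← e]; group

theorem cent_E {f : G} (hf : f ∈ EE d 0) (f1 : f ≠ 1) : centralizer {f} ≤ KK z := by
  obtain ⟨co, k⟩ := h.ec (h.pp 0)
  rw [← centralizer_zpowers']
  exact dih_cent_le (I := {x | Cj z x}) (A := EE d 0) (fun a ha => h.C_le (E_z ha))
    (fun a ha g => ha.conj g) (fun a ha => ha.sq h.hy.lx.zz) (fun a ca ha g hg => h.hU ca ha hg)
    (fun a ha => k.sq ha) (fun x cx hx f hf f1 nf c cf => h.F1 cx hx hf f1 nf c cf)
    (fun E hE h1 hI => k.F2 hE h1 hI) _ (zpowers_le.2 hf) (by rwa [Ne, zpowers_eq_bot])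

theorem cent_prod {y : G} (yz : y * z = z * y) (yy : y * y = 1) (q : y ∉ O2C z)
    (e : (π y).2 = 1) : centralizer {z * y} ≤ KK z := by
  obtain ⟨i, hi⟩ := invol_fix (π y).1 (by
    rw [← Prod.fst_mul, ← h.hy.mul yz yz, yy, h.hy.one]; rfl)
  obtain ⟨σ, hσ⟩ := exists_perm i 0
  obtain ⟨c, cz, pc⟩ := h.surj (σ, 1, 1)
  obtain ⟨s, g, f, t⟩ := h.td
  have pe := h.hy.conj cz yz
  have y'z := VD.cmul (VD.cmul cz yz) (VD.cinv cz)
  have e2 : (π (c * y * c⁻¹)).2 = 1 := by rw [pe]; simp [e]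
  have m := t.mem_E y'z (by rw [conj_mul', yy]; group) (Prod.ext ((eq_tr _ 0 (by
    rw [pe, pc]; simp [← hσ, hi])).resolve_left fun a => q (by
      have := h.hy.lx.conj_mem (VD.cinv cz) ((h.hy.ker y'z).1 (Prod.ext a e2))
      simpa [mul_assoc] using this)) e2)
  have k := h.cent_E (mul_mem (h.z_E 0) m) fun a => q (by
    have := h.hy.lx.conj_mem (VD.cinv cz) ((mul_mem_cancel_left h.hy.lx.mem).1 (a ▸ one_mem _))
    simpa [mul_assoc] using this)
  intro a ha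
  have := k (x := c * a * c⁻¹) (mem_centralizer_singleton_iff.2 (by
    have := conj_comm c (mem_centralizer_singleton_iff.1 ha)
    rwa [← conj_mul' c z y, conj_of_comm cz.symm] at this))
  exact (mul_mem_cancel_left (h.C_le cz)).1 ((mul_mem_cancel_right (inv_mem (h.C_le cz))).1 this)

theorem simple : IsSimpleGroup G := by
  obtain ⟨s, hs⟩ := h.ex
  obtain ⟨k, hk⟩ := hs.cj
  have M : ∀ x, Cj z x → x ∈ normalClosure ({z} : Set G) := by
    rintro _ ⟨g, rfl⟩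
    exact normalClosure_normal.conj_mem _ (subset_normalClosure (Set.mem_singleton z)) g
  have QM : ∀ x ∈ O2C z, x ∈ normalClosure ({z} : Set G) := by
    intro x hx
    have m : ∀ b, pt b ∈ d.sm (normalClosure {z}) := fun b => by
      obtain ⟨t, ht, e⟩ := h.exists_np b
      exact d.mem_sm.2 ⟨t, M t ht.cj, ht.mem, e⟩
    have sm := fun (c : F2) b => Submodule.smul_mem _ c (m b)
    rw [← d.p_mem_sm (M z (Cj.refl z)) hx, basis_eq (d.p x)]
    exact add_mem (add_mem (add_mem (add_mem (add_mem (add_mem (add_mem (sm _ _) (sm _ _)) (sm _ _))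
      (sm _ _)) (sm _ _)) (sm _ _)) (sm _ _)) (sm _ _)
  have RM : ∀ (l : L3) (b : I3), ai l b = b →
      ∃ r ∈ normalClosure ({z} : Set G), r * z = z * r ∧ π r = l := by
    intro l b hl
    obtain ⟨t, ht, e⟩ := h.exists_np b
    obtain ⟨r, hr, rz, pr⟩ := h.R_surj ht e hl
    obtain ⟨g, rfl⟩ := ht.cj
    obtain ⟨r, rfl⟩ := ex_conj g r
    exact ⟨_, normalClosure_normal.conj_mem _ (QM r (mem_O2C_conj.1 hr)) g, rz, pr⟩
  refine hs.lx.isSimpleGroup (hs.lx.large_of_mem_cj (g := k) (hk ▸ hs.mem) (hk ▸ hs.ne)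
    (by rw [cj_O2C, hk]; exact hs.mem')) rfl fun c hc => ?_
  have cz := mem_centralizer_singleton_iff.1 hc
  obtain ⟨a, a', i, i', a1, a2, a3⟩ := prod_fix (π c).1
  obtain ⟨b, b', j, j', b1, b2, b3⟩ := prod_fix (π c).2.1
  obtain ⟨e, e', l, l', e1, e2, e3⟩ := prod_fix (π c).2.2
  obtain ⟨r, r1, r2, r3⟩ := RM (a, b, e) (i, j, l) (Prod.ext a1 (Prod.ext b1 e1))
  obtain ⟨r', r1', r2', r3'⟩ := RM (a', b', e') (i', j', l') (Prod.ext a2 (Prod.ext b2 e2))
  have := QM _ ((h.hy.eq_iff cz (VD.cmul r2 r2')).1 (by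
    rw [h.hy.mul r2 r2', r3, r3']; exact Prod.ext a3 (Prod.ext b3 e3)))
  exact (mul_mem_cancel_right (inv_mem (mul_mem r1 r1'))).1 this

theorem swap (σ : L3 ≃* L3) : ∃ d', TC z (fun c => σ (π c)) d' := by
  obtain ⟨s, hs⟩ := h.ex
  refine exists_TC ⟨h.hy.lx, h.hy.card, fun a b => by rw [h.hy.mul a b, map_mul],
    fun a => by rw [← h.hy.ker a, MulEquiv.map_eq_one_iff]⟩ (fun l => ?_) hs
  obtain ⟨c, cz, e⟩ := h.surj (σ.symm l)
  exact ⟨c, cz, by rw [e, σ.apply_symm_apply]⟩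

theorem KK_top : KK z = ⊤ := by
  by_contra n
  have := h.simple
  have zK := h.C_le rfl
  have tc : IsTwoCentralInvolution z := by
    have : Fact (Nat.Prime 2) := ⟨Nat.prime_two⟩
    obtain ⟨T, hT⟩ := H98.exists_sylIn 2 (centralizer ({z} : Set G))
    obtain ⟨S, rfl⟩ := (h.hy.lx.sylIn_top hT).exists_sylow_top
    exact ⟨h.hy.lx.orderOf_z, S, h.hy.lx.le_of_sylIn le_top (by rwa [top_inf_eq]) h.hy.lx.mem,
      fun x hx => mem_centralizer_singleton_iff.1 (hT.1 hx)⟩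
  have se := H86.ZD.se_of_simple (H := KK z) (z := z) ⟨n, tc, fun g => ⟨h.hU (Cj.refl z) zK,
    fun hg => mul_mem (mul_mem hg zK) (inv_mem hg)⟩, fun g c ne => ?_⟩ H86.zd_core
  · obtain ⟨co, k⟩ := h.ec (h.pp 0)
    obtain ⟨f, hf, e⟩ := k.surj (1, 1, 0)
    have q := mt (k.q hf).2 (by rw [e]; decide)
    obtain ⟨c, hc⟩ := isConj_iff.1 (H10.SE.isConj_involutions se h.hy.lx.orderOf_z
      (orderOf_two_iff.2 ⟨fun a => q (Or.inl a), k.sq hf⟩))
    exact q (Or.inr ⟨c, hc⟩)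
  have cy : Cj z (g * z * g⁻¹) := ⟨g, rfl⟩
  generalize g * z * g⁻¹ = y at *
  have yz : y * z = z * y := c.eq.symm
  by_cases q : y ∈ O2C z
  · obtain ⟨b, e⟩ := ((h.cj_iff q).1 cy).resolve_left ne
    have m := mul_mem h.hy.lx.mem q
    intro a ha
    refine h.hU ((h.cj_iff m).2 (Or.inr ⟨b, by rw [← yz, d.p_mul_z q, e]⟩)) (h.C_le (h.hy.lx.cen _ m)) ?_
    rw [conj_of_comm (mem_centralizer_singleton_iff.1 ha).symm]
    exact h.C_le (h.hy.lx.cen _ m)
  have yy := cy.sq h.hy.lx.zz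
  rcases h.pi_cj yz cy with a | ⟨a, b⟩ | ⟨a, b⟩
  · exact h.cent_prod yz yy q a
  · obtain ⟨d', h'⟩ := h.swap ⟨⟨fun l => (l.2.1, l.1, l.2.2), fun l => (l.2.1, l.1, l.2.2),
      fun _ => rfl, fun _ => rfl⟩, fun _ _ => rfl⟩
    exact h'.cent_prod yz yy q (Prod.ext a b)
  · obtain ⟨d', h'⟩ := h.swap ⟨⟨fun l => (l.2.2, l.2.1, l.1), fun l => (l.2.2, l.2.1, l.1),
      fun _ => rfl, fun _ => rfl⟩, fun _ _ => rfl⟩
    exact h'.cent_prod yz yy q (Prod.ext b a)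

theorem iso : Nonempty (G ≃* Omega F2 Q8) := by
  have := h.simple
  obtain ⟨y, co, b⟩ := h.geo.exists_base (h.pp 0)
  obtain ⟨φ, hφ⟩ := b.exists_hom
  have e := (h.G0_eq b).trans h.KK_top
  let ψ : G →* isometryGroup F2 Q8 :=
    φ.comp ((MulEquiv.subgroupCongr e).trans topEquiv).symm.toMonoidHom
  have hψ : Function.Injective ψ := hφ.comp (MulEquiv.injective _)
  have c1 : Nat.card ψ.range = 174182400 := by
    rw [← Nat.card_congr (MonoidHom.ofInjective hψ).toEquiv, ← h.card_KK, h.KK_top, card_top]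
  have c2 := S0287.result (F := F2) (q := 2) (by simp) 4 (by norm_num)
  have i2 : ψ.range.index = 2 := by
    have := ψ.range.card_mul_index
    rw [c1, c2] at this
    norm_num [Finset.prod_range_succ] at this
    omega
  have p : commutator G = ⊤ := (IsSimpleGroup.eq_bot_or_eq_top_of_normal _ inferInstance).resolve_left
    fun a => by
      obtain ⟨u, -, v, -, n⟩ := h.hy.lx.nonab
      have := commutator_mem_commutator (mem_top u) (mem_top v)
      rw [← _root_.commutator_def, a, mem_bot, commutatorElement_eq_one_iff_mul_comm] at this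
      exact n this
  have : ψ.range = commutator _ := by
    refine le_antisymm ?_ ?_
    · rw [MonoidHom.range_eq_map, ← p, _root_.commutator_def, map_commutator]
      exact commutator_mono le_top le_top
    · refine commutator_le.2 fun u _ v _ => ?_
      rw [commutatorElement_def]
      simp only [mul_mem_iff_of_index_two i2, inv_mem_iff]
      tauto
  exact ⟨(MonoidHom.ofInjective hψ).trans (MulEquiv.subgroupCongr this)⟩

end TC

end Cfsg.Agent.H69.O8
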