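import Cfsg.Agent.H69.SpRlK
import Cfsg.Agent.H68.SpDefs2
import Cfsg.Agent.H45.AnPin
import Cfsg.Agent.H70.SpH3k

/-!
# The pinning of type `A₂ₖ₋₁`
-/

set_option autoImplicit false

namespace Cfsg.Agent.H69.SpRl

open Cfsg Cfsg.Agent.H63 Cfsg.Agent.H63.SL Cfsg.Agent.H26 Cfsg.Agent.H68.Sp
open Cfsg.Agent.H78 hiding tv tv_zero
open Cfsg.Agent.H29.SpK Cfsg.Agent.H36.SpY
open Cfsg.Agent.H40.LF (x_mem_UU UU_le)
open Subgroup Module
open scoped commutatorElement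

universe u v

variable {F V : Type v} [Field F] [AddCommGroup V] [Module F V] {G : Type u} [Group G]
  {P : PForm F V} {φ : P.E →* G} {L : Subgroup G} {k : ℕ} {t : G} {c0 ρ : F} {y : V → V → G}

variable (φ c0 ρ y) in
/-- The root elements attached to a frame. -/
noncomputable def Xf (Fr : Frame P k) (p q : BI k) (c : F) : G :=
  if p = ng q then tv P φ (Fr.e p) c else xx P φ c0 ρ y (Fr.e (ng q)) (Fr.e p) c

section

variable {Fr : Frame P k} {p q l m : BI k}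

theorem XL (q : BI k) (c : F) : Xf φ c0 ρ y Fr (ng q) q c = tv P φ (Fr.e (ng q)) c := if_pos rfl

theorem XS' (h : p ≠ ng q) (c : F) :
    Xf φ c0 ρ y Fr p q c = xx P φ c0 ρ y (Fr.e (ng q)) (Fr.e p) c := if_neg h

theorem third (hk : 3 ≤ k) (p q : BI k) : ∃ r : BI k, r.1 ≠ p.1 ∧ r.1 ≠ q.1 := by
  obtain ⟨i, hi⟩ : ∃ i, i ∉ ({p.1, q.1} : Finset (Fin k)) := by
    by_contra! H
    have := (Finset.card_le_card fun a (_ : a ∈ Finset.univ) => H a).trans Finset.card_le_two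
    simp at this
    omega
  simp only [Finset.mem_insert, Finset.mem_singleton, not_or] at hi
  exact ⟨(i, false), hi⟩

namespace Cx

variable (C : Cx P φ L k t c0 ρ y) (hN : Fr.Norm)
include C hN

theorem one (a : BI k) : P.f (Fr.e a) (Fr.e (ng a)) = 1 := by
  rcases a with ⟨i, _ | _⟩
  · exact hN i
  · rw [fc C.h]; exact hN i

theorem one' (a : BI k) : P.f (Fr.e (ng a)) (Fr.e a) = 1 := by rw [fc C.h, C.one hN]

theorem hy1 {a b : BI k} (h1 : b ≠ a) (h2 : b ≠ ng a) :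
    Hyp1 P (Fr.e a) (Fr.e (ng a)) (Fr.e b) :=
  ⟨C.one hN a, Fr.e_ne_zero b, Fr.orth _ _ h2, Fr.orth _ _ (by rwa [ng_ng])⟩

theorem i2e {a b : BI k} (h1 : b ≠ a) (h2 : b ≠ ng a) : I2 P (Fr.e a) (Fr.e b) :=
  hyp1_i2 (C.hy1 hN h1 h2)

theorem hy {a b e : BI k} (h1 : b ≠ a) (h2 : b ≠ ng a) (h3 : e ≠ a) (h4 : e ≠ ng a)
    (h5 : e ≠ b) (h6 : e ≠ ng b) : Hyp P (Fr.e a) (Fr.e (ng a)) (Fr.e b) (Fr.e e) :=
  ⟨C.one hN a, C.i2e hN h5 h6, Fr.orth _ _ h2, Fr.orth _ _ (by rwa [ng_ng]), Fr.orth _ _ h4,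
    Fr.orth _ _ (by rwa [ng_ng])⟩

theorem i2x (pq : p ≠ q) (h : p ≠ ng q) : I2 P (Fr.e (ng q)) (Fr.e p) :=
  C.i2e hN h (by rwa [ng_ng])

theorem X_add (pq : p ≠ q) (c d : F) :
    Xf φ c0 ρ y Fr p q (c + d) = Xf φ c0 ρ y Fr p q c * Xf φ c0 ρ y Fr p q d := by
  by_cases h : p = ng q
  · subst h; rw [XL, XL, XL, tv_add C.h]
  · rw [XS' h, XS' h, XS' h, C.xx_add (C.i2x hN pq h)]

theorem X_inv (pq : p ≠ q) (c : F) : (Xf φ c0 ρ y Fr p q c)⁻¹ = Xf φ c0 ρ y Fr p q c := by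
  by_cases h : p = ng q
  · subst h; rw [XL, tv_inv C.h]
  · rw [XS' h, C.xx_inv (C.i2x hN pq h)]

theorem X_inj (pq : p ≠ q) {c : F} (e : Xf φ c0 ρ y Fr p q c = 1) : c = 0 := by
  by_cases h : p = ng q
  · subst h; rw [XL] at e; exact (tv_eq_one C.h (Fr.e_ne_zero _)).1 e
  · rw [XS' h] at e; exact C.xx_inj (C.i2x hN pq h) e

theorem X_t (pq : p ≠ q) (c : F) :
    t * Xf φ c0 ρ y Fr p q c * t⁻¹ = Xf φ c0 ρ y Fr (ng q) (ng p) c := by
  by_cases h : p = ng q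
  · subst h
    rw [ng_ng, XL, (C.ht _ (ET_mem C.h _ _ _)).eq, mul_inv_cancel_right]
  · rw [XS' h, C.xx_t (C.i2x hN pq h), XS' (fun e => h (by rw [ng_inj.1 e, ng_ng])), ng_ng]

theorem X_mem (pq : p ≠ q) (c : F) : Xf φ c0 ρ y Fr p q c ∈ GA P φ L t := by
  by_cases h : p = ng q
  · subst h; rw [XL]; exact mem_sup_left (ET_mem C.h _ _ _)
  · rw [XS' h]; exact C.xx_mem (C.i2x hN pq h) c

theorem X_rel (pq : p ≠ q) (qm : q ≠ m) (pm : p ≠ m) (c d : F) :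
    ⁅Xf φ c0 ρ y Fr p q c, Xf φ c0 ρ y Fr q m d⁆ = Xf φ c0 ρ y Fr p m (c * d) := by
  have nm : ng m ≠ ng q := fun e => qm (ng_inj.1 e).symm
  by_cases h1 : p = ng q
  · subst h1
    have h2 : q ≠ ng m := ne_ng_symm pm.symm
    rw [XL, XS' h2, XS' nm.symm]
    exact C.r4 (C.hy1 hN h2.symm nm) c d
  by_cases h2 : q = ng m
  · subst h2
    have := C.r3 (C.hy1 hN pm pq) d c
    rw [XL, XS' h1, XS' pq, ng_ng, ← commutatorElement_inv, this, mul_comm d c,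
      C.xx_inv (C.i2x hN pm pq)]
  rw [← commutatorElement_inv, inv_eq_iff_eq_inv, C.X_inv hN pm, XS' h1, XS' h2, mul_comm c d]
  by_cases h3 : p = ng m
  · subst h3
    rw [XL]
    exact C.r2 (C.hy1 hN pq h1) d c
  · rw [XS' h3]
    exact C.r1 (C.hy hN (Ne.symm h2) nm pq h1 h3 (by rwa [ng_ng])) d c

theorem X_comA (pq : p ≠ q) (lm : l ≠ m) (pm : p ≠ m) (ql : q ≠ l)
    (h : ¬ (q = ng m ∧ l = ng p) ∨ p = ng q ∨ l = ng m) (c d : F) :
    Commute (Xf φ c0 ρ y Fr p q c) (Xf φ c0 ρ y Fr l m d) := by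
  have o : ∀ {a b : BI k}, b ≠ a → P.f (Fr.e (ng a)) (Fr.e b) = 0 := fun h =>
    Fr.orth _ _ (by rwa [ng_ng])
  have o' : ∀ {a b : BI k}, b ≠ a → P.f (Fr.e b) (Fr.e (ng a)) = 0 := fun h => by
    rw [fc C.h, o h]
  by_cases h1 : p = ng q
  · subst h1
    by_cases h2 : l = ng m
    · subst h2
      rw [XL, XL]
      exact comm_tv_tv C.h (o ql.symm) _ _
    · rw [XL, XS' h2]
      exact C.zt (C.i2x hN lm h2) (o pm) (o' ql.symm) _ _
  by_cases h2 : l = ng m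
  · subst h2
    rw [XL, XS' h1]
    exact (C.zt (C.i2x hN pq h1) (o ql.symm) (o' pm) _ _).symm
  rw [XS' h1, XS' h2]
  have h := h.resolve_right (not_or.2 ⟨h1, h2⟩)
  by_cases h3 : q = ng m
  · subst h3
    have h4 : l ≠ ng p := fun e => h ⟨rfl, e⟩
    rw [ng_ng]
    by_cases h5 : l = p
    · subst h5
      exact C.z2 (C.hy1 hN pm pq) c d
    · exact C.z1 (C.hy hN pm pq lm h2 h5 h4) c d
  by_cases h4 : l = ng p
  · subst h4
    have a1 : ∀ {r : BI k}, p ≠ r → ng r ≠ ng p := fun h e => h (ng_inj.1 e).symm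
    by_cases h5 : m = q
    · subst h5
      exact C.z2' (C.hy1 hN (Ne.symm h1) (a1 pq)) c d
    · exact C.z1' (C.hy hN (Ne.symm h1) (a1 pq) (fun e => lm (by rw [← e, ng_ng]))
        (a1 pm) (fun e => h5 (ng_inj.1 e)) (by rw [ng_ng]; exact Ne.symm h3)) c d
  · exact C.z0 (C.i2x hN pq h1) (C.i2x hN lm h2) (o (Ne.symm h3)) (o ql.symm) (o' pm)
      (Fr.orth _ _ h4) c d

theorem X_com (hk : 3 ≤ k) (pq : p ≠ q) (lm : l ≠ m) (pm : p ≠ m) (ql : q ≠ l) (c d : F) :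
    Commute (Xf φ c0 ρ y Fr p q c) (Xf φ c0 ρ y Fr l m d) := by
  by_cases h : ¬ (q = ng m ∧ l = ng p) ∨ p = ng q ∨ l = ng m
  · exact C.X_comA hN pq lm pm ql h c d
  push Not at h
  obtain ⟨⟨rfl, rfl⟩, -⟩ := h
  obtain ⟨r, h1, h2⟩ := third hk p m
  obtain ⟨h3, h4⟩ := fst_ne_iff.1 h1.symm
  obtain ⟨h5, h6⟩ := fst_ne_iff.1 h2.symm
  rw [← mul_one d, ← C.X_rel hN h4.symm h5.symm lm d 1]
  have c1 := C.X_comA hN pq h4.symm h3 ql (Or.inl fun e => h5 (ng_inj.1 e.1)) c d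
  have c2 := C.X_comA hN pq h5.symm pm h6.symm (Or.inl fun e => h4 e.2) c 1
  rw [commutatorElement_def]
  exact ((c1.mul_right c2).mul_right c1.inv_right).mul_right c2.inv_right

theorem L_le [FiniteDimensional F V] (hk : 1 ≤ k) (g1 : G1 P k) {U : Subgroup G}
    (hU : ∀ p q, p ≠ q → ∀ c, Xf φ c0 ρ y Fr p q c ∈ U) : L ≤ U := by
  have key : ∀ a b, b ≠ ng a → Fr.X a b ≤ (U.comap φ).map P.E.subtype := by
    intro a b hb g hg
    refine ⟨⟨g, Frame.X_le_E a b hg⟩, ?_, rfl⟩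
    by_cases hab : a = b
    · subst hab
      obtain ⟨w, ν, hw, -, rfl⟩ := Frame.mem_XL.1 hg
      rw [g1.v0, Submodule.mem_bot] at hw
      subst hw
      have := hU (ng (ng a)) (ng a) (ng_ne _) ν
      rw [XL, ng_ng] at this
      exact this
    · obtain ⟨s, rfl⟩ := (Frame.mem_XS (fst_ne_iff.2 ⟨hab, hb⟩)).1 hg
      have h1 := hU b (ng a) hb s
      have h2 := hU a (ng b) (ne_ng_symm hb) s
      rw [XS' (by rw [ng_ng]; exact Ne.symm hab), ng_ng] at h1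
      rw [XS' (by rw [ng_ng]; exact hab), ng_ng] at h2
      have := mul_mem h1 h2
      rw [C.xx_mul (C.i2e hN (Ne.symm hab) hb)] at this
      exact this
  intro g hg
  obtain ⟨e, rfl⟩ := exists_φ C.h hg
  have h1 : e.1 ∈ (U.comap φ).map P.E.subtype := by
    refine (show P.E ≤ _ from ?_) e.2
    conv_lhs => rw [← Fr.iSup_X hk]
    exact iSup_le fun a => iSup_le fun b => iSup_le fun h => key a b h
  obtain ⟨e', h2, h3⟩ := h1
  obtain rfl : e' = e := Subtype.ext h3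
  exact h2

theorem GA_le [FiniteDimensional F V] (hk : 3 ≤ k) (g1 : G1 P k) {U : Subgroup G}
    (hU : ∀ p q, p ≠ q → ∀ c, Xf φ c0 ρ y Fr p q c ∈ U) : GA P φ L t ≤ U := by
  have hL := C.L_le hN (by omega) g1 hU
  refine sup_le hL ((closure_le _).2 ?_)
  rintro g ⟨u, w, H, hg⟩
  obtain ⟨b, s, hs, rfl⟩ := (C.Y.canon u w H g).1 hg
  have hS : S2 P φ {u, w} ≤ L := (closure_le _).2 (by
    rintro _ ⟨z, -, c, rfl⟩
    exact ET_mem C.h _ _ _)
  refine mul_mem ?_ (hL (hS hs))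
  let a : BI k := (⟨0, by omega⟩, false)
  obtain ⟨r, h1, -⟩ := third hk a a
  obtain ⟨h3, h4⟩ := fst_ne_iff.1 h1.symm
  have H0 := C.i2e hN h3.symm h4
  obtain ⟨e, e1, e2⟩ := Cfsg.Agent.H70.SpH.witt2 C.h g1 H0 H
  rw [← e1, ← e2, ← ys_conj C.Y H0, C.y_eq]
  have h5 := hU r (ng a) h4 b
  rw [XS' (by rw [ng_ng]; exact h3.symm), ng_ng] at h5
  have h6 := hL (φ_mem C.h e)
  exact mul_mem (mul_mem h6 (mul_mem (hL (ET_mem C.h _ _ _)) h5)) (inv_mem h6)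

end Cx

end

theorem exists_idx {n k : ℕ} (hn : n + 1 = 2 * k) :
    ∃ σ : Fin (n + 1) → BI k, Function.Bijective σ ∧ ∀ i, σ i.rev = ng (σ i) := by
  refine ⟨fun i => if h : (i : ℕ) < k then (⟨i, h⟩, false) else (⟨n - i, by omega⟩, true), ?_, ?_⟩
  · rw [Fintype.bijective_iff_injective_and_card]
    refine ⟨fun i j e => ?_, by simp [hn, mul_comm]⟩
    have := i.2
    have := j.2
    dsimp only at e
    split_ifs at e <;> simp only [Prod.mk.injEq, Fin.mk.injEq, Bool.false_eq_true,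
      Bool.true_eq_false, and_false, and_true] at e <;> exact Fin.ext (by omega)
  · intro i
    have := i.2
    dsimp only
    simp only [Fin.val_rev]
    split_ifs with h1 h2 h2
    · omega
    · exact Prod.ext (Fin.ext (by simp [ng])) rfl
    · exact Prod.ext (Fin.ext (by simp [ng]; omega)) rfl
    · omega

theorem rl0x [FiniteDimensional F V] (c : Ctx P φ L k t) (Y : Y1 P φ L t 1 y)
    (S : Sh P φ 1 c0 y) (A : AddU P φ c0 y) (hρ : ρ * ρ + ρ = c0) {n : ℕ} (hn : n + 1 = 2 * k) :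
    ∃ (b : Fin (n + 1) → V) (x : An.Φ n → F → G),
      (∀ i j, P.f (b i) (b j) = if j = Fin.rev i then 1 else 0) ∧ Pin (An.R n) x ∧
      (∀ r a, t * x r a * t⁻¹ = x (An.γ n r) a) ∧ UU x Set.univ = GA P φ L t ∧
      (∀ i j h c, i ≠ Fin.rev j →
        x (An.rt i j h) c = xx P φ c0 ρ y (b (Fin.rev j)) (b i) c) ∧
      ∀ i h c, x (An.rt i (Fin.rev i) h) c = tv P φ (b i) c := by
  have C := cx_of c Y S A hρ
  have hk := c.k3
  obtain ⟨Fr, hN, -⟩ := c.g1.fr (m := 0) Fin.elim0 Fin.elim0 (fun i => i.elim0)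
    linearIndependent_empty_type fun i => i.elim0
  obtain ⟨σ, hσ, hr⟩ := exists_idx hn
  refine ⟨fun i => Fr.e (σ i), fun r a => Xf φ c0 ρ y Fr (σ r.1.1) (σ r.1.2) a, fun i j => ?_,
    ⟨C.h.two, fun r => C.X_add hN (hσ.1.ne r.2), fun r s e a d => ?_, fun r s q e a d => ?_,
      fun r _ e => C.X_inj hN (hσ.1.ne r.2) e⟩, fun r a => ?_, le_antisymm ?_ ?_,
    fun i j h a hij => ?_, fun i h a => ?_⟩
  · dsimp only
    split_ifs with h
    · rw [h, hr]; exact C.one hN _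
    · exact Fr.orth _ _ (by rw [← hr]; exact hσ.1.ne h)
  · obtain ⟨j, l, jl, rfl⟩ := An.exists_rt r
    obtain ⟨m, o, mo, rfl⟩ := An.exists_rt s
    obtain ⟨h1, h2⟩ := H45.An.com_cases e
    exact C.X_com hN hk (hσ.1.ne jl) (hσ.1.ne mo) (hσ.1.ne h2.symm) (hσ.1.ne h1) a d
  · obtain ⟨j, l, jl, rfl⟩ := An.exists_rt r
    obtain ⟨m, o, mo, rfl⟩ := An.exists_rt s
    obtain ⟨p, q, pq, rfl⟩ := An.exists_rt q
    rcases H45.An.rel_cases e with ⟨rfl, rfl, rfl⟩ | ⟨rfl, rfl, rfl⟩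
    · exact C.X_rel hN (hσ.1.ne jl) (hσ.1.ne mo) (hσ.1.ne pq) a d
    · have := C.X_rel hN (hσ.1.ne mo) (hσ.1.ne jl) (hσ.1.ne pq) d a
      rw [← commutatorElement_inv, inv_eq_iff_eq_inv, C.X_inv hN (hσ.1.ne pq), mul_comm] at this
      exact this
  · rw [C.X_t hN (hσ.1.ne r.2), ← hr, ← hr]
    rfl
  · exact UU_le fun r _ a => C.X_mem hN (hσ.1.ne r.2) a
  · refine C.GA_le hN hk c.g1 fun p q pq a => ?_
    obtain ⟨i, rfl⟩ := hσ.2 p
    obtain ⟨j, rfl⟩ := hσ.2 q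
    exact x_mem_UU (x := fun (r : An.Φ n) a => Xf φ c0 ρ y Fr (σ r.1.1) (σ r.1.2) a)
      (r := An.rt i j fun e => pq (congrArg σ e)) (Set.mem_univ _) a
  · change Xf φ c0 ρ y Fr (σ i) (σ j) a = _
    rw [XS' (by rw [← hr]; exact hσ.1.ne hij), ← hr]
  · change Xf φ c0 ρ y Fr (σ i) (σ i.rev) a = _
    rw [Xf, if_pos (by rw [hr, ng_ng])]

theorem rl0 : RL0Stmt.{u, v} := by
  intro F V _ _ _ _ _ G _ _ P φ L k t c c0 y Y S A ρ hρ n hn
  obtain ⟨b, x, h1, h2, h3, h4, -, h6⟩ := rl0x c Y S A hρ hn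
  refine ⟨x, h2, h3, h4, fun r hr => ?_⟩
  obtain ⟨i, j, h, rfl⟩ := An.exists_rt r
  rw [An.γ_rt, An.rt_inj] at hr
  obtain rfl := hr.2
  refine ⟨b i, fun e => ?_, h6 i h⟩
  have := h1 i i.rev
  rw [e, P.f_zero_left, if_pos rfl] at this
  exact zero_ne_one this

end Cfsg.Agent.H69.SpRl
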