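import Cfsg.Agent.H53.FMDefs
import Cfsg.Agent.H83.Trans
import Cfsg.Agent.S3736

/-! Project FPM, piece M1: small elements lie in `O₂(H mod C(R))`. -/

set_option autoImplicit false
set_option linter.unusedSectionVars false

namespace Cfsg.Agent.H69.FmNS

open Subgroup Cfsg Cfsg.Agent.H63 Cfsg.Agent.H67 Cfsg.Agent.H53.OpK Cfsg.Agent.H53.FM
open Cfsg.Agent.H83 (PMod)
open Cfsg.Agent.H85.FP (Small Rad)
open scoped commutatorElement

universe u

variable {Γ : Type u} [Group Γ] [Finite Γ] {A H K N P R : Subgroup Γ} {b c g : Γ} {p : ℕ}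

theorem small_idx (h : Small R b) : C1[b].relIndex R ≤ 4 := by
  have := h.card
  rw [← card_inf_mul_relIndex C1[b] R, inf_comm, mul_comm] at this
  exact Nat.le_of_mul_le_mul_right this Nat.card_pos

theorem small_of (h1 : b ∈ N[R]) (h2 : b * b ∈ C[R]) (h3 : C1[b].relIndex R ≤ 4) : Small R b :=
  ⟨h1, h2, by
    rw [← card_inf_mul_relIndex C1[b] R, inf_comm, mul_comm]
    exact Nat.mul_le_mul_right _ h3⟩

theorem small_le (h : Small R b) (le : K ≤ R) (n : b ∈ N[K]) : Small K b :=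
  small_of n (centralizer_anti le h.sq)
    ((relIndex_le_of_le_right le index_ne_zero_of_finite).trans (small_idx h))

theorem small_quo (h : Small R b) (hR : R ≤ N[K]) (hb : b ∈ N[K]) : Small (R /ᵍ K) (coset K b) :=
  small_of (quo_norm R K (coset_mem_quo hb h.nrm))
    (coset_mul hb hb ▸ quo_cent R K (coset_mem_quo (mul_mem hb hb) h.sq))
    ((relIndex_le_of_le_left (quo_cent1 hb) index_ne_zero_of_finite).trans
      ((Nat.le_of_dvd (Nat.pos_of_ne_zero index_ne_zero_of_finite) (relIndex_quo_dvd hR)).trans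
        (small_idx h)))

theorem small_conj (h : Small R b) (hg : g ∈ N[R]) : Small R (g * b * g⁻¹) :=
  small_of (mul_mem (mul_mem hg h.nrm) (inv_mem hg))
    (by rw [conj_mul]; exact conj_mem_of_mem_normalizer (normalizer_le_normalizer_centralizer R hg) h.sq)
    (by rw [← cj_centralizer_singleton, ← cj_eq_self hg, relIndex_cj]; exact small_idx h)

theorem small_congr (h : Small R b) (hc : c ∈ C[R]) : Small R (b * c) := by
  refine ⟨mul_mem h.nrm (centralizer_le_normalizer _ hc), ?_, h.card.trans (Nat.mul_le_mul_left _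
    (card_le_of_le fun v hv => ⟨hv.1, mem_centralizer_singleton_iff.2 ?_⟩))⟩
  · rw [show b * c * (b * c) = b * b * (b⁻¹ * c * b) * c by group]
    exact mul_mem (mul_mem h.sq (conj_mem_of_mem_normalizer'
      (normalizer_le_normalizer_centralizer R h.nrm) hc)) hc
  · rw [← mul_assoc, mem_centralizer_singleton_iff.1 hv.2, mul_assoc, hc v hv.1, mul_assoc]

theorem core (hAb : CoreAbStmt.{u}) (hSp : CoreSpStmt.{u}) (c : Core p A R P N) (hb : b ∈ N)
    (s : Small R b) : b ∈ C[P] := by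
  have := Fact.mk c.pp
  by_contra n
  obtain ⟨M, hM⟩ : ∃ M, M = closure {x | x ∈ N ∧ Small R x} := ⟨_, rfl⟩
  have le : M ≤ N := hM ▸ (closure_le _).2 fun _ h => h.1
  have nM : N ⊔ A ≤ N[M] := fun g hg => mem_normalizer_of_cj_le (by
    rw [hM, cj_closure]
    refine closure_mono ?_
    rintro _ ⟨x, hx, rfl⟩
    exact ⟨conj_mem_of_mem_normalizer (sup_le le_normalizer c.AN hg) hx.1,
      small_conj hx.2 (sup_le c.NR c.AR hg)⟩)
  have cb : ∀ U : Subgroup Γ, ⁅U, M⁆ = ⊥ ↔ ∀ x ∈ N, Small R x → x ∈ C[U] := fun U => by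
    rw [commutator_eq_bot_iff_le_centralizer, le_centralizer_iff, hM, closure_le]
    exact ⟨fun h x h1 h2 => h ⟨h1, h2⟩, fun h x hx => h x hx.1 hx.2⟩
  obtain ⟨Q, QP, ⟨h1, h2⟩, hm⟩ := exists_minimal_le (fun U => N ⊔ A ≤ N[U] ∧ ⁅U, M⁆ ≠ ⊥)
    (H := P) ⟨sup_le c.NP c.AP, fun e => n ((cb P).1 e b hb s)⟩
  have hm' : ∀ U < Q, N ⊔ A ≤ N[U] → ⁅U, M⁆ = ⊥ := fun U hU hn =>
    by_contra fun e => hU.ne (hm U ⟨hn, e⟩ hU.le)
  have c0 : Core p A R Q N := { c with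
    pP := c.pP.to_le QP
    op := c.op.sub (sup_le_sup_right (sup_le_sup_left QP _) _)
      (le_normalizer_sup (le_normalizer_sup c.AR (le_sup_right.trans h1)) c.AN)
    AP := le_sup_right.trans h1
    NP := le_sup_left.trans h1
    PR := QP.trans c.PR
    faith := eq_bot_iff.2 ((inf_le_inf_right _ QP).trans c.faith.le) }
  obtain ⟨k, hk⟩ := IsPGroup.iff_card.1 (c.pN.to_le le)
  obtain ⟨-, h3, -, h4⟩ := S3736.result (N ⊔ A) M Q c0.pP h1 (le.trans le_sup_left) nM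
    (hk ▸ ((Nat.coprime_primes Nat.prime_two c.pp).2 c.p2.symm).pow_left k) h2 hm'
  refine h2 ((cb Q).2 fun x hx hs => ?_)
  by_cases ab : Q ≤ C[Q]
  · exact hAb Γ p A R Q N c0 ⟨le_centralizer_iff_isMulCommutative.1 ab, h4 c.p2⟩ x hx hs
  obtain h3 | h3 := h3
  · exact hAb Γ p A R Q N c0 h3 x hx hs
  refine hSp Γ p A R Q N c0 (h4 c.p2) ?_ x hx hs ((cb _).1 (hm' _
    (inf_le_left.lt_of_ne fun e => ab (inf_eq_left.1 e))
    (h1.trans (normalizer_le_normalizer_center Q))) x hx hs)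
  rw [← map_subtype_subgroupOf (H83.comm_le_left (le_normalizer (H := Q))), commutator_subgroupOf_self, h3.2.2,
    map_center_subtype]
  exact inf_le_right

theorem core' (hAb : CoreAbStmt.{u}) (hSp : CoreSpStmt.{u}) (pp : p.Prime) (p2 : p ≠ 2)
    (ea : IsElementaryAbelian 2 R) (pP : IsPGroup p P) (pN : IsPGroup 2 N) (op : Op A (R ⊔ P ⊔ N))
    (AR : A ≤ N[R]) (AP : A ≤ N[P]) (AN : A ≤ N[N]) (NR : N ≤ N[R]) (NP : N ≤ N[P]) (PR : P ≤ N[R])
    (hb : b ∈ N) (s : Small R b) (hg : g ∈ P) : ⁅g, b⁆ ∈ C[R] := by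
  have := Fact.mk pp
  have k : ∀ {X : Subgroup Γ}, X ≤ N[P] → X ≤ N[R] → X ≤ N[P ⊓ C[R]] := fun h1 h2 =>
    le_normalizer_inf h1 (le_normalizer_centralizer h2)
  have h1 : R ≤ N[P ⊓ C[R]] := le_normalizer_of_le_centralizer' inf_le_right
  have h2 := k le_normalizer PR
  have h3 := k NP NR
  have pO := pP.to_le (inf_le_left : P ⊓ C[R] ≤ P)
  have := (pO.to_le (inf_le_right : (R ⊔ P ⊔ N) ⊓ (P ⊓ C[R]) ≤ _)).isNilpotent
  have op' := op.quo (sup_le (sup_le h1 h2) h3) (k AP AR) inferInstance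
  rw [quo_sup (sup_le h1 h2) h3, quo_sup h1 h2] at op'
  have c := core hAb hSp ⟨pp, p2, quo_isElementaryAbelian _ ea, quo_isPGroup _ pP,
    quo_isPGroup _ pN, op', quo_norms _ AR, quo_norms _ AP, quo_norms _ AN, quo_norms _ NR,
    quo_norms _ NP, quo_norms _ PR, eq_bot_iff.2 fun y hy => ?_⟩ (coset_mem_quo (h3 hb) hb)
    (small_quo s h1 (h3 hb))
  · refine ((coset_eq_one_iff (h2 (H83.comm_le_left NP (commutator_mem_commutator hg hb)))).1 ?_).2
    rw [coset_commutator (h2 hg) (h3 hb), commutatorElement_eq_one_iff_mul_comm]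
    exact c _ (coset_mem_quo (h2 hg) hg)
  obtain ⟨x, hx, n, rfl⟩ := mem_quo.1 hy.1
  refine coset_eq_one ⟨hx, fun r hr => commutatorElement_eq_one_iff_mul_comm.1 ?_⟩
  have m := H83.comm_le_left PR (commutator_mem_commutator hr hx)
  refine (IsPGroup.disjoint_of_ne p 2 p2 _ _ pO (elemAb_isPGroup ea)).le_bot
    ⟨(coset_eq_one_iff (h1 m)).1 ?_, m⟩
  rw [coset_commutator (h1 hr) n, commutatorElement_eq_one_iff_mul_comm]
  exact hy.2 _ (coset_mem_quo (h1 hr) hr)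

theorem irr (hAb : CoreAbStmt.{u}) (hSp : CoreSpStmt.{u}) (op : Op A H) (sol : Group.IsSolvable H)
    (le : R ≤ H) (ea : IsElementaryAbelian 2 R) (HR : H ≤ N[R]) (AR : A ≤ N[R]) (ne : R ≠ ⊥)
    (hm : ∀ U ≤ R, H ⊔ A ≤ N[U] → U ≠ ⊥ → U = R) (hb : b ∈ H) (s : Small R b) : b ∈ C[R] := by
  by_contra n
  have hC := le_normalizer_centralizer (sup_le HR AR)
  have HC := le_sup_left.trans hC
  obtain ⟨X, hX⟩ : ∃ X : ℕ → Subgroup Γ, ∀ q, X q = H ⊓ cosetpre C[R] O[{q}](H /ᵍ C[R]) :=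
    ⟨_, fun _ => rfl⟩
  have XH : ∀ q, X q ≤ H := fun q => (hX q).le.trans inf_le_left
  have nX : ∀ q, H ⊔ A ≤ N[X q] := fun q => hX q ▸ le_normalizer_inf (sup_le le_normalizer op.norm)
    (le_norm_cosetpre hC (le_normalizer_piCoreOf (quo_norms _ (sup_le le_normalizer op.norm))))
  have pX : ∀ q, q.Prime → PMod q (X q) C[R] := fun q hq x hx => by
    obtain ⟨h1, h2⟩ := mem_cosetpre.1 ((hX q).le hx).2
    obtain ⟨k, hk⟩ := isPGroup_pCoreOf hq _ ⟨_, h2⟩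
    exact ⟨k, (coset_eq_one_iff (pow_mem h1 _)).1 (coset_pow h1 _ ▸ congrArg Subtype.val hk)⟩
  have qX : ∀ q, X q /ᵍ C[R] = O[{q}](H /ᵍ C[R]) := fun q => by
    rw [hX, quo_inf_cosetpre, inf_eq_right.2 (piCoreOf_le _ _)]
  have h2 : O[{2}](H /ᵍ C[R]) = ⊥ := qX 2 ▸ quo_eq_bot_of_le (le_centralizer_iff.1 (inf_eq_left.1
    (hm _ inf_le_left (le_normalizer_inf (sup_le HR AR) (le_normalizer_centralizer (nX 2)))
      (H83.inf_cent_ne_bot_of_pMod (elemAb_isPGroup ea) ((XH 2).trans HR) (pX 2 Nat.prime_two) ne))))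
  obtain ⟨p, pp, hp⟩ : ∃ p : ℕ, p.Prime ∧ ¬ O[{p}](H /ᵍ C[R]) ≤ C1[coset C[R] b] := by
    by_contra! k
    have m := cent_sub_Fitting (quo_isSolvable _ sol) ⟨coset_mem_quo (HC hb) hb,
      mem_centralizer_iff_le.2 (fittingOf_le_of_forall fun q hq _ => k q hq)⟩
    exact n ((coset_eq_one_iff (HC hb)).1 (h2.le (le_pCoreOf_of_le_fittingOf Nat.prime_two
      (zpowers_le.2 m) (H83.isPGroup_zpowers (k := 1) (by
        rw [pow_one, sq, ← coset_mul (HC hb) (HC hb), coset_eq_one s.sq])) (mem_zpowers _))))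
  have := Fact.mk pp
  obtain ⟨P, hP, AP⟩ := (op.sub (XH p) (le_sup_right.trans (nX p))).exists_sylow
    (isSolvable_of_le sol (XH p)) p
  have PH := hP.le.trans (XH p)
  have XP := hP.le_sup_of_pMod ((XH p).trans HC) (pX p pp)
  obtain ⟨N, hN, AN⟩ := (op.sub (inf_le_left : H ⊓ N[P] ≤ H) (le_normalizer_inf op.norm
    (le_normalizer_normalizer AP))).exists_sylow (isSolvable_of_le sol inf_le_left) 2
  have NH := hN.le.trans inf_le_left
  obtain ⟨a, ha, x, hx, e⟩ := hP.frattini' (nX p (mem_sup_left hb))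
  obtain ⟨y, hy, c, hc, rfl⟩ := (mem_sup_of_le_normalizer (PH.trans HC)).1 (sup_comm _ P ▸ XP hx)
  have m : a * y ∈ H ⊓ N[P] := ⟨mul_mem ((mul_mem_cancel_right (XH p hx)).1 (e ▸ hb)) (PH hy),
    mul_mem ha (le_normalizer hy)⟩
  obtain ⟨j, k, h3, h4⟩ := H83.exists_coprime_pow_pelt (p := 2) (a * y)
  obtain ⟨j, rfl⟩ := Nat.coprime_two_right.1 h3
  have e' : a * y = b * c⁻¹ := by rw [e]; group
  have s1 := e' ▸ small_congr s (inv_mem hc)
  have c1 : (a * y) ^ (2 * j) ∈ C[R] := by rw [pow_mul, sq]; exact pow_mem s1.sq j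
  have s2 := pow_succ' (a * y) _ ▸ small_congr s1 c1
  have m' := pow_mem m (2 * j + 1)
  obtain ⟨h, hh, h5⟩ := hN.exists_conj_le (zpowers_le.2 m') (H83.isPGroup_zpowers h4)
  refine hp (qX p ▸ (quo_mono _ XP).trans ((sup_quo_left (PH.trans HC)).trans_le fun z hz => ?_))
  obtain ⟨g, hg, gn, rfl⟩ := mem_quo.1 hz
  have := core' hAb hSp pp (fun e => hp (e ▸ h2 ▸ bot_le)) ea hP.isPGroup hN.isPGroup (op.sub
    (sup_le (sup_le le PH) NH) (le_normalizer_sup (le_normalizer_sup AR AP) AN)) AR AP AN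
    (NH.trans HR) (hN.le.trans inf_le_right) (PH.trans HR) (h5 (H83.conj_mem_cj (mem_zpowers _)))
    (small_conj s2 (HR hh.1)) (conj_mem_of_mem_normalizer hh.2 hg)
  rw [← conjugate_commutatorElement, ← (mem_normalizer_iff.1 (HC hh.1) _)] at this
  have e2 : coset C[R] ((a * y) ^ (2 * j + 1)) = coset C[R] b := by
    rw [eq_comm, coset_eq_iff (HC hb) (HC m'.1), pow_succ', ← mul_assoc]
    exact mul_mem (by rw [e', inv_mul_cancel_left]; exact inv_mem hc) c1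
  rw [mem_centralizer_singleton_iff, ← e2, ← commutatorElement_eq_one_iff_mul_comm,
    ← coset_commutator gn (HC m'.1), coset_eq_one this]

theorem ns (hAb : CoreAbStmt.{u}) (hSp : CoreSpStmt.{u}) : NSStmt.{u} := by
  intro Γ _ _ H A R
  induction' hn : Nat.card R using Nat.strong_induction_on with n ih generalizing Γ
  intro op sol le ea HR AR b hb s
  by_cases h0 : R = ⊥
  · exact ⟨H, hb, le_rfl, le_normalizer, .of_le (by rw [h0, centralizer_bot]; exact le_top)⟩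
  by_cases hm : ∀ U ≤ R, H ⊔ A ≤ N[U] → U ≠ ⊥ → U = R
  · exact ⟨H ⊓ C[R], ⟨hb, irr hAb hSp op sol le ea HR AR h0 hm hb s⟩, inf_le_left,
      (inf_centralizer_normalIn HR).norm, .of_le inf_le_right⟩
  push Not at hm
  obtain ⟨U, lU, nU, ne, ne'⟩ := hm
  have HU := le_sup_left.trans nU
  have AU := le_sup_right.trans nU
  obtain ⟨K1, b1, l1, n1, m1⟩ := ih _ (hn ▸ card_lt_of_lt (lU.lt_of_ne ne')) Γ H A U rfl op sol
    (lU.trans le) ⟨isMulCommutative_of_le ea.1 lU, fun a ha => ea.2 a (lU ha)⟩ HU AU b hb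
    (small_le s lU (HU hb))
  obtain ⟨K2, b2, -, n2, m2⟩ := ih _ (hn ▸ card_quo_lt ⟨lU, le.trans HU⟩ ne) _ (H /ᵍ U) (A /ᵍ U)
    (R /ᵍ U) rfl (op.quo HU AU (isSolvable_of_le sol inf_le_left)) (quo_isSolvable _ sol)
    (quo_mono _ le) (quo_isElementaryAbelian _ ea) (quo_norms _ HR) (quo_norms _ AR) _
    (coset_mem_quo (HU hb) hb) (small_quo s (le.trans HU) (HU hb))
  refine ⟨K1 ⊓ cosetpre U K2, ⟨b1, mem_cosetpre.2 ⟨HU hb, b2⟩⟩, inf_le_left.trans l1,
    le_normalizer_inf n1 (le_norm_cosetpre HU n2), fun d hd => ?_⟩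
  obtain ⟨k, hk⟩ := m1 d hd.1
  obtain ⟨j, hj⟩ := m2 _ (mem_cosetpre.1 hd.2).2
  have dn := HU (l1 hd.1)
  refine ⟨k + j + 1, fun r hr => ?_⟩
  have h1 : d ^ 2 ^ (k + j) ∈ C[U] := by rw [pow_add, pow_mul]; exact pow_mem hk _
  have h2 : coset U (d ^ 2 ^ (k + j)) ∈ C[R /ᵍ U] := by
    rw [coset_pow dn, add_comm, pow_add, pow_mul]; exact pow_mem hj _
  have h3 := pow_mem dn (2 ^ (k + j))
  rw [pow_succ, pow_mul, sq]
  generalize d ^ 2 ^ (k + j) = e at *
  have rn := HU (le hr)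
  have h4 : (r * e)⁻¹ * (e * r) ∈ U := (coset_eq_iff (mul_mem rn h3) (mul_mem h3 rn)).1 (by
    rw [coset_mul rn h3, coset_mul h3 rn, h2 _ (coset_mem_quo rn hr)])
  have h5 := ea.2 _ (lU h4)
  have h6 := h1 _ h4
  generalize ht : (r * e)⁻¹ * (e * r) = t at *
  have h7 : e * r = r * e * t := by rw [← ht, mul_inv_cancel_left]
  rw [mul_assoc e, h7, ← mul_assoc e, ← mul_assoc e, h7, mul_assoc _ t, h6, mul_assoc (r * e),
    mul_assoc e t, ← sq t, h5, mul_one, mul_assoc]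

end Cfsg.Agent.H69.FmNS
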