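import Cfsg.Agent.H88.FPSp
import Cfsg.Agent.H8.FmK4
import Cfsg.Agent.H46.FMMerge
import Cfsg.Agent.H69.FmNS

/-! The core cases of the module lemma for both kinds of operator groups (the structural lemmas
are those of `H88.FP`, restated for `H53.FM.Core`). -/

set_option autoImplicit false
set_option linter.unusedSectionVars false
set_option linter.unusedVariables false

namespace Cfsg.Agent.H69.FmC

open Cfsg Cfsg.Agent.H63 Cfsg.Agent.H67 Cfsg.Agent.H69 Cfsg.Agent.H88 Cfsg.Agent.H53.OpK Subgroup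
open Cfsg.Agent.H85.FP (Small)
open Cfsg.Agent.H88.FP (cj_W card_W_cj not_mem_cj)
open scoped IsMulCommutative commutatorElement

universe u

variable {X : Type u} [Group X] [Finite X] {p : ℕ} {A R P N : Subgroup X}

theorem k4c {H V : Subgroup X} (op : Op A H) (f : H ⊓ C[A] = ⊥) (sol : Group.IsSolvable H)
    (le : V ≤ H) (ea : IsElementaryAbelian 2 V) (HV : H ≤ N[V]) (AV : A ≤ N[V]) {y : X}
    (hy : y ∈ H) (o : Odd (orderOf y)) : Nat.card ↥⁅V, zpowers y⁆ ≠ 4 := fun c => by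
  refine H8.Fm.k4 H46.FMM.merge X A H V (zpowers y) op f sol le ea HV AV (zpowers_le.2 hy)
    (Nat.card_zpowers y ▸ o) ⟨fun e => by simp [e] at c, fun v hv w hw v1 w1 => ?_⟩
  obtain ⟨k, hk⟩ := IsPGroup.iff_card.1 (elemAb_isPGroup ea)
  have ti := coprime_abel_cent_TI (zpowers_le.2 (HV hy)) (by
    rw [Nat.card_zpowers, hk]; exact (Nat.coprime_two_right.2 o).pow_right k) ea.1
  rw [centralizer_zpowers] at ti
  have yW := le_norm_commutator_right V _ (mem_zpowers y)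
  generalize ⁅V, zpowers y⁆ = W at *
  have nf : ∀ u ∈ W, u ≠ 1 → y * u * y⁻¹ ≠ u := fun u hu u1 e => u1 (ti.le ⟨hu,
    mem_centralizer_singleton_iff.2 (mul_inv_eq_iff_eq_mul.1 e).symm⟩)
  by_contra! n
  have m1 := conj_mem_of_mem_normalizer yW hv
  have m2 := conj_mem_of_mem_normalizer yW m1
  have a1 : y * v * y⁻¹ ≠ 1 := by simpa using v1
  have a2 : y * (y * v * y⁻¹) * y⁻¹ ≠ 1 := by simpa using v1
  have a3 : y * (y * v * y⁻¹) * y⁻¹ ≠ v := fun e => nf v hv v1 (mul_inv_eq_iff_eq_mul.2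
    (mem_centralizer_singleton_iff.1 (mem_of_pow_mem_of_coprime (Nat.coprime_two_right.2 o)
      (mem_centralizer_singleton_iff.2 (by nth_rw 2 [← e]; rw [sq]; group)))))
  have a4 : v ≠ w := by simpa using n 1 (one_mem _)
  have a5 := n y (mem_zpowers y)
  have a6 : y * (y * v * y⁻¹) * y⁻¹ ≠ w := by
    simpa [mul_assoc] using n _ (mul_mem (mem_zpowers y) (mem_zpowers y))
  have a7 := nf v hv v1
  have a8 := nf _ m1 a1
  generalize y * (y * v * y⁻¹) * y⁻¹ = v2 at *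
  generalize y * v * y⁻¹ = v' at *
  have := Set.ncard_le_ncard (s := {1, v, v', v2, w}) (t := (W : Set X))
    (by simp [Set.insert_subset_iff, *])
  rw [show (W : Set X).ncard = 4 from c,
    Set.ncard_insert_of_notMem (by simp [Ne.symm, *]), Set.ncard_insert_of_notMem (by
      simp [Ne.symm, *]), Set.ncard_insert_of_notMem (by simp [Ne.symm, *]),
    Set.ncard_pair a6] at this
  omega

section Core

variable (h : H53.FM.Core p A R P N)
include h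

theorem pR : IsPGroup 2 R := isPGroup_of_elemAb h.ea

theorem cPR : (Nat.card P).Coprime (Nat.card R) := coprime_pp h.pp Nat.prime_two h.p2 h.pP (pR h)

theorem odd {y : X} (hy : y ∈ P) : Odd (orderOf y) :=
  Nat.coprime_two_right.1 (Tu.ord_cop h.pp h.pP hy (Tu.cpp h.pp Nat.prime_two h.p2))

theorem sol : Group.IsSolvable ↥(R ⊔ P ⊔ N) :=
  sup_comm N _ ▸ isSolvable_sup (sol_p Nat.prime_two h.pN) (sup_comm P R ▸ isSolvable_sup
    (sol_p h.pp h.pP) (sol_p Nat.prime_two (pR h)) h.PR) (le_normalizer_sup h.NR h.NP)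

theorem fp_of (P0 : P ≠ ⊥) (c : (Nat.card A).Coprime (Nat.card ↥(R ⊔ P ⊔ N))) :
    H85.FP.Core p A R P N := by
  have := Fact.mk h.pp
  have k : ∀ {q : ℕ} [Fact q.Prime] {Y : Subgroup X}, IsPGroup q Y → Y ≠ ⊥ → Y ≤ R ⊔ P ⊔ N →
      (Nat.card A).Coprime q := fun hY n le => c.coprime_dvd_right
    ((hY.card_eq_or_dvd.resolve_left fun e => n (card_eq_one.1 e)).trans (card_dvd_of_le le))
  have d : ∀ {Y : Subgroup X}, IsPGroup 2 Y → Y ≤ R ⊔ P ⊔ N → ∀ x ∈ P ⊓ C[A], ∀ t ∈ Y ⊓ C[A],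
      x * t = t * x := fun hY le x hx t ht => (h.op.dec t ⟨le ht.1, ht.2⟩ x
    ⟨mem_sup_left (mem_sup_right hx.1), hx.2⟩ (H83.isPGroup_iff.1 hY t ht.1) (odd h hx.1)).symm
  exact { h with
    cop := (k (pR h) (fun e => P0 (by rw [← h.faith, e, centralizer_bot, inf_top_eq]))
      (le_sup_left.trans le_sup_left)).mul_right (k h.pP P0 (le_sup_right.trans le_sup_left))
    fxR := d (pR h) (le_sup_left.trans le_sup_left)
    fxN := d h.pN le_sup_right }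

theorem W_le {y : X} (hy : y ∈ P) : ⁅R, zpowers y⁆ ≤ R :=
  commutator_le_of_norm_left (zpowers_le.2 (h.PR hy))

theorem W_ti {y : X} (hy : y ∈ P) : ⁅R, zpowers y⁆ ⊓ C1[y] = ⊥ :=
  centralizer_zpowers y ▸ coprime_abel_cent_TI (zpowers_le.2 (h.PR hy))
    (cop_le (cPR h) (zpowers_le.2 hy) le_rfl) h.ea.1

theorem card_W {y : X} (hy : y ∈ P) {V : Subgroup X} (hV : V ≤ R) (hn : y ∈ N[V]) :
    Nat.card V = Nat.card ↥⁅V, zpowers y⁆ * Nat.card ↥(V ⊓ C1[y]) :=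
  centralizer_zpowers y ▸ (coprime_abelian_cent_dprod (zpowers_le.2 hn)
    (cop_le (cPR h) (zpowers_le.2 hy) hV) (isMulCommutative_of_le h.ea.1 hV)).card

theorem le_W {y : X} (hy : y ∈ P) {V : Subgroup X} (hV : V ≤ R) (hn : y ∈ N[V])
    (h0 : V ⊓ C1[y] = ⊥) : ⁅V, zpowers y⁆ = V :=
  coprime_commutator_eq_of_cent_eq_bot (zpowers_le.2 hn) (cop_le (cPR h) (zpowers_le.2 hy) hV)
    (Or.inl (isSolvable_of_isCyclic inferInstance)) (by rwa [centralizer_zpowers])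

theorem eq_one_of {y : X} (hy : y ∈ P) (h1 : ⁅R, zpowers y⁆ ≤ C1[y]) : y = 1 := by
  have h2 := W_ti h hy
  rw [inf_eq_left.2 h1] at h2
  exact mem_bot.1 (h.faith ▸ ⟨hy, cent_symm (le_cent_of_commutator_eq_bot h2) (mem_zpowers y)⟩)

theorem sup_W {y : X} (hy : y ∈ P) : ⁅R, zpowers y⁆ ⊔ R ⊓ C1[y] = R :=
  centralizer_zpowers y ▸ (coprime_abelian_cent_dprod (zpowers_le.2 (h.PR hy))
    (cop_le (cPR h) (zpowers_le.2 hy) le_rfl) h.ea.1).sup

theorem card_zp {y : X} (h1 : y ≠ 1) (hy : y ^ p = 1) : Nat.card (zpowers y) = p := by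
  have := Fact.mk h.pp
  rw [Nat.card_zpowers, orderOf_eq_prime hy h1]

theorem card_mod {y : X} (hy : y ^ p = 1) {V : Subgroup X} (hV : V ≤ R) (V1 : V ≠ ⊥) (hn : y ∈ N[V])
    (h0 : V ⊓ C1[y] = ⊥) : Nat.card V ≡ 1 [MOD p] ∧ ∃ k, 2 ≤ k ∧ Nat.card V = 2 ^ k := by
  have := Fact.mk Nat.prime_two
  have y1 : y ≠ 1 := by
    rintro rfl
    exact V1 (h0 ▸ (inf_eq_left.2 fun x _ => mem_centralizer_singleton_iff.2 (by simp)).symm)
  have h1 := semiregular_modEq (zpowers_le.2 hn) (H69.semiregular_of_prime_card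
    ((card_zp h y1 hy).symm ▸ h.pp) (by rwa [centralizer_zpowers]))
  rw [card_zp h y1 hy] at h1
  obtain ⟨k, hk⟩ := ((pR h).to_le hV).exists_card_eq
  refine ⟨h1, k, ?_, hk⟩
  rcases k with _ | _ | k
  · exact absurd (card_eq_one.1 hk) V1
  · rw [hk] at h1
    exact absurd (Nat.le_of_dvd one_pos ((Nat.modEq_iff_dvd' (by norm_num)).1 h1.symm))
      h.pp.one_lt.not_ge
  · omega

theorem eq_three (h1 : 4 ≡ 1 [MOD p]) : p = 3 :=
  (Nat.prime_dvd_prime_iff_eq h.pp Nat.prime_three).1 ((Nat.modEq_iff_dvd' (by norm_num)).1 h1.symm)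

theorem sq_cent {b : X} (hb : b ∈ N) (hs : Small R b) : b * b ∈ C[P] := fun g hg => by
  have h1 : ⁅g, b * b⁆ ∈ P ⊓ C[R] := ⟨commutator_le_of_norm_left (zpowers_le.2 (h.NP (mul_mem hb hb)))
    (commutator_mem_commutator hg (mem_zpowers _)), commutator_le_of_norm_right
      (le_normalizer_centralizer h.PR) (commutator_mem_commutator hg hs.sq)⟩
  exact commutatorElement_eq_one_iff_mul_comm.1 (mem_bot.1 (h.faith ▸ h1))

theorem inv_comm {b g : X} (hb : b ∈ N) (hs : Small R b) (hg : g ∈ P) :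
    b * ⁅g, b⁆ * b⁻¹ = ⁅g, b⁆⁻¹ := by
  have := sq_cent h hb hs g⁻¹ (inv_mem hg)
  calc b * ⁅g, b⁆ * b⁻¹ = b * g * b⁻¹ * (b * b * g⁻¹) * (b * b)⁻¹ := by
        simp only [commutatorElement_def]; group
    _ = _ := by rw [← this]; simp only [commutatorElement_def]; group

theorem cent_of_sq {y : X} (hy : y ∈ P) : C1[y * y] ≤ C1[y] := fun x hx =>
  mem_centralizer_singleton_comm.1 (mem_of_pow_mem_of_coprime
    (Tu.ord_cop h.pp h.pP hy (Tu.cpp h.pp Nat.prime_two h.p2))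
    (pow_two y ▸ mem_centralizer_singleton_comm.1 hx))

theorem cent_inv {b y : X} (hy : y ∈ P) (hi : b * y * b⁻¹ = y⁻¹) :
    C1[b] ⊓ cj y C1[b] ≤ C1[y] := by
  refine le_trans (fun x hx => ?_) (cent_of_sq h hy)
  rw [cj_centralizer_singleton] at hx
  have e : y * y = y * b * y⁻¹ * b⁻¹ := by rw [mul_assoc, mul_assoc, ← mul_assoc b, ← inv_inv
    (b * y⁻¹ * b⁻¹), show (b * y⁻¹ * b⁻¹)⁻¹ = b * y * b⁻¹ by group, hi, inv_inv]
  rw [mem_centralizer_singleton_comm, e]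
  exact mul_mem (mem_centralizer_singleton_comm.1 hx.2)
    (inv_mem (mem_centralizer_singleton_comm.1 hx.1))

theorem le16 {b y : X} (hs : Small R b) (hy : y ∈ P) (hi : b * y * b⁻¹ = y⁻¹) :
    Nat.card ↥⁅R, zpowers y⁆ ≤ 16 ∧ (Nat.card ↥⁅R, zpowers y⁆ = 16 → R ⊓ C1[y] ≤ C1[b]) := by
  have h1 : cj y (R ⊓ C1[b]) ≤ R := cj_le_of_mem_normalizer (h.PR hy) inf_le_left
  have h2 := card_sup_mul_card_inf (H := R ⊓ C1[b]) (K := cj y (R ⊓ C1[b]))
    (le_normalizer_of_le_centralizer (le_cent_of_comm h.ea.1 inf_le_left h1))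
  have h3 := card_le_of_le (sup_le (inf_le_left (b := C1[b])) h1)
  have h4 : R ⊓ C1[b] ⊓ cj y (R ⊓ C1[b]) ≤ R ⊓ C1[y] := le_inf (inf_le_left.trans inf_le_left)
    ((inf_le_inf inf_le_right (cj_mono inf_le_right)).trans (cent_inv h hy hi))
  have h5 := card_le_of_le h4
  have h6 := card_W h hy le_rfl (h.PR hy)
  have h7 := hs.card
  rw [card_cj] at h2
  have h8 : Nat.card R ≤ 16 * Nat.card ↥(R ⊓ C1[b] ⊓ cj y (R ⊓ C1[b])) :=
    Nat.le_of_mul_le_mul_left (by nlinarith [Nat.mul_le_mul h7 h7, Nat.mul_le_mul_right (Nat.card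
      ↥(R ⊓ C1[b] ⊓ cj y (R ⊓ C1[b]))) h3]) (Nat.card_pos (α := R))
  refine ⟨Nat.le_of_mul_le_mul_right (h6 ▸ h8.trans (Nat.mul_le_mul_left _ h5)) Nat.card_pos,
    fun e => (eq_of_le_of_card_ge h4 ?_).ge.trans (inf_le_left.trans inf_le_right)⟩
  rw [e] at h6
  omega

theorem ne8 {b y : X} (hs : Small R b) (hy : y ∈ P) (hi : b * y * b⁻¹ = y⁻¹) :
    Nat.card ↥⁅R, zpowers y⁆ ≠ 8 := by
  intro e
  set W := ⁅R, zpowers y⁆
  have WR := W_le h hy
  have hW := isMulCommutative_of_le h.ea.1 WR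
  have bW : b ∈ N[W] := le_normalizer_commutator (zpowers_le.2 hs.nrm) (zpowers_le.2
    (cj_eq_self_iff.1 (by rw [cj_zpowers, hi, zpowers_inv]))) (mem_zpowers b)
  have h1 : cj y (W ⊓ C1[b]) ≤ W :=
    cj_le_of_mem_normalizer (le_norm_commutator_right _ _ (mem_zpowers y)) inf_le_left
  have h2 := card_sup_of_inf_eq_bot (H := W ⊓ C1[b]) (K := cj y (W ⊓ C1[b])) (Or.inl
    (le_normalizer_of_le_centralizer (le_cent_of_comm hW inf_le_left h1))) (le_bot_iff.1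
      (W_ti h hy ▸ le_inf (inf_le_left.trans inf_le_left)
        ((inf_le_inf inf_le_right (cj_mono inf_le_right)).trans (cent_inv h hy hi))))
  have h3 := card_le_of_le (sup_le (inf_le_left (b := C1[b])) h1)
  rw [h2, card_cj, e] at h3
  let f : W →* W := conjOn W b * MonoidHom.id W
  have hf : ∀ w : W, (f w : X) = b * w * b⁻¹ * w := fun w => by simp [f, conjOn_apply bW]
  have h4 : f.ker ≤ C1[b].subgroupOf W := fun w hw => by
    have h5 := (hf w).symm.trans (congrArg Subtype.val hw)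
    have h6 : (w : X) * w = 1 := by rw [← pow_two]; exact h.ea.2 w (WR w.2)
    exact mem_centralizer_singleton_iff.2 (mul_inv_eq_iff_eq_mul.1
      (mul_right_cancel (h5.trans h6.symm))).symm
  have h5 : f.range ≤ C1[b].subgroupOf W := by
    rintro _ ⟨w, rfl⟩
    rw [mem_subgroupOf, hf, mem_centralizer_singleton_iff, eq_comm, ← mul_inv_eq_iff_eq_mul]
    nth_rw 2 [comm_of_isMulCommutative hW (conj_mem_of_mem_normalizer bW w.2) w.2]
    calc b * (b * w * b⁻¹ * w) * b⁻¹ = b * b * w * (b * b)⁻¹ * (b * w * b⁻¹) := by group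
      _ = _ := by rw [conj_eq_of_mem_centralizer hs.sq (WR w.2)]
  have h6 := f.ker.card_mul_index
  have h7 : Nat.card (C1[b].subgroupOf W) = Nat.card ↥(W ⊓ C1[b]) := by
    rw [← inf_subgroupOf_left, card_subgroupOf inf_le_left]
  rw [index_ker, e] at h6
  have := Nat.mul_le_mul (card_le_of_le h4) (card_le_of_le h5)
  rw [h7, h6] at this
  have h8 : Nat.card ↥(W ⊓ C1[b]) = 2 ∨ 3 ≤ Nat.card ↥(W ⊓ C1[b]) ∨ Nat.card ↥(W ⊓ C1[b]) ≤ 1 := by
    omega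
  rcases h8 with h8 | h8 | h8 <;> nlinarith

theorem two_gen {g z : X} (hg : g ∈ P) (hz : z ∈ P) (g1 : g ^ p = 1) (z1 : z ^ p = 1) (z0 : z ≠ 1)
    (hc : Commute g z) (hn : g ∉ zpowers z) {V : Subgroup X} (hV : V ≤ R) (V1 : V ≠ ⊥)
    (gV : g ∈ N[V]) (zV : z ∈ N[V]) :
    ∃ g' ∈ zpowers g, ∃ z' ∈ zpowers z, g' * z' ≠ 1 ∧ V ⊓ C1[g' * z'] ≠ ⊥ := by
  have h1 : zpowers g ≤ C[zpowers z] :=
    zpowers_le.2 (centralizer_zpowers z ▸ mem_centralizer_singleton_iff.2 hc)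
  have h2 := le_normalizer_of_le_centralizer h1
  obtain ⟨e, he, e1, h3⟩ := exists_cent1_ne_bot (A := zpowers g ⊔ zpowers z) (K := V)
    (isMulCommutative_sup inferInstance inferInstance h1) (fun hcy => hn (by
      have h3 : Nat.card ↥(zpowers g ⊔ zpowers z) ∣ p := by
        rw [← IsCyclic.exponent_eq_card]
        refine Monoid.exponent_dvd_of_forall_pow_eq_one fun x => Subtype.ext ?_
        obtain ⟨_, ⟨i, rfl⟩, _, ⟨j, rfl⟩, e⟩ := (mem_sup_of_le_normalizer h2).1 x.2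
        rw [SubgroupClass.coe_pow, ← e, (hc.zpow_zpow i j).mul_pow, ← zpow_natCast, ← zpow_natCast,
          ← zpow_mul, ← zpow_mul, mul_comm i, mul_comm j, zpow_mul, zpow_mul, zpow_natCast,
          zpow_natCast, g1, z1]
        simp
      exact (eq_of_le_of_card_ge le_sup_right (by
        rw [card_zp h z0 z1]; exact Nat.le_of_dvd h.pp.pos h3)).ge (mem_sup_left (mem_zpowers g))))
    (sup_le (zpowers_le.2 gV) (zpowers_le.2 zV))
    (cop_le (cPR h) (sup_le (zpowers_le.2 hg) (zpowers_le.2 hz)) hV) V1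
  obtain ⟨a, ha, c, hc', rfl⟩ := (mem_sup_of_le_normalizer h2).1 he
  exact ⟨a, ha, c, hc', e1, h3⟩

theorem zp_symm {x y : X} (hy : y ^ p = 1) (x1 : x ≠ 1) (hx : x ∈ zpowers y) : y ∈ zpowers x := by
  have y1 : y ≠ 1 := by
    rintro rfl
    exact x1 (by simpa using hx)
  exact (H63.zpowers_eq_of_prime_card' ((card_zp h y1 hy).symm ▸ h.pp) hx x1).ge (mem_zpowers y)

theorem one_of_inv {y : X} (hy : y ∈ P) (h1 : y = y⁻¹) : y = 1 :=
  mem_bot.1 (mem_of_pow_mem_of_coprime (H := ⊥)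
    (Tu.ord_cop h.pp h.pP hy (Tu.cpp h.pp Nat.prime_two h.p2))
    (by rw [pow_two, mem_bot]; nth_rw 1 [h1]; exact inv_mul_cancel y))

theorem W_mod {y : X} (hy : y ∈ P) (yp : y ^ p = 1) (y1 : y ≠ 1) :
    Nat.card ↥⁅R, zpowers y⁆ ≡ 1 [MOD p] ∧ ∃ k, 2 ≤ k ∧ Nat.card ↥⁅R, zpowers y⁆ = 2 ^ k :=
  card_mod h yp (W_le h hy) (fun e => y1 (eq_one_of h hy (e ▸ bot_le)))
    (le_norm_commutator_right _ _ (mem_zpowers y)) (W_ti h hy)

theorem four_le {y : X} (hy : y ^ p = 1) {V : Subgroup X} (hV : V ≤ R) (V1 : V ≠ ⊥) (hn : y ∈ N[V])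
    (h0 : V ⊓ C1[y] = ⊥) : 4 ≤ Nat.card V := by
  obtain ⟨-, k, hk, e⟩ := card_mod h hy hV V1 hn h0
  exact e ▸ Nat.pow_le_pow_right two_pos hk

variable (hP : IsElementaryAbelian p P)
include hP

theorem norm_W {y : X} (hy : y ∈ P) : P ≤ N[⁅R, zpowers y⁆] :=
  le_normalizer_commutator h.PR (le_normalizer_of_le_centralizer
    (le_cent_of_comm hP.1 le_rfl (zpowers_le.2 hy)))

theorem norm_C {x y : X} (hx : x ∈ P) (hy : y ∈ P) : P ≤ N[⁅R, zpowers x⁆ ⊓ C1[y]] :=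
  le_normalizer_inf (norm_W h hP hx) (centralizer_zpowers y ▸ le_normalizer_of_le
    (le_cent_of_comm hP.1 le_rfl (zpowers_le.2 hy)))

theorem eq_min {y y' : X} (hy : y ∈ P) (y1 : y ≠ 1)
    (hm : ∀ x ∈ P, x ≠ 1 → Nat.card ↥⁅R, zpowers y⁆ ≤ Nat.card ↥⁅R, zpowers x⁆) (hy' : y' ∈ P)
    (hle : ⁅R, zpowers y'⁆ ≤ ⁅R, zpowers y⁆) : y' ∈ zpowers y := by
  by_contra hn
  obtain ⟨a, ha, c, hc, e1, h1⟩ := two_gen h hy' hy (hP.2 _ hy') (hP.2 _ hy) y1
    (comm_of_isMulCommutative hP.1 hy' hy) hn (W_le h hy)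
    (fun e => y1 (eq_one_of h hy (e ▸ bot_le))) (norm_W h hP hy hy') (norm_W h hP hy hy)
  have h2 : a * c ∈ P := mul_mem (zpowers_le.2 hy' ha) (zpowers_le.2 hy hc)
  have h3 : ⁅R, zpowers (a * c)⁆ ≤ ⁅R, zpowers y⁆ := (commutator_mono le_rfl (zpowers_le.2
    (mul_mem (mem_sup_left ha) (mem_sup_right hc)))).trans (commutator_sup_right_le
      (zpowers_le.2 (norm_W h hP hy hy')) (zpowers_le.2 (norm_W h hP hy hy)) hle le_rfl)
  exact h1 (eq_of_le_of_card_ge h3 (hm _ h2 e1) ▸ W_ti h h2)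

theorem case4 (f : (R ⊔ P ⊔ N) ⊓ C[A] = ⊥) {y : X} (hy : y ∈ P) :
    Nat.card ↥⁅R, zpowers y⁆ ≠ 4 :=
  k4c h.op f (sol h) (le_sup_left.trans le_sup_left) h.ea (sup_le (sup_le le_normalizer h.PR) h.NR)
    h.AR (mem_sup_left (mem_sup_right hy)) (odd h hy)

variable (hm : ∀ x ∈ P, x ≠ 1 → 16 ≤ Nat.card ↥⁅R, zpowers x⁆)
include hm

theorem refl {b y : X} (hb : b ∈ N) (hs : Small R b) (hy : y ∈ P) (y1 : y ≠ 1)
    (hi : b * y * b⁻¹ = y⁻¹) : Nat.card ↥⁅R, zpowers y⁆ = 16 ∧ ∀ g ∈ P, ⁅g, b⁆ ∈ zpowers y := by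
  obtain ⟨h1, h2⟩ := le16 h hs hy hi
  have h3 := le_antisymm h1 (hm y hy y1)
  refine ⟨h3, fun g hg => eq_min h hP hy y1 (h3 ▸ hm) (commutator_le_of_norm_left
    (zpowers_le.2 (h.NP hb)) (commutator_mem_commutator hg (mem_zpowers b))) ?_⟩
  have bW : zpowers b ≤ N[⁅R, zpowers y⁆] := le_normalizer_commutator (zpowers_le.2 hs.nrm)
    (zpowers_le.2 (cj_eq_self_iff.1 (by rw [cj_zpowers, hi, zpowers_inv])))
  have h4 : zpowers b ≤ stabMod R ⁅R, zpowers y⁆ := le_stabMod_of_le (W_le h hy) (by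
    nth_rw 1 [← sup_W h hy]
    exact commutator_sup_left_le le_normalizer (inf_le_left.trans (le_norm_commutator_left _ _))
      (commutator_le_of_norm_left bW)
      ((commutator_eq_bot_of_cent (centralizer_zpowers b ▸ h2 h3)).le.trans bot_le))
  exact commutator_le_of_le_stabMod (zpowers_le.2 (commutator_le_of_norm_right
    (le_norm_stabMod h.PR (norm_W h hP hy)) (commutator_mem_commutator hg (h4 (mem_zpowers b)))))

theorem tri {y y' v : X} (hy : y ∈ P) (hy' : y' ∈ P) (y1 : y ≠ 1) (hn : y' ∉ zpowers y)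
    (c1 : Nat.card ↥⁅R, zpowers y⁆ = 16) (c2 : Nat.card ↥⁅R, zpowers y'⁆ = 16)
    (hv : v ∈ zpowers y) (v1 : v ≠ 1) (c3 : Nat.card ↥⁅R, zpowers (y' * v)⁆ = 16) :
    p = 3 ∧ ⁅R, zpowers y⁆ ⊓ C1[y'] ⊔ ⁅R, zpowers y'⁆ ⊓ C1[y] = ⁅R, zpowers (y' * v)⁆ := by
  have y1' : y' ≠ 1 := fun e => hn (e ▸ one_mem _)
  have key : ∀ x ∈ P, ∀ x' ∈ P, x' ≠ 1 → x ∉ zpowers x' → Nat.card ↥⁅R, zpowers x'⁆ = 16 →
      Nat.card ↥(⁅R, zpowers x⁆ ⊓ C1[x']) ≡ 1 [MOD p] ∧ 4 ≤ Nat.card ↥(⁅R, zpowers x⁆ ⊓ C1[x']) := by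
    intro x hx x' hx' x1 hn c
    have h1 : ⁅R, zpowers x⁆ ⊓ C1[x'] ≠ ⊥ := fun e => hn (eq_min h hP hx' x1 (c ▸ hm) hx
      ((le_W h hx' (W_le h hx) (norm_W h hP hx hx') e).ge.trans (commutator_mono (W_le h hx) le_rfl)))
    have h2 := le_bot_iff.1 (W_ti h hx ▸ inf_le_inf_right C1[x] (inf_le_left (b := C1[x'])))
    exact ⟨(card_mod h (hP.2 _ hx) (inf_le_left.trans (W_le h hx)) h1 (norm_C h hP hx hx' hx) h2).1,
      four_le h (hP.2 _ hx) (inf_le_left.trans (W_le h hx)) h1 (norm_C h hP hx hx' hx) h2⟩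
  obtain ⟨a1, a2⟩ := key y hy y' hy' y1' (fun e => hn (zp_symm h (hP.2 _ hy') y1 e)) c2
  obtain ⟨-, a3⟩ := key y' hy' y hy y1 hn c1
  have vP := zpowers_le.2 hy hv
  have uP := mul_mem hy' vP
  have h1 : ∀ x ∈ P, ∀ x' ∈ P, ⁅R, zpowers x⁆ ⊓ C1[x'] ⊓ C1[y' * v] ≤ C1[x] →
      ⁅R, zpowers x⁆ ⊓ C1[x'] ≤ ⁅R, zpowers (y' * v)⁆ := fun x hx x' hx' e =>
    (le_W h uP (inf_le_left.trans (W_le h hx)) (norm_C h hP hx hx' uP) (le_bot_iff.1
      (W_ti h hx ▸ le_inf (inf_le_left.trans inf_le_left) e))).ge.trans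
      (commutator_mono (inf_le_left.trans (W_le h hx)) le_rfl)
  have h2 := sup_le (h1 y hy y' hy' fun w hw => mem_centralizer_singleton_comm.1
    (zpowers_le.2 ((mul_mem_cancel_left (mem_centralizer_singleton_comm.1 hw.1.2)).1
      (mem_centralizer_singleton_comm.1 hw.2)) (zp_symm h (hP.2 _ hy) v1 hv)))
    (h1 y' hy' y hy fun w hw => mem_centralizer_singleton_comm.1 ((mul_mem_cancel_right
      (zpowers_le.2 (mem_centralizer_singleton_comm.1 hw.1.2) hv)).1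
      (mem_centralizer_singleton_comm.1 hw.2)))
  have h3 := card_sup_of_inf_eq_bot (H := ⁅R, zpowers y⁆ ⊓ C1[y']) (K := ⁅R, zpowers y'⁆ ⊓ C1[y])
    (Or.inl (le_normalizer_of_le_centralizer (le_cent_of_comm h.ea.1
      (inf_le_left.trans (W_le h hy)) (inf_le_left.trans (W_le h hy')))))
    (le_bot_iff.1 (W_ti h hy ▸ inf_le_inf inf_le_left inf_le_right))
  have h4 := card_le_of_le h2
  rw [h3, c3] at h4
  refine ⟨eq_three h (by rwa [show Nat.card ↥(⁅R, zpowers y⁆ ⊓ C1[y']) = 4 by nlinarith] at a1),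
    eq_of_le_of_card_ge h2 (by rw [h3, c3]; exact Nat.mul_le_mul a2 a3)⟩

theorem refl_comm {b b' y y' : X} (hb : b ∈ N) (hs : Small R b) (hb' : b' ∈ N) (hs' : Small R b')
    (hy : y ∈ P) (hy' : y' ∈ P) (y1 : y ≠ 1) (hi : b * y * b⁻¹ = y⁻¹) (hi' : b' * y' * b'⁻¹ = y'⁻¹)
    (hn : y' ∉ zpowers y) : b * y' * b⁻¹ = y' := by
  by_contra h1
  have y1' : y' ≠ 1 := fun e => hn (e ▸ one_mem _)
  have h2 := (refl h hP hm hb hs hy y1 hi).2 _ (inv_mem hy')
  have h3 := inv_comm h hb hs (inv_mem hy')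
  set x := ⁅y'⁻¹, b⁆ with hx
  have h4 : b * y' * b⁻¹ = y' * x := by rw [hx, commutatorElement_def]; group
  have x1 : x ≠ 1 := fun e => h1 (by rw [h4, e, mul_one])
  have xP := zpowers_le.2 hy h2
  have hn' : y' ∉ zpowers x := fun e => hn (zpowers_le.2 h2 e)
  have c1 := (refl h hP hm hb hs xP x1 h3).1
  obtain ⟨c2, h5⟩ := refl h hP hm hb' hs' hy' y1' hi'
  have c3 : Nat.card ↥⁅R, zpowers (y' * x)⁆ = 16 := by rw [← h4, card_W_cj hs.nrm, c2]
  obtain ⟨p3, t1⟩ := tri h hP hm xP hy' x1 hn' c1 c2 (mem_zpowers x) x1 c3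
  have hc := comm_of_isMulCommutative hP.1 xP hy'
  have t2 : Nat.card ↥⁅R, zpowers (x * y'⁻¹)⁆ ≠ 16 := fun c4 => by
    rw [← zpowers_inv, mul_inv_rev, inv_inv] at c4
    have t3 := (tri h hP hm xP hy' x1 hn' c1 c2 (inv_mem (mem_zpowers x)) (inv_ne_one.2 x1) c4).2
    have uP := mul_mem hy' xP
    have u1 : y' * x ≠ 1 := fun e => hn' (eq_inv_of_mul_eq_one_left e ▸ inv_mem (mem_zpowers x))
    have t4 := eq_min h hP uP u1 (c3 ▸ hm) (mul_mem hy' (inv_mem xP)) (t3.symm.trans t1).le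
    have t5 : x ∈ zpowers (y' * x) := mem_of_pow_mem_of_coprime
      (Tu.ord_cop h.pp h.pP xP (Tu.cpp h.pp Nat.prime_two h.p2)) (by
        have := mul_mem (inv_mem t4) (mem_zpowers (y' * x))
        rwa [show (y' * x⁻¹)⁻¹ * (y' * x) = x ^ 2 by rw [pow_two]; group] at this)
    exact hn' ((mul_mem_cancel_right (mem_zpowers x)).1 (zp_symm h (hP.2 _ uP) x1 t5))
  obtain ⟨k, hk, e⟩ : ∃ k < 3, y' ^ k = ⁅x⁻¹, b'⁆ := by
    classical
    obtain ⟨k, hk, e⟩ := Finset.mem_image.1 (mem_zpowers_iff_mem_range_orderOf.1 (h5 _ (inv_mem xP)))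
    rw [← Nat.card_zpowers, card_zp h y1' (hP.2 _ hy'), p3, Finset.mem_range] at hk
    exact ⟨k, hk, e⟩
  have h6 : b' * x * b'⁻¹ = x * y' ^ k := by rw [e, commutatorElement_def]; group
  interval_cases k
  · refine t2 ?_
    rw [← c3, ← card_W_cj hs'.nrm (y' * x), ← conj_mul, hi', h6, pow_zero, mul_one,
      (Commute.inv_right hc).eq]
  · have g1 : b * b' * x * (b * b')⁻¹ = y' := by
      rw [show b * b' * x * (b * b')⁻¹ = b * (b' * x * b'⁻¹) * b⁻¹ by group, h6, pow_one, ← conj_mul,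
        h3, h4, ← hc, inv_mul_cancel_left]
    have g2 : b * b' * y' * (b * b')⁻¹ = (y' * x)⁻¹ := by
      rw [show b * b' * y' * (b * b')⁻¹ = b * (b' * y' * b'⁻¹) * b⁻¹ by group, hi', ← h4]; group
    set g := b * b'
    have g3 : g ^ 3 * x * (g ^ 3)⁻¹ = x := by
      rw [show g ^ 3 * x * (g ^ 3)⁻¹ = g * (g * (g * x * g⁻¹) * g⁻¹) * g⁻¹ by
        rw [pow_three]; simp only [mul_inv_rev, mul_assoc], g1, g2, ← conj_inv, ← conj_mul, g1, g2]
      group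
    have g4 := mem_of_pow_mem_of_coprime (H := C1[x]) (Tu.ord_cop Nat.prime_two h.pN (mul_mem hb hb')
      (n := 3) (by norm_num)) (mem_centralizer_singleton_iff.2 (mul_inv_eq_iff_eq_mul.1 g3))
    rw [mem_centralizer_singleton_iff.1 g4, mul_inv_cancel_right] at g1
    exact hn' (g1 ▸ mem_zpowers x)
  · refine t2 ?_
    have : y' ^ 2 = y'⁻¹ := eq_inv_of_mul_eq_one_left (by rw [← pow_succ]; exact (p3 ▸ hP.2 _ hy' : y' ^ 3 = 1))
    rw [← this, ← h6, card_W_cj hs'.nrm, c1]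

theorem case16 (f : (R ⊔ P ⊔ N) ⊓ C[A] = ⊥) {b y : X} (hb : b ∈ N) (hs : Small R b) (hy : y ∈ P)
    (y1 : y ≠ 1) (hi : b * y * b⁻¹ = y⁻¹) : False := by
  classical
  have hc := hP.1
  have h1 : ∀ a ∈ A, a * b * a⁻¹ * (a * y * a⁻¹) * (a * b * a⁻¹)⁻¹ = (a * y * a⁻¹)⁻¹ := fun a ha => by
    rw [conj_inv (a := y), ← hi]; group
  have h2 : ∀ a ∈ A, a * y * a⁻¹ ∈ P := fun a ha => conj_mem_of_mem_normalizer (h.AP ha) hy
  have h3 : ∀ a ∈ A, a * b * a⁻¹ ∈ N := fun a ha => conj_mem_of_mem_normalizer (h.AN ha) hb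
  have h4 : ∀ n x e : X, x ∈ zpowers e → (n * e * n⁻¹ = e → n * x * n⁻¹ = x) ∧
      (n * e * n⁻¹ = e⁻¹ → n * x * n⁻¹ = x⁻¹) := by
    rintro n _ e ⟨k, rfl⟩
    exact ⟨fun h => by rw [← conj_zpow, h], fun h => by rw [← conj_zpow, h, inv_zpow]⟩
  obtain ⟨n, hn, h5, -⟩ : ∃ n ∈ N, (∀ a ∈ sfin A, a ∈ A → n * (a * y * a⁻¹) * n⁻¹ = (a * y * a⁻¹)⁻¹) ∧
      ∀ a ∈ A, n * (a * y * a⁻¹) * n⁻¹ = (a * y * a⁻¹)⁻¹ ∨ n * (a * y * a⁻¹) * n⁻¹ = a * y * a⁻¹ := by
    induction sfin A using Finset.induction_on with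
    | empty => exact ⟨1, one_mem _, by simp, fun a ha => Or.inr (by simp)⟩
    | insert c s _ ih =>
      obtain ⟨n, hn, i1, i2⟩ := ih
      by_cases hc : c ∈ A
      swap
      · exact ⟨n, hn, fun a ha ha' => i1 a ((Finset.mem_insert.1 ha).resolve_left
          fun e => hc (e ▸ ha')) ha', i2⟩
      rcases i2 c hc with i3 | i3
      · exact ⟨n, hn, fun a ha ha' => (Finset.mem_insert.1 ha).elim (fun e => e ▸ i3)
          fun e => i1 a e ha', i2⟩
      have i4 : ∀ x, n * (c * b * c⁻¹) * x * (n * (c * b * c⁻¹))⁻¹ =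
          n * (c * b * c⁻¹ * x * (c * b * c⁻¹)⁻¹) * n⁻¹ := fun x => by group
      have i5 : ∀ a ∈ A, a * y * a⁻¹ ∈ zpowers (c * y * c⁻¹) → n * (c * b * c⁻¹) * (a * y * a⁻¹) *
          (n * (c * b * c⁻¹))⁻¹ = (a * y * a⁻¹)⁻¹ := fun a ha e => by
        rw [i4, (h4 _ _ _ e).2 (h1 c hc), ← conj_inv (a := a * y * a⁻¹), (h4 _ _ _ e).1 i3]
      have i6 : ∀ a ∈ A, a * y * a⁻¹ ∉ zpowers (c * y * c⁻¹) → n * (c * b * c⁻¹) * (a * y * a⁻¹) *
          (n * (c * b * c⁻¹))⁻¹ = n * (a * y * a⁻¹) * n⁻¹ := fun a ha e => by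
        rw [i4, refl_comm h hP hm (h3 c hc) (hs.conj (h.AR hc)) (h3 a ha) (hs.conj (h.AR ha))
          (h2 c hc) (h2 a ha) (by simpa using y1) (h1 c hc) (h1 a ha) e]
      refine ⟨_, mul_mem hn (h3 c hc), fun a ha ha' => ?_, fun a ha => ?_⟩
      · by_cases e : a * y * a⁻¹ ∈ zpowers (c * y * c⁻¹)
        · exact i5 a ha' e
        · rw [i6 a ha' e]
          exact i1 a ((Finset.mem_insert.1 ha).resolve_left fun e' => e (e' ▸ mem_zpowers _)) ha'
      · by_cases e : a * y * a⁻¹ ∈ zpowers (c * y * c⁻¹)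
        · exact Or.inl (i5 a ha e)
        · rw [i6 a ha e]
          exact i2 a ha
  have h6 := fun a ha => h5 a (mem_sfin.2 ha) ha
  obtain ⟨d, hd, h7⟩ := (h.op.sub (H := N ⊓ centralizer {x | ∃ a ∈ A, x = a * y * a⁻¹})
    (inf_le_left.trans le_sup_right) fun g hg => mem_normalizer_of_cj_le (cj_le_iff.2 fun x hx =>
      ⟨conj_mem_of_mem_normalizer (h.AN hg) hx.1, by
        rintro _ ⟨a, ha, rfl⟩
        calc _ = g * (g⁻¹ * a * y * (g⁻¹ * a)⁻¹ * x) * g⁻¹ := by group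
          _ = _ := by rw [hx.2 _ ⟨g⁻¹ * a, mul_mem (inv_mem hg) ha, rfl⟩]; group⟩)).lift
    (sol_p Nat.prime_two (h.pN.to_le inf_le_left)) (x := n) fun a ha =>
      ⟨N.mul_mem (N.inv_mem hn) (conj_mem_of_mem_normalizer (h.AN ha) hn), by
        rintro _ ⟨c, hc, rfl⟩
        calc _ = n⁻¹ * (n * (c * y * c⁻¹) * n⁻¹) * (a * n * a⁻¹) := by group
          _ = n⁻¹ * (a * (a⁻¹ * c * y * (a⁻¹ * c)⁻¹)⁻¹ * a⁻¹) * (a * n * a⁻¹) := by
            rw [h6 c hc]; group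
          _ = _ := by rw [← h6 _ (mul_mem (inv_mem ha) hc)]; group⟩
  obtain rfl : n = d⁻¹ := eq_inv_of_mul_eq_one_left (f.le ⟨mem_sup_right (mul_mem hn hd.1), h7⟩)
  have h8 := h6 1 (one_mem A)
  have h9 := hd.2 y ⟨1, one_mem A, by simp⟩
  simp only [one_mul, inv_one, mul_one, inv_inv] at h8
  exact y1 (one_of_inv h hy (by rw [← h8, mul_assoc, h9, inv_mul_cancel_left]))

end Core

theorem coreAb : H53.FM.CoreAbStmt.{u} := by
  intro X _ _ p A R P N h hP b hb hs g hg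
  by_contra hn
  obtain c | ⟨K, c⟩ := h.op.reg
  · exact hn (FP.coreAb X p A R P N (fp_of h (fun e => hn (by simp [mem_bot.1 (e.le hg)])) c) hP b hb
      hs g hg)
  have y1 : ⁅g, b⁆ ≠ 1 := fun e => hn (commutatorElement_eq_one_iff_mul_comm.1 e)
  have hy := commutator_le_of_norm_left (zpowers_le.2 (h.NP hb))
    (commutator_mem_commutator hg (mem_zpowers b))
  have hi := inv_comm h hb hs hg
  have h1 : ∀ x ∈ P, x ≠ 1 → Nat.card ↥⁅R, zpowers x⁆ ≡ 1 [MOD p] ∧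
      (Nat.card ↥⁅R, zpowers x⁆ = 8 ∨ 16 ≤ Nat.card ↥⁅R, zpowers x⁆) := fun x hx x1 => by
    obtain ⟨h1, k, hk, e⟩ := W_mod h hx (hP.2 _ hx) x1
    refine ⟨h1, ?_⟩
    rcases k with _ | _ | _ | _ | k
    · omega
    · omega
    · exact (case4 h hP c.fpf hx e).elim
    · exact Or.inl e
    · exact Or.inr (e ▸ Nat.pow_le_pow_right two_pos (by omega : 4 ≤ k + 4))
  have h35 : p = 3 ∨ p = 5 := by
    obtain ⟨h2, h3⟩ := h1 _ hy y1
    rw [le_antisymm (le16 h hs hy hi).1 (h3.resolve_left (ne8 h hs hy hi))] at h2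
    exact ((Nat.Prime.dvd_mul h.pp (m := 3) (n := 5)).1 ((Nat.modEq_iff_dvd' (by norm_num)).1
      h2.symm)).imp (Nat.prime_dvd_prime_iff_eq h.pp Nat.prime_three).1
      (Nat.prime_dvd_prime_iff_eq h.pp Nat.prime_five).1
  refine case16 h hP (fun x hx x1 => (h1 x hx x1).2.resolve_left fun e => ?_) c.fpf hb hs hy y1 hi
  have := (h1 x hx x1).1
  rw [e] at this
  rcases h35 with rfl | rfl <;> exact absurd this (by decide)

section Core

variable (h : H53.FM.Core p A R P N) (he : ∀ x ∈ P, x ^ p = 1) (hc : ⁅P, P⁆ ≤ C[P])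
include h he hc

theorem comm_Z {x y : X} (hx : x ∈ P) (hy : y ∈ P) : ⁅x, y⁆ ∈ Z[P] :=
  ⟨commutator_le_of_le le_rfl le_rfl (commutator_mem_commutator hx hy),
    hc (commutator_mem_commutator hx hy)⟩

theorem exists_comm {x y v : X} (hx : x ∈ P) (hy : y ∈ P) (hv : v ∈ zpowers ⁅y, x⁆) :
    ∃ g ∈ zpowers y, ⁅g, x⁆ = v := by
  obtain ⟨n, rfl⟩ := mem_powers_iff_mem_zpowers.2 hv
  exact ⟨y ^ n, pow_mem (mem_zpowers y) n, H7.comm_pow_left ((comm_Z h he hc hy hx).2 y hy) n⟩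

theorem norm_WZ {z : X} (hz : z ∈ Z[P]) : P ≤ N[⁅R, zpowers z⁆] :=
  le_normalizer_commutator h.PR (le_normalizer_of_le_centralizer' (zpowers_le.2 hz.2))

variable {x y : X} (hx : x ∈ P) (hy : y ∈ P) (z1 : ⁅x, y⁆ ≠ 1) (h16 : Nat.card ↥⁅R, zpowers x⁆ ≤ 16)
include hx hy z1 h16

theorem irr {V : Subgroup X} (hV : V ≤ ⁅R, zpowers ⁅x, y⁆⁆) (V1 : V ≠ ⊥) (xV : x ∈ N[V])
    (yV : y ∈ N[V]) : p = 3 ∧ Nat.card V = 64 ∧ Nat.card ↥(V ⊓ C1[x]) = 4 := by
  have hz := comm_Z h he hc hx hy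
  set z := ⁅x, y⁆ with hz'
  have VR := hV.trans (W_le h hz.1)
  have zV : z ∈ N[V] := commutator_le_of_le le_rfl le_rfl (commutator_mem_commutator xV yV)
  have h0 : V ⊓ C1[z] = ⊥ := le_bot_iff.1 (W_ti h hz.1 ▸ inf_le_inf_right _ hV)
  have h1 : ∀ v ∈ zpowers z, Nat.card ↥(V ⊓ C1[x * v]) = Nat.card ↥(V ⊓ C1[x]) := fun v hv => by
    obtain ⟨g, hg, e⟩ := exists_comm h he hc hx hy (v := v) (by
      rwa [← commutatorElement_inv, zpowers_inv])
    rw [← card_cj g (V ⊓ C1[x]), cj_inf, cj_eq_self (zpowers_le.2 yV hg), cj_centralizer_singleton,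
      (zpowers_le.2 hz hv).2 x hx, ← e, commutatorElement_def, inv_mul_cancel_right]
  have hxz : ∀ v ∈ zpowers z, Commute x v := fun v hv => (zpowers_le.2 hz hv).2 x hx
  have h2 : V ⊓ C1[x] ≠ ⊥ := by
    obtain ⟨a, ha, c, hc', e1, h2⟩ := two_gen h hx hz.1 (he _ hx) (he _ hz.1) z1
      (hxz z (mem_zpowers z)) (fun e => z1 (commutatorElement_eq_one_iff_mul_comm.2
        ((zpowers_le.2 hz e).2 y hy).symm)) VR V1 xV zV
    have a1 : a ≠ 1 := fun e => h2 (by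
      rw [e, one_mul] at e1 ⊢
      exact le_bot_iff.1 (h0 ▸ inf_le_inf_left _ fun w hw => mem_centralizer_singleton_comm.1
        (zpowers_le.2 (mem_centralizer_singleton_comm.1 hw) (zp_symm h (he _ hz.1) e1 hc'))))
    obtain ⟨j, hj⟩ := mem_powers_iff_mem_zpowers.2 (zp_symm h (he _ hx) a1 ha)
    have h3 : (a * c) ^ j = x * c ^ j := by
      rw [Commute.mul_pow ((zpowers_le.2 hz hc').2 a (zpowers_le.2 hx ha)), show a ^ j = x from hj]
    intro e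
    have h4 := h1 _ (pow_mem hc' j)
    rw [e, card_bot, card_eq_one, ← h3] at h4
    exact h2 (le_bot_iff.1 (h4 ▸ inf_le_inf_left _ fun w hw => mem_centralizer_singleton_comm.1
      (pow_mem (mem_centralizer_singleton_comm.1 hw) j)))
  have h3 : z ∈ N[V ⊓ C1[x]] := le_normalizer_inf (zpowers_le.2 zV) (centralizer_zpowers x ▸
    le_normalizer_of_le (zpowers_le.2 (centralizer_anti (zpowers_le.2 hx) hz.2))) (mem_zpowers z)
  have h4 := le_bot_iff.1 (h0 ▸ inf_le_inf_right C1[z] (inf_le_left (b := C1[x])))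
  have h5 := (card_mod h (he _ hz.1) (inf_le_left.trans VR) h2 h3 h4).1
  have h6 := four_le h (he _ hz.1) (inf_le_left.trans VR) h2 h3 h4
  have h7 : ∀ v ∈ zpowers z, v ≠ 1 → V ⊓ C1[x * v] ≤ ⁅V, zpowers x⁆ := fun v hv v1 =>
    (le_W h hx (inf_le_left.trans VR) (le_normalizer_inf (zpowers_le.2 xV)
      (centralizer_zpowers (x * v) ▸ le_normalizer_of_le (zpowers_le.2 (centralizer_zpowers (x * v) ▸
        mem_centralizer_singleton_iff.2 ((Commute.refl x).mul_right (hxz v hv))))) (mem_zpowers x))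
      (le_bot_iff.1 (h0 ▸ fun w hw => ⟨hw.1.1, mem_centralizer_singleton_comm.1 (zpowers_le.2
        ((mul_mem_cancel_left (mem_centralizer_singleton_comm.1 hw.2)).1
          (mem_centralizer_singleton_comm.1 hw.1.2)) (zp_symm h (he _ hz.1) v1 hv))⟩))).ge.trans
      (commutator_mono inf_le_left le_rfl)
  have z2 : z * z ≠ 1 := fun e => z1 (one_of_inv h hz.1 (eq_inv_of_mul_eq_one_left e))
  have zz := mul_mem (mem_zpowers z) (mem_zpowers z)
  have h8 := card_le_of_le (sup_le (h7 z (mem_zpowers z) z1) (h7 _ zz z2))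
  rw [card_sup_of_inf_eq_bot (Or.inl (le_normalizer_of_le_centralizer (le_cent_of_comm h.ea.1
    (inf_le_left.trans VR) (inf_le_left.trans VR)))) (le_bot_iff.1 (h0 ▸ fun w hw => ⟨hw.1.1,
      mem_centralizer_singleton_comm.1 ((mul_mem_cancel_left
        (mem_centralizer_singleton_comm.1 hw.1.2)).1 (mul_assoc x z z ▸
          mem_centralizer_singleton_comm.1 hw.2.2))⟩)), h1 _ (mem_zpowers z), h1 _ zz] at h8
  have h9 := (card_le_of_le (commutator_mono VR le_rfl)).trans h16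
  have h10 : Nat.card ↥(V ⊓ C1[x]) = 4 := by nlinarith
  rw [h10] at h5 h8
  refine ⟨eq_three h h5, ?_, h10⟩
  rw [card_W h hx VR xV, h10, le_antisymm h9 h8]

theorem W_ne : ⁅R, zpowers ⁅x, y⁆⁆ ≠ ⊥ := fun e =>
  z1 (eq_one_of h (comm_Z h he hc hx hy).1 (e ▸ bot_le))

theorem irr_top : p = 3 ∧ Nat.card ↥⁅R, zpowers ⁅x, y⁆⁆ = 64 ∧
    Nat.card ↥(⁅R, zpowers ⁅x, y⁆⁆ ⊓ C1[x]) = 4 :=
  irr h he hc hx hy z1 h16 le_rfl (W_ne h he hc hx hy z1 h16)
    (norm_WZ h he hc (comm_Z h he hc hx hy) hx) (norm_WZ h he hc (comm_Z h he hc hx hy) hy)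

theorem sp_false (f : (R ⊔ P ⊔ N) ⊓ C[A] = ⊥) {b : X} (hb : b ∈ N ⊓ C[Z[P]])
    (hxb : b ∈ C[⁅R, zpowers ⁅x, y⁆⁆] → x ∈ C[⁅R, zpowers ⁅x, y⁆⁆]) : False := by
  have hz := comm_Z h he hc hx hy
  obtain ⟨p3, c64, c4⟩ := irr_top h he hc hx hy z1 h16
  have W0 := W_ne h he hc hx hy z1 h16
  generalize ⁅x, y⁆ = z at *
  have WR := W_le h hz.1
  have AZ := h.AP.trans (normalizer_le_normalizer_center P)
  have ZT : Z[P] ≤ N[C[N ⊓ C[Z[P]]]] :=
    le_normalizer_centralizer (le_normalizer_of_le_centralizer' inf_le_right)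
  have n0 := inf_centralizer_ne_bot_of_isPGroup Nat.prime_two
    (h.pN.to_le (inf_le_left : N ⊓ C[Z[P]] ≤ N)) ((pR h).to_le WR) (le_normalizer_commutator
      (inf_le_left.trans h.NR) (le_normalizer_of_le_centralizer
        (inf_le_right.trans (centralizer_anti (zpowers_le.2 hz))))) W0
  have AT := le_normalizer_centralizer (le_normalizer_inf h.AN (le_normalizer_centralizer AZ))
  have hb' := fun w (hw : w ∈ C[N ⊓ C[Z[P]]]) => (hw b hb).symm
  generalize C[N ⊓ C[Z[P]]] = T at *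
  have HV : R ⊔ Z[P] ≤ N[R ⊓ T] := sup_le (le_normalizer_of_le_centralizer
    (le_cent_of_comm h.ea.1 le_rfl inf_le_left)) (le_normalizer_inf (inf_le_left.trans h.PR) ZT)
  have AV := le_normalizer_inf h.AR AT
  have zH : z ∈ R ⊔ Z[P] := mem_sup_right hz
  have le : R ⊔ Z[P] ≤ R ⊔ P ⊔ N := (sup_le_sup_left inf_le_left R).trans le_sup_left
  have op := h.op.sub le (le_normalizer_sup h.AR AZ)
  have f' : (R ⊔ Z[P]) ⊓ C[A] = ⊥ := eq_bot_iff.2 ((inf_le_inf_right _ le).trans f.le)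
  have s := isSolvable_of_le (sol h) le
  have zn : z ∈ N[⁅R, zpowers z⁆ ⊓ T] := le_normalizer_inf
    (le_norm_commutator_right _ _) (zpowers_le.2 (ZT hz)) (mem_zpowers z)
  have ti := le_bot_iff.1 (W_ti h hz.1 ▸ inf_le_inf_right C1[z] (inf_le_left (b := T)))
  obtain ⟨m, k, hk, e⟩ := card_mod h (he _ hz.1) (inf_le_left.trans WR) n0 zn ti
  have lt := card_lt_of_lt ((inf_le_left (a := ⁅R, zpowers z⁆) (b := T)).lt_of_ne fun e => by
    rw [inf_eq_left.2 (mem_centralizer_iff_le.1 (hxb fun w hw => hb' w (e.ge hw).2)), c64] at c4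
    omega)
  rw [e, c64] at lt
  rw [e, p3] at m
  have k6 : k < 6 := (Nat.pow_lt_pow_iff_right one_lt_two).1 lt
  interval_cases k
  · refine k4c op f' s (inf_le_left.trans le_sup_left) ⟨isMulCommutative_of_le h.ea.1 inf_le_left,
      fun a ha => h.ea.2 a ha.1⟩ HV AV zH (odd h hz.1) (Eq.trans ?_ e)
    rw [le_antisymm (le_inf (commutator_mono inf_le_left le_rfl) ((commutator_le_of_norm_left
      (zpowers_le.2 (HV zH))).trans inf_le_right)) ((le_W h hz.1 (inf_le_left.trans WR) zn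
        ti).ge.trans (commutator_mono (inf_le_inf_right _ WR) le_rfl))]
  · exact absurd m (by decide)
  · have s' := isSolvable_of_le s (inf_le_left : (R ⊔ Z[P]) ⊓ (R ⊓ T) ≤ _)
    have RV := le_sup_left.trans HV
    refine k4c (op.quo HV AV s') (by rw [← op.quo_cent HV AV s', f', bot_quo]) (quo_isSolvable _ s)
      (quo_mono _ le_sup_left) (quo_isElementaryAbelian _ h.ea)
      (quo_norms _ (sup_le le_normalizer (inf_le_left.trans h.PR))) (quo_norms _ h.AR)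
      (coset_mem_quo (HV zH) zH) ((odd h hz.1).of_dvd_nat (orderOf_coset_dvd (HV zH))) ?_
    have := card_quo_mul_inf (WR.trans RV)
    rw [inf_right_comm, inf_eq_right.2 WR, e, c64] at this
    rw [← quo_zpowers (HV zH), ← quo_commutator RV (zpowers_le.2 (HV zH))]
    omega
  · exact absurd m (by decide)

end Core

theorem coreSp : H53.FM.CoreSpStmt.{u} := by
  intro X _ _ p A R P N h he hc b hb hs hbZ g hg
  by_contra hn
  obtain c | ⟨K, c⟩ := h.op.reg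
  · exact hn (FP.coreSp X p A R P N (fp_of h (fun e => hn (by simp [mem_bot.1 (e.le hg)])) c) he hc b
      hb hs hbZ g hg)
  have hx := commutator_le_of_norm_left (zpowers_le.2 (h.NP hb))
    (commutator_mem_commutator hg (mem_zpowers b))
  have hi := inv_comm h hb hs hg
  refine hn (commutatorElement_eq_one_iff_mul_comm.1 (one_of_inv h hx ?_))
  rw [← hi, ← hbZ _ ⟨hx, fun y hy => ?_⟩, mul_inv_cancel_right]
  by_contra h1
  exact sp_false h he hc hx hy (fun e => h1 (commutatorElement_eq_one_iff_mul_comm.1 e).symm)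
    (le16 h hs hx hi).1 c.fpf ⟨hb, hbZ⟩ fun e => commutator_le_of_norm_right
      (le_normalizer_centralizer (norm_WZ h he hc (comm_Z h he hc hx hy)))
      (commutator_mem_commutator hg e)

theorem nsM : H53.FM.NSStmt.{u} := FmNS.ns coreAb coreSp

theorem nsP : H85.FP.NSStmt.{u} := nsM.fp

end Cfsg.Agent.H69.FmC
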