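import Cfsg.Agent.H69.LtUp2
import Cfsg.Agent.H10.PGU3b
import Cfsg.Agent.H52.Quasisimple

/-! Standard subgroups with Sylow subgroup `D₈`: the consequences of the frame `Up`. -/

set_option autoImplicit false

namespace Cfsg.Agent.H69.LtUp

open Subgroup Cfsg.Agent.H85 Cfsg.Agent.H93.LT Cfsg.Agent.H10.LT

universe u

/-- a quasisimple group with odd centre: a proper subgroup controlling its involutions has a strongly
embedded image -/
theorem se_quot {A : Type u} [Group A] [Finite A] (ho : Odd (Nat.card (center A))) {M : Subgroup A}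
    (hZ : center A ≤ M) (hM : M ≠ ⊤) {z : A} (zM : z ∈ M) (z2 : z * z = 1) (zZ : z ∉ center A)
    (h : ∀ u g : A, u * u = 1 → u ≠ 1 → u ∈ M → g⁻¹ * u * g ∈ M → g ∈ M) :
    Cfsg.IsStronglyEmbedded (M.map (QuotientGroup.mk' (center A))) := by
  have mem : ∀ g : A, QuotientGroup.mk' (center A) g ∈ M.map (QuotientGroup.mk' (center A)) ↔ g ∈ M :=
    fun g => by
      rw [← mem_comap, comap_map_eq, QuotientGroup.ker_mk', sup_eq_left.2 hZ]
  refine ⟨fun e => hM (eq_top_iff.2 fun g _ => (mem g).1 (e.ge (mem_top _))), ?_, fun g hg => ?_⟩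
  · have : orderOf (QuotientGroup.mk' (center A) z) = 2 := orderOf_eq_prime
      (by rw [← map_pow, pow_two, z2, map_one]) fun e => zZ ((QuotientGroup.eq_one_iff z).1 e)
    exact even_iff_two_dvd.2 (this ▸ orderOf_dvd_natCard _ ((mem z).2 zM))
  obtain ⟨g, rfl⟩ := QuotientGroup.mk'_surjective _ g
  refine Nat.not_even_iff_odd.1 fun e => hg ((mem g).2 ?_)
  obtain ⟨⟨u, u1, u2⟩, hu⟩ := exists_prime_orderOf_dvd_card' 2 e.two_dvd
  obtain ⟨u, rfl⟩ := QuotientGroup.mk'_surjective _ u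
  replace hu : orderOf (QuotientGroup.mk' (center A) u) = 2 := (orderOf_coe _).trans hu
  have u3 : g⁻¹ * u * g ∈ M := (mem _).1 (by
    obtain ⟨v, hv, e⟩ := u2
    rw [map_mul, map_mul, map_inv, ← e]
    simpa [mul_assoc] using hv)
  have u4 : u ^ 2 ∈ center A := (QuotientGroup.eq_one_iff _).1 (by
    have := pow_orderOf_eq_one (QuotientGroup.mk' (center A) u)
    rwa [hu] at this)
  refine h (u ^ Nat.card (center A)) g ?_ (fun e => ?_) (pow_mem ((mem u).1 u1) _) ?_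
  · rw [← pow_add, ← two_mul, pow_mul]
    exact congrArg Subtype.val (pow_card_eq_one' (x := (⟨_, u4⟩ : center A)))
  · have := mem_of_odd (Z := center A) ho (e ▸ one_mem _) (pow_two u ▸ u4)
    rw [show QuotientGroup.mk' (center A) u = 1 from (QuotientGroup.eq_one_iff u).2 this,
      orderOf_one] at hu
    omega
  · simpa [← conj_pow] using (show g⁻¹ * u ^ Nat.card (center A) * g⁻¹⁻¹ ∈ M by
      rw [← conj_pow, inv_inv]; exact pow_mem u3 _)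

variable {G : Type u} [Group G] [Finite G] (h : Up G)

omit [Finite G] in
theorem up_rN : cn h.r h.x ∈ h.toSt.N :=
  ti' h.toSt h.d8.rel.2.1 h.d8.rel.2.2.1 h.zx (h.hr.zr.symm ▸ h.ax)

theorem zK : h.z ∉ h.toSt.K := fun e => h.d8.rel.2.2.1 (DK h.toSt h.d8.zD e)

theorem up_ne : ∃ m ∈ h.A, cn m h.x ∉ h.toSt.N := by
  by_contra! c
  have zA := h.sylD.le h.d8.zD
  rcases H52.IsQuasisimple.le_or_commutator_inf_eq_bot h.sd.1.1 (N := cj h.x h.toSt.K)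
    (fun m hm => mem_normalizer_fintype fun u hu => mem_cj.2 (by
      simpa [cn] using KN' h.toSt (mem_cj.1 hu) (c _ (inv_mem hm)))) with e | e
  · refine h.sd.1.2.2.1 h.x⁻¹ (fun e' => h.xN ?_) ?_
    · rw [← inv_mem_iff]
      exact mem_normalizer_fintype fun u hu => e'.le ⟨u, hu, rfl⟩
    · rw [commutator_eq_bot_iff_le_centralizer, le_centralizer_iff]
      rintro _ ⟨u, hu, rfl⟩
      simpa using mem_cj.1 (e hu)
  · exact zK h (commutator_eq_bot_iff_le_centralizer.1 e ⟨zA, mem_cj.2 h.zx⟩)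

theorem up_fK : cn h.b h.x ∉ h.toSt.K := fun hb => by
  have zA := h.sylD.le h.d8.zD
  obtain ⟨a2, z2, z1, ab, -⟩ := h.d8.rel
  have hD : h.D ≤ cj h.x h.toSt.K := by
    rw [h.d8.eq_closure, closure_le]
    rintro _ (rfl | rfl)
    exacts [mem_cj.2 h.ax, mem_cj.2 hb]
  have hN : ∀ n, Commute h.z n → cn n h.x ∈ h.toSt.N := fun n e =>
    ti' h.toSt z2 z1 h.zx (by rw [cn_of e]; exact h.zx)
  have inv : ∀ u ∈ h.A, u * u = 1 → cn u h.x ∈ h.toSt.N → cn u h.x ∈ h.toSt.K := fun u uA u2 uN => by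
    obtain ⟨m, hm, l⟩ := (h.sylD.of_le (K := h.A ⊓ cj h.x h.toSt.N)
      (le_inf h.sylD.le fun d hd => mem_cj.2 (hN d (h.d8.zc hd))) inf_le_left).exists_cj_le
      (Q := zpowers u) (IsPGroup.of_card_dvd_pow (n := 1) (by
        rw [Nat.card_zpowers]; exact orderOf_dvd_of_pow_eq_one (by rwa [pow_one, pow_two])))
      (zpowers_le.2 ⟨uA, mem_cj.2 uN⟩)
    simpa [cn, mul_assoc] using
      KN' h.toSt (mem_cj.1 (hD (l (conj_mem_cj (mem_zpowers u))))) (mem_cj.1 hm.2)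
  obtain ⟨m, hm, hm'⟩ := up_ne h
  have zZ : (⟨h.z, zA⟩ : h.A) ∉ center h.A := fun e =>
    zK h fun g hg => congrArg Subtype.val (mem_center_iff.1 e ⟨g, hg⟩)
  have se := se_quot h.sd.2.1 (M := (cj h.x h.toSt.N).subgroupOf h.A)
    (fun c hc => mem_cj.2 (hN c (congrArg Subtype.val (mem_center_iff.1 hc ⟨h.z, zA⟩))))
    (fun e => hm' (mem_cj.1 (e.ge (mem_top (⟨m, hm⟩ : h.A))))) (z := ⟨h.z, zA⟩)
    (mem_cj.2 (hN _ rfl)) (Subtype.ext z2) zZ fun u g u2 u1 uM gM => by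
      have u2' : u.1 * u.1 = 1 := congrArg Subtype.val u2
      exact mem_cj.2 (ti' h.toSt u2' (fun e => u1 (Subtype.ext e)) (inv u u.2 u2' (mem_cj.1 uM))
        (inv _ (g⁻¹ * u * g).2 (cn_sq u2' _) (mem_cj.1 gM)))
  have ti := H10.PGU.ti_of_se h.sd.1.1.2 (H52.IsQuasisimple.not_isMulCommutative_quotient h.sd.1.1)
    ⟨_, se⟩
  let π := QuotientGroup.mk' (center h.A)
  let S := h.sylD.toSylow.mapSurjective (QuotientGroup.mk'_surjective (center h.A))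
  have mS : ∀ d (hd : d ∈ h.D), π ⟨d, h.sylD.le hd⟩ ∈ S := fun d hd => ⟨_, hd, rfl⟩
  let r : h.A := ⟨h.r, h.hr.mem⟩
  have aA := h.sylD.le h.d8.aD
  have bA := h.sylD.le h.d8.symm.aD
  have r3 : cn (h.a * h.z) h.r = h.z := by
    rw [cn_mul, h.hr.zr, h.hr.ar, mul_assoc, h.d8.zc h.d8.aD, ← mul_assoc, a2, one_mul]
  have e := ti (π ⟨h.z, zA⟩) (orderOf_eq_prime (by
      rw [← map_pow]; exact (congrArg π (Subtype.ext (by simpa [pow_two] using z2))).trans (map_one π))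
    fun e => zZ ((QuotientGroup.eq_one_iff _).1 e)) S ((π r)⁻¹ • S) (mS _ h.d8.zD) (by
      have : π ⟨h.z, zA⟩ = (π r)⁻¹ * π ⟨_, h.sylD.le (mul_mem h.d8.aD h.d8.zD)⟩ * (π r)⁻¹⁻¹ := by
        rw [inv_inv, ← map_inv, ← map_mul, ← map_mul]
        exact congrArg π (Subtype.ext r3.symm)
      rw [this]
      exact smul_mem_pointwise_smul _ (MulAut.conj (π r)⁻¹) _ (mS _ (mul_mem h.d8.aD h.d8.zD)))
  obtain ⟨_, ⟨d, hd, rfl⟩, e'⟩ : π ⟨h.b, bA⟩ ∈ (((π r)⁻¹ • S : Sylow 2 _) : Subgroup _) :=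
    e ▸ mS _ h.d8.symm.aD
  have e1 : π (r⁻¹ * d * r) = π ⟨h.b, bA⟩ := by
    rw [← e', map_mul, map_mul, map_inv]
    exact congrArg _ (inv_inv _).symm
  have e2 : (⟨h.a, aA⟩ : h.A) * (r⁻¹ * d * r) = r⁻¹ * d * r * ⟨h.a, aA⟩ := Subtype.ext (by
    show h.a * cn d.1 h.r = cn d.1 h.r * h.a
    rw [← h.hr.zr, ← cn_mul, ← cn_mul, h.d8.zc (x := d.1) hd])
  have e3 := congrArg π e2
  rw [map_mul, map_mul π (r⁻¹ * d * r), e1] at e3
  refine zZ ((QuotientGroup.eq_one_iff _).1 ?_)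
  have e4 : (⟨h.z, zA⟩ : h.A) = (⟨h.a, aA⟩ : h.A)⁻¹ * ((⟨h.b, bA⟩ : h.A)⁻¹ * (⟨h.a, aA⟩ * ⟨h.b, bA⟩)) :=
    Subtype.ext (by
      show h.z = h.a⁻¹ * (h.b⁻¹ * (h.a * h.b))
      rw [← mul_assoc h.b⁻¹, show h.b⁻¹ * h.a * h.b = _ from ab, inv_mul_cancel_left])
  show π _ = 1
  rw [e4, map_mul, map_mul, map_mul, e3, map_inv, map_inv]
  group

theorem up3 : Up3Stmt.{u} := by
  intro G _ _ h
  have bD : cn (cn h.b h.x) h.x ∈ h.D := cn_cn h.b h.x h.x ▸ cn_mem (TD h.toSt h.xx) h.d8.symm.aD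
  have fC := cenD h.toSt h.xT h.zx (cn_mem h.xT (DT h.toSt h.d8.symm.aD)) bD
  refine ⟨fC, up_fK h, fun e => up_fK h (jz h.toSt.symm h.xT h.xx h.zx e), ?_, up_rN h, up_ne h⟩
  refine (h.hr.fix _ fC).resolve_right fun e => ?_
  obtain ⟨a2, z2, -, -, -, az, -⟩ := h.d8.rel
  have e1 := cn_of e.symm
  rw [cn_mul, h.hr.zr] at e1
  have e2 : h.z * h.a = (cn h.b h.x)⁻¹ * cn (cn h.b h.x) h.r := by
    rw [eq_mul_inv_of_mul_eq e1, inv_eq_of_mul_eq_one_right a2]; group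
  have e3 : cn (h.z * h.a) h.x ∈ h.A := by
    rw [e2, cn_mul, cn_cn' _ h.r]
    exact mul_mem (by simpa [cn, mul_assoc] using inv_mem (h.sylD.le bD))
      (cn_mem (up_rN h) (h.sylD.le bD))
  refine cn_ne (fun c => az ?_) h.x (DK h.toSt (h.DA.le ⟨cn_mem h.xT (DT h.toSt
    (mul_mem h.d8.zD h.d8.aD)), e3⟩) (mulK h.toSt h.zx h.ax))
  rw [eq_inv_of_mul_eq_one_right c, inv_eq_of_mul_eq_one_right z2]

end Cfsg.Agent.H69.LtUp
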