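import Mathlib
import Cfsg.Agent.H96.D4Defs
import Cfsg.Agent.H8.SylowIn

/-!
# Project D4F: piece AQG (the automizer of `Q`)
-/

set_option autoImplicit false

namespace Cfsg.Agent.H69.D4

open Cfsg.Agent.H97 Cfsg.Agent.H96.VB Cfsg.Agent.H96.CP Cfsg.Agent.H96.DF Subgroup
open scoped commutatorElement

universe u

section Gen

variable {G : Type u} [Group G] {N : Subgroup G}

theorem nm_mul {α β : MulAut N} (h : Nm α) (k : Nm β) : Nm (α * β) := fun s => by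
  obtain ⟨s', e⟩ := k s
  obtain ⟨s'', e'⟩ := h s'
  exact ⟨s'', fun x hx => by rw [ext_mul, ext_mul, e x hx, e' _ (ext_mem β hx)]⟩

theorem ex_cj [N.Normal] (s : G) : ∃ α : MulAut N, Cj α s :=
  exists_cj (by rw [normalizer_eq_top]; trivial)

theorem nm_of_cj [N.Normal] {α : MulAut N} (h : ∀ β s, Cj β s → ∃ s', Cj (α * β * α⁻¹) s') :
    Nm α := fun s => by
  obtain ⟨β, hβ⟩ := ex_cj (N := N) s
  obtain ⟨s', e⟩ := h β s hβ
  refine ⟨s', fun x hx => ?_⟩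
  rw [← e _ (ext_mem α hx), ext_mul, ext_mul, ext_inv_ext, hβ x hx]

theorem mem_ind {β : MulAut N} : β ∈ autInducedBy ⊤ N ↔ ∃ s, Cj β s :=
  mem_autInducedBy_iff.trans ⟨fun ⟨s, _, k⟩ => ⟨s, k⟩, fun ⟨s, k⟩ => ⟨s, trivial, k⟩⟩

theorem ex_res (h : ∀ γ : MulAut G, ∀ g ∈ N, γ g ∈ N) (β : MulAut G) :
    ∃ α : MulAut N, ∀ x ∈ N, ext α x = β x :=
  ⟨{ toFun := fun x => ⟨β x, h β x x.2⟩
     invFun := fun x => ⟨β⁻¹ x, h _ x x.2⟩
     left_inv := fun x => Subtype.ext (β.symm_apply_apply x)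
     right_inv := fun x => Subtype.ext (β.apply_symm_apply x)
     map_mul' := fun x y => Subtype.ext (map_mul β _ _) }, fun x hx => by rw [ext_apply _ hx]; rfl⟩

end Gen

variable {F K : Type u} [Field F] [Field K] [Algebra F K] {C : Tri F K}

/-- `α` acts on the centre as the scalar `ε`. -/
def Zs (α : MulAut (Q C)) (ε : F) : Prop := ∀ z, ext α (xz C z) = xz C (ε * z)

theorem xz_mem (z : F) : xz C z ∈ Q C := rfl

theorem xz_inj {z w : F} (h : xz C z = xz C w) : z = w := congrArg U.z h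

theorem xz_add (z w : F) : xz C z * xz C w = xz C (z + w) := by ext <;> simp [xz]

theorem xz_conj (s : U C) (z : F) : s * xz C z * s⁻¹ = xz C z := by simp only [xz]; d4e

variable (C) in
/-- a lift from `V` -/
def lift (v : V F K) : U C := ⟨0, v.2.2.2, v.2.2.1, v.2.1, v.1, 0⟩

theorem lift_mem (v : V F K) : lift C v ∈ Q C := rfl

theorem ac_eq {α : MulAut (Q C)} {f g : V F K → V F K} (h : Ac α f) (k : Ac α g) (v : V F K) :
    f v = g v := (h _ (lift_mem v)).symm.trans (k _ (lift_mem v))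

theorem ac_mul {α β : MulAut (Q C)} {d e : V F K ≃ₗ[F] V F K} (h : Ac α d) (k : Ac β e) :
    Ac (α * β) (d * e :) := fun g hg => by
  rw [ext_mul, h _ (ext_mem β hg), k g hg]; rfl

theorem ac_inv {α : MulAut (Q C)} {d : V F K ≃ₗ[F] V F K} (h : Ac α d) : Ac α⁻¹ (d⁻¹ :) :=
  fun g hg => by
    have := h _ (ext_mem α⁻¹ hg)
    rw [ext_ext_inv] at this
    rw [this]
    exact (d.symm_apply_apply _).symm

theorem ac_one : Ac (1 : MulAut (Q C)) (1 : V F K ≃ₗ[F] V F K) := fun g _ => by rw [ext_one]; rfl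

theorem ac_pow {α : MulAut (Q C)} {d : V F K ≃ₗ[F] V F K} (h : Ac α d) (n : ℕ) :
    Ac (α ^ n) (d ^ n :) := by
  induction n with
  | zero => exact ac_one
  | succ n ih => rw [pow_succ, pow_succ]; exact ac_mul ih h

theorem cj_ac {β : MulAut (Q C)} {s : U C} (h : Cj β s) : Ac β (ρ C s.t) := fun g hg => by
  rw [h g hg, br_conj s hg]

theorem cj_zs {β : MulAut (Q C)} {s : U C} (h : Cj β s) : Zs β 1 := fun z => by
  rw [h _ (xz_mem z), xz_conj, one_mul]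

theorem ac_om {α : MulAut (Q C)} {f : V F K → V F K} (h : Ac α f) (v w : V F K) :
    ext α (xz C (om C v w)) = xz C (om C (f v) (f w)) := by
  have e := ext_map_comm α (lift_mem (C := C) v) (lift_mem w)
  rwa [comm_Q (lift_mem v) (lift_mem w), comm_Q (ext_mem α (lift_mem v)) (ext_mem α (lift_mem w)),
    h _ (lift_mem v), h _ (lift_mem w)] at e

theorem zs_of_id {α : MulAut (Q C)} (h : Ac α id) : Zs α 1 := fun z => by
  have := ac_om h (z, 0, 0, 0) e3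
  simpa [om, e3] using this

theorem ker_pow {p : ℕ} [CharP F p] {α : MulAut (Q C)} (h : Ac α id) : α ^ p = 1 := by
  refine aut_eq_one fun g hg => ?_
  have h1 : ext α g = g * xz C ((ext α g).z - g.z) := by
    have e := h g hg
    have e0 := mem_Q.1 (ext_mem α hg)
    simp only [br, id, Prod.mk.injEq] at e
    ext <;> simp [xz, e0, mem_Q.1 hg, e.1, e.2.1, e.2.2.1, e.2.2.2]
  generalize (ext α g).z - g.z = c at h1
  have h2 : ∀ n : ℕ, ext (α ^ n) g = g * xz C (n * c) := fun n => by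
    induction n with
    | zero => rw [pow_zero, ext_one, Nat.cast_zero, zero_mul]; exact (mul_one g).symm
    | succ n ih =>
      rw [pow_succ', ext_mul, ih, ext_map_mul α hg (xz_mem _), h1, zs_of_id h, mul_assoc, xz_add]
      congr 2
      push_cast
      ring
  rw [h2, CharP.cast_eq_zero, zero_mul]
  exact mul_one g

theorem t_eq_zero {t : K} (h : ∀ v, ρ C t v = v) : t = 0 := by
  have := congrArg (fun v : V F K => v.2.2.1) (h e3)
  simpa [ρ_apply, rmap, e3] using this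

theorem nv_tor (c : Kˣ × Fˣ) : NV C (torV C c) := fun t => ⟨c.1 * t, by
  rw [mul_inv_eq_iff_eq_mul]
  refine LinearEquiv.ext fun v => ?_
  simp only [LinearEquiv.mul_apply, ρ_apply, torV_apply, rmap, vmap]
  d4v⟩

theorem nv_of_nm {α : MulAut (Q C)} {d : V F K ≃ₗ[F] V F K} (h : Ac α d) (k : Nm α) : NV C d :=
  fun t => by
    obtain ⟨s, e⟩ := k (xt C t)
    refine ⟨s.t, ?_⟩
    rw [mul_inv_eq_iff_eq_mul]
    refine LinearEquiv.ext fun v => ?_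
    have h1 := congrArg br (e _ (lift_mem v))
    rw [h _ ((nQ (C := C)).conj_mem _ (lift_mem v) _), br_conj _ (lift_mem v),
      br_conj _ (ext_mem α (lift_mem v)), h _ (lift_mem v)] at h1
    exact h1

/-- the members of `A` acting as `±1` on the centre -/
def A0 (A : Subgroup (MulAut (Q C))) : Subgroup (MulAut (Q C)) where
  carrier := {α | α ∈ A ∧ ∃ ε, ε * ε = 1 ∧ Zs α ε}
  one_mem' := ⟨one_mem _, 1, one_mul 1, fun z => by rw [ext_one, one_mul]⟩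
  mul_mem' := fun {α β} ⟨h1, ε, h2, h3⟩ ⟨k1, η, k2, k3⟩ => ⟨mul_mem h1 k1, ε * η, by
    rw [mul_mul_mul_comm, h2, k2, one_mul], fun z => by rw [ext_mul, k3, h3, mul_assoc]⟩
  inv_mem' := fun {α} ⟨h1, ε, h2, h3⟩ => ⟨inv_mem h1, ε, h2, fun z => by
    conv_lhs => rw [← one_mul z, ← h2, mul_assoc, ← h3, ext_inv_ext]⟩

/-- the linear group induced by `A0` -/
def DD (A : Subgroup (MulAut (Q C))) : Subgroup (V F K ≃ₗ[F] V F K) where
  carrier := {d | ∃ α ∈ A0 A, Ac α d}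
  one_mem' := ⟨1, one_mem _, ac_one⟩
  mul_mem' := fun ⟨_, h1, h2⟩ ⟨_, k1, k2⟩ => ⟨_, mul_mem h1 k1, ac_mul h2 k2⟩
  inv_mem' := fun ⟨_, h1, h2⟩ => ⟨_, inv_mem h1, ac_inv h2⟩

theorem ex_lin (aq1 : AQ1Stmt C) {A : Subgroup (MulAut (Q C))} {α : MulAut (Q C)} (h : α ∈ A0 A) :
    ∃ d : V F K ≃ₗ[F] V F K, Ac α d := by
  obtain ⟨φ, m, f, hm, h1, h2, h3⟩ := aq1 α
  obtain ⟨-, ε, -, h4⟩ := h
  have h5 : ∀ z, m * φ z = ε * z := fun z => xz_inj ((h1 z).symm.trans (h4 z))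
  have h6 : m = ε := by simpa using h5 1
  have h7 : ∀ z, φ z = z := fun z => mul_left_cancel₀ hm (by rw [h5, h6])
  exact ⟨{ f with map_smul' := fun c v => (h2 c v).trans (by rw [h7]; rfl) }, h3⟩

theorem A0_conj (aq1 : AQ1Stmt C) {A : Subgroup (MulAut (Q C))} {α δ : MulAut (Q C)} (h : α ∈ A)
    (k : δ ∈ A0 A) : α * δ * α⁻¹ ∈ A0 A := by
  obtain ⟨k1, ε, k2, k3⟩ := k
  obtain ⟨φ, m, -, -, h1, -⟩ := aq1 α⁻¹
  refine ⟨mul_mem (mul_mem h k1) (inv_mem h), ε, k2, fun z => ?_⟩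
  have e : φ ε = ε := by rcases mul_self_eq_one_iff.1 k2 with rfl | rfl <;> simp
  rw [ext_mul, ext_mul, h1, k3, mul_left_comm, ← e, ← map_mul, ← h1, ext_ext_inv, e]

variable [Finite K] {p : ℕ} [Fact p.Prime] [CharP F p] {A : Subgroup (MulAut (Q C))}

theorem kerQ (h : LA p (Q C) A) : KerQ A := by
  let M : Subgroup (MulAut (Q C)) :=
    { carrier := {α | α ∈ A ∧ Ac α (1 : V F K ≃ₗ[F] V F K)}
      one_mem' := ⟨one_mem _, ac_one⟩
      mul_mem' := fun ⟨h1, h2⟩ ⟨k1, k2⟩ => ⟨mul_mem h1 k1, ac_mul h2 k2⟩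
      inv_mem' := fun ⟨h1, h2⟩ => ⟨inv_mem h1, ac_inv h2⟩ }
  intro α hα k
  have cj : ∀ s β, Cj β s → ∀ γ ∈ M, β * γ * β⁻¹ ∈ M := fun s β e γ hγ =>
    ⟨mul_mem (mul_mem (h.cj β s e) hγ.1) (inv_mem (h.cj β s e)), by
      have := ac_mul (ac_mul (cj_ac e) hγ.2) (ac_inv (cj_ac e))
      rwa [mul_one, mul_inv_cancel] at this⟩
  obtain ⟨s, e⟩ := h.two (U.isPGroup p) (M := M) (fun _ k => k.1)
    (fun γ => ⟨1, Subtype.ext (by rw [pow_one]; exact ker_pow γ.2.2)⟩)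
    (fun s β e => mem_normalizer_iff.2 fun γ => ⟨cj s β e γ, fun k => by
      have := cj _ _ e.inv _ k
      rwa [show β⁻¹ * (β * γ * β⁻¹) * β⁻¹⁻¹ = γ by group] at this⟩) α ⟨hα, k⟩
  exact ⟨s, t_eq_zero (ac_eq (cj_ac e) k), e⟩

theorem cj_of_ac (h : LA p (Q C) A) {α : MulAut (Q C)} (hα : α ∈ A) {t : K} (k : Ac α (ρ C t)) :
    ∃ s, Cj α s := by
  obtain ⟨β, hβ⟩ := ex_cj (N := Q C) (xt C t)
  have h1 := ac_mul k (ac_inv (cj_ac hβ))
  rw [show ρ C (xt C t).t = ρ C t from rfl, mul_inv_cancel] at h1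
  obtain ⟨e, -, he⟩ := kerQ h _ (mul_mem hα (inv_mem (h.cj _ _ hβ))) h1
  have := he.mul hβ
  rw [inv_mul_cancel_right] at this
  exact ⟨_, this⟩

theorem nm_of_nv (h : LA p (Q C) A) {α : MulAut (Q C)} (hα : α ∈ A) {d : V F K ≃ₗ[F] V F K}
    (k : Ac α d) (n : NV C d) : Nm α := nm_of_cj fun β s e => by
  obtain ⟨t, ht⟩ := n s.t
  exact cj_of_ac h (mul_mem (mul_mem hα (h.cj _ _ e)) (inv_mem hα))
    (ht ▸ ac_mul (ac_mul k (cj_ac e)) (ac_inv k))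

theorem frat (aq1 : AQ1Stmt C) (h : LA p (Q C) A) {α : MulAut (Q C)} (hα : α ∈ A) :
    ∃ δ ∈ A0 A, ∃ b ∈ A, Nm b ∧ α = δ * b := by
  have h1 : H8.IsSylowIn p (autInducedBy ⊤ (Q C)) (A0 A) := H8.isSylowIn_of_maximal
    (fun β hβ => by
      obtain ⟨s, e⟩ := mem_ind.1 hβ
      exact ⟨h.cj _ _ e, 1, one_mul 1, cj_zs e⟩)
    (isPGroup_autInducedBy ((U.isPGroup p).to_subgroup _)) fun M h1 h2 h3 β hβ =>
      mem_ind.2 (h.syl M (fun _ k => (h2 k).1) h1 (fun _ s k => h3 (mem_ind.2 ⟨s, k⟩)) β hβ)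
  obtain ⟨δ, hδ, b, hb, e⟩ := h1.frattini (g := α) (mem_normalizer_iff.2 fun γ =>
    ⟨A0_conj aq1 hα, fun k => by
      have := A0_conj aq1 (inv_mem hα) k
      rwa [show α⁻¹ * (α * γ * α⁻¹) * α⁻¹⁻¹ = γ by group] at this⟩)
  refine ⟨δ, hδ, b, ?_, nm_of_cj fun β s k => mem_ind.1 ?_, e⟩
  · rw [e] at hα
    exact (mul_mem_cancel_left hδ.1).1 hα
  · exact (mem_normalizer_iff.1 hb β).1 (mem_ind.2 ⟨s, k⟩)

theorem dv (ch : ChS C) {B L : Subgroup (MulAut (U C))} (top : Top C p B L)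
    (h : LB p B (Q C) A) (ti : TI A) (h3 : Nat.card F = 3 → tor C (-1, 1) ∈ L) : DV C p (DD A) where
  rho t := by
    obtain ⟨β, e⟩ := ex_cj (N := Q C) (xt C t)
    exact ⟨β, ⟨h.cj _ _ e, 1, one_mul 1, cj_zs e⟩, cj_ac e⟩
  form := fun d ⟨α, ⟨_, ε, h1, h2⟩, k⟩ =>
    ⟨ε, h1, fun v w => xz_inj ((ac_om k v w).symm.trans (h2 _))⟩
  quad := fun hp d ⟨α, ⟨_, ε, h1, h2⟩, k⟩ v => by
    subst hp
    have two : (2 : F) = 0 := CharTwo.two_eq_zero
    have e1 : ε = 1 := (mul_self_eq_one_iff.1 h1).elim id fun e => by rw [e, CharTwo.neg_eq]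
    have sq : ∀ g ∈ Q C, g * g = xz C (qf C (br g)) := fun g hg => by
      have t2 : (2 : K) = 0 := by rw [← map_ofNat (algebraMap F K) 2, two, map_zero]
      have h0 := mem_Q.1 hg
      refine U.ext ?_ ?_ ?_ ?_ ?_ ((sq_z hg).trans (by rw [two, zero_mul, zero_add]; rfl)) <;>
        simp [xz, h0, ← two_mul, two, t2]
    have e := ext_map_mul α (lift_mem (C := C) v) (lift_mem v)
    rw [sq _ (lift_mem v), sq _ (ext_mem α (lift_mem v)), k _ (lift_mem v), h2, e1, one_mul] at e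
    exact (xz_inj e).symm
  ti := fun d ⟨α, hα, k⟩ t s ht e => by
    obtain ⟨β, hβ⟩ := ex_cj (N := Q C) (xt C t)
    obtain ⟨s', hs⟩ := cj_of_ac h.toLA (mul_mem (mul_mem hα.1 (h.cj _ _ hβ)) (inv_mem hα.1))
      (e ▸ ac_mul (ac_mul k (cj_ac hβ)) (ac_inv k))
    exact nv_of_nm k (ti α hα.1 β _ s' hβ ht hs)
  nm := fun d ⟨α, ⟨hα, ε, h1, h2⟩, k⟩ n => by
    obtain ⟨β, hβ, e⟩ := h.ext α hα (nm_of_nv h.toLA hα k n)
    obtain ⟨s, l, hl, rfl⟩ := (top.2 β).1 hβ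
    obtain ⟨c, φ, rfl, ho⟩ := top.1 l hl
    have h4 : ∀ z, C.N c.1 * (c.2 : F) ^ 2 * fF C φ z = ε * z := fun z => by
      have := (e _ (xz_mem z)).symm.trans (h2 z)
      have e2 : tor C c (fld C φ (xz C z)) = xz C (C.N c.1 * (c.2 : F) ^ 2 * fF C φ z) := by
        simp [tor_apply, H96.DF.fld_apply, tmap, H96.DF.fmap, xz]
      rw [MulAut.mul_apply, MulAut.mul_apply, e2, MulAut.conj_apply, xz_conj] at this
      exact xz_inj this
    have h5 : C.N c.1 * (c.2 : F) ^ 2 = ε := by simpa using h4 1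
    have h6 : ∀ z, fF C φ z = z := fun z => mul_left_cancel₀ (left_ne_zero_of_mul_eq_one h1) (by
      rw [← h4 z, h5])
    let θ : K ≃ₐ[F] K := { φ with commutes' := fun z => (alg_fF C φ z).symm.trans (by rw [h6]) }
    refine ⟨s.t, c, θ, LinearEquiv.ext fun v => ?_, by rw [h5, sq, h1], fun hp => ?_⟩
    · have h7 := k _ (lift_mem v)
      rw [e _ (lift_mem v), MulAut.mul_apply, MulAut.mul_apply, MulAut.conj_apply,
        br_conj _ (ch.q _ _ (ch.q _ _ (lift_mem v))), br_tor] at h7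
      refine h7.symm.trans ?_
      simp only [LinearEquiv.mul_apply, galV_apply, H96.DF.fld_apply, H96.DF.fmap, br, lift, h6]
      rfl
    · subst hp
      have h7 : θ ^ 3 = 1 := by
        rw [← C.finrank, ← IsGalois.card_aut_eq_finrank, pow_card_eq_one']
      have h8 : φ ^ 3 = 1 := RingEquiv.ext fun a => AlgEquiv.congr_fun h7 a
      have h9 : φ = 1 := orderOf_eq_one_iff.1 (((Nat.dvd_prime Nat.prime_three).1
        (orderOf_dvd_of_pow_eq_one h8)).resolve_right fun e => ho e.symm.dvd)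
      exact AlgEquiv.ext fun a => RingEquiv.congr_fun h9 a
  syl := fun M hM h1 h2 d hd => by
    let M' : Subgroup (MulAut (Q C)) :=
      { carrier := {α | α ∈ A ∧ ∃ d ∈ M, Ac α d}
        one_mem' := ⟨one_mem _, 1, one_mem _, ac_one⟩
        mul_mem' := fun ⟨a1, _, a2, a3⟩ ⟨b1, _, b2, b3⟩ =>
          ⟨mul_mem a1 b1, _, mul_mem a2 b2, ac_mul a3 b3⟩
        inv_mem' := fun ⟨a1, _, a2, a3⟩ => ⟨inv_mem a1, _, inv_mem a2, ac_inv a3⟩ }
    obtain ⟨α, hα, k⟩ := hM hd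
    obtain ⟨s, e⟩ := h.syl M' (fun _ k => k.1) (fun ⟨γ, _, f, a2, a3⟩ => by
      obtain ⟨n, hn⟩ := h1 ⟨f, a2⟩
      have h4 := ac_pow a3 (p ^ n)
      rw [show f ^ p ^ n = 1 from congrArg Subtype.val hn] at h4
      exact ⟨n + 1, Subtype.ext (by rw [pow_succ, pow_mul]; exact ker_pow h4)⟩)
      (fun β s e => ⟨h.cj _ _ e, _, h2 _, cj_ac e⟩) α ⟨hα.1, d, hd, k⟩
    exact ⟨s.t, LinearEquiv.ext (ac_eq k (cj_ac e))⟩
  three := fun hq => by
    obtain ⟨α, e⟩ := ex_res ch.q (tor C (-1, 1))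
    refine ⟨α, ⟨h.res _ ((top.2 _).2 ⟨1, _, h3 hq, by rw [map_one, one_mul]⟩) α e, -1, by simp,
      fun z => ?_⟩, fun g hg => by rw [e g hg, br_tor]⟩
    rw [e _ (xz_mem z)]
    simp [tor_apply, tmap, xz]

omit [Finite K] [Fact p.Prime] [CharP F p] in
theorem nm_e0 (ch : ChS C) {B : Subgroup (MulAut (U C))} (h : LB p B (Q C) A) {b : MulAut (Q C)}
    (hb : b ∈ A) (n : Nm b) : ∃ c : F, c ≠ 0 ∧ br (ext b (xa C 1)) = c • e0 := by
  obtain ⟨β, -, e⟩ := h.ext b hb n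
  rw [e _ (show xa C 1 ∈ Q C from rfl)]
  obtain ⟨w1, w2, w3, w4⟩ := ch.w β (xa C 1) ⟨rfl, rfl, rfl, rfl⟩
  refine ⟨(β (xa C 1)).a, fun e0 => ?_, by simp [br, e0, w2, w3, w4]⟩
  have := (ch.z β⁻¹ _ ⟨w1, w2, w3, w4, e0⟩).2.2.2.2
  rw [MulAut.inv_apply_self] at this
  exact one_ne_zero this

theorem nm_of_fix (ch : ChS C) (aq1 : AQ1Stmt C) {B : Subgroup (MulAut (U C))} (h : LB p B (Q C) A)
    (o : Orb C (DD A)) {γ : MulAut (Q C)} (hγ : γ ∈ A) (k : (ext γ (xa C 1)).u = 0) : Nm γ := by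
  obtain ⟨δ, hδ, b, hb, n, rfl⟩ := frat aq1 h.toLA hγ
  obtain ⟨d, hd⟩ := ex_lin aq1 hδ
  obtain ⟨c, c0, hc⟩ := nm_e0 ch h hb n
  refine nm_mul (nm_of_nv h.toLA hδ.1 hd ((o d ⟨δ, hδ, hd⟩).resolve_right fun ⟨t, c', e⟩ => ?_)) n
  have h1 := hd _ (ext_mem b (show xa C 1 ∈ Q C from rfl))
  rw [← ext_mul, hc, map_smul, e] at h1
  have h2 := congrArg (fun v : V F K => v.2.2.2) h1
  simp only [br, k, ρ_apply, rmap, e3, Prod.smul_snd, smul_eq_mul, mul_one] at h2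
  rw [(mul_eq_zero.1 h2.symm).resolve_left c0, zero_smul, map_eq_zero_iff _ d.injective] at e
  exact one_ne_zero (congrArg Prod.fst e)

theorem aqg (ch : ChS C) (aq1 : AQ1Stmt C) (aqv : AqvStmt C p) (aqe : AqeStmt C p) :
    AQStmt C p := by
  intro B L A top h ti h3
  have hD := dv ch top h ti h3
  have o : Orb C (DD A) := by
    by_cases k : ∃ d ∈ DD A, ¬ NV C d
    · exact (aqv _ hD k).1
    · exact fun d hd => Or.inl (by_contra fun e => k ⟨d, hd, e⟩)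
  refine ⟨kerQ h.toLA, fun n hn k α hα => ?_, fun ⟨α, hα, k⟩ => ?_⟩
  · obtain ⟨δ, hδ, b, hb, nb, rfl⟩ := frat aq1 h.toLA hα
    obtain ⟨d, hd⟩ := ex_lin aq1 hδ
    refine (o d ⟨δ, hδ, hd⟩).imp (fun e => nm_mul (nm_of_nv h.toLA hδ.1 hd e) nb)
      fun ⟨t, c', e⟩ => ?_
    obtain ⟨c, -, hc⟩ := nm_e0 ch h hb nb
    obtain ⟨β, hβ⟩ := ex_cj (N := Q C) (xt C (-t))
    refine ⟨β, _, hβ, nm_of_fix ch aq1 h o (mul_mem (mul_mem hn (h.cj _ _ hβ)) hα) ?_⟩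
    have h1 := ac_mul (ac_mul k (cj_ac hβ)) hd _ (ext_mem b (show xa C 1 ∈ Q C from rfl))
    rw [← ext_mul, hc, map_smul, mul_assoc _ δ, LinearEquiv.mul_apply, e,
      map_smul, ← LinearEquiv.mul_apply, mul_assoc wV, ← ρ_add,
      show (xt C (-t)).t + t = 0 from neg_add_cancel t, ρ_zero, mul_one] at h1
    have h2 := congrArg (fun v : V F K => v.2.2.2) h1
    simpa [br, wV_apply, e3] using h2
  · obtain ⟨δ, hδ, b, -, nb, rfl⟩ := frat aq1 h.toLA hα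
    obtain ⟨d, hd⟩ := ex_lin aq1 hδ
    obtain ⟨⟨n, hn, k1⟩, k2⟩ := aqe _ hD o (aqv _ hD ⟨d, ⟨δ, hδ, hd⟩, fun e =>
      k (nm_mul (nm_of_nv h.toLA hδ.1 hd e) nb)⟩).2
    refine ⟨⟨n, hn.1, k1⟩, fun m => ?_⟩
    obtain ⟨γ, hγ, e⟩ := k2 m
    exact ⟨γ, hγ.1, nm_of_nv h.toLA hγ.1 e (nv_tor _), e⟩

end Cfsg.Agent.H69.D4
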