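import Cfsg.Agent.H69.CfLinB
import Cfsg.Agent.H88.TuHF
import Cfsg.Agent.H91.FrobC

/-! The module lemma for abelian sections of a finite group. -/

set_option autoImplicit false
set_option linter.unusedSectionVars false
set_option linter.style.haveILetI false

namespace Cfsg.Agent.H69.CF

open Cfsg Cfsg.Agent.H63 Cfsg.Agent.H67 Subgroup
open scoped commutatorElement IsMulCommutative

universe u v

variable {X : Type u} [Group X] [Finite X]

theorem pim_inf_cent {Γ : Type v} [Group Γ] {M A B : Subgroup X} (f : M →* Γ) (hA : A ≤ M)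
    (hB : B ≤ M) (hAB : A ≤ N[B]) (hc : (Nat.card A).Coprime (Nat.card B))
    (hs : Group.IsSolvable B) : pim f B ⊓ C[pim f A] ≤ pim f (B ⊓ C[A]) := by
  rintro y ⟨hy, hy'⟩
  obtain ⟨x, hx, hxB, rfl⟩ := (mem_pim f).1 hy
  have hn : A ≤ N[ppre f ⊥] := le_norm_ppre f hA (by rw [normalizer_eq_top]; exact le_top)
  obtain ⟨d, hd, e, he, h1⟩ := coprime_exists_mul_cent (D := B ⊓ ppre f ⊥)
    (le_normalizer_inf hAB hn) (hc.coprime_dvd_right (card_dvd_of_le inf_le_left))
    (Or.inr (isSolvable_of_le hs inf_le_left)) (x := x) fun a ha => by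
      refine mem_inf.2 ⟨?_, ⟨⁅(⟨x, hx⟩ : M), (⟨a, hA ha⟩ : M)⁆, ?_, rfl⟩⟩
      · rw [commutatorElement_def, mul_assoc, mul_assoc, ← mul_assoc a]
        exact mul_mem hxB ((mem_normalizer_iff.1 (hAB ha) _).1 (inv_mem hxB))
      · rw [SetLike.mem_coe, mem_comap, map_commutatorElement, mem_bot,
          commutatorElement_eq_one_iff_mul_comm]
        exact (hy' _ (mem_pim_of_mem f (hA ha) ha)).symm
  obtain ⟨d', hd', rfl⟩ := hd.2
  have heB : e ∈ B := (B.mul_mem_cancel_left hd.1).1 (h1 ▸ hxB)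
  have h2 : (⟨x, hx⟩ : M) = d' * ⟨e, hB heB⟩ := Subtype.ext h1
  rw [h2, map_mul, mem_bot.1 hd', one_mul]
  exact mem_pim_of_mem f _ ⟨heB, he⟩

theorem dich {Γ : Type*} [Group Γ] [Finite Γ] {T : Subgroup Γ} {s : ℕ} (hs : s.Prime)
    (h : Nat.card T ∣ s) (S : Subgroup Γ) : T ≤ S ∨ T ⊓ S = ⊥ := by
  rw [or_iff_not_imp_right]
  intro hne
  obtain ⟨⟨a, ha⟩, a1⟩ := ne_bot_iff_exists_ne_one.1 hne
  rcases (Nat.dvd_prime hs).1 h with h1 | h1
  · rw [card_eq_one.1 h1]; exact bot_le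
  · exact le_of_mem_prime (h1 ▸ hs) ha.1 (fun e => a1 (Subtype.ext e)) ha.2

theorem cast_ne_zero_of_coprime {K : Type*} [Field K] {l : ℕ} (hl : l.Prime)
    (hK : ∀ q : ℕ, q.Prime → q ≠ l → (q : K) ≠ 0) {n : ℕ} (h : l.Coprime n) : (n : K) ≠ 0 := by
  induction n using induction_on_primes with
  | zero => exact absurd (Nat.coprime_zero_right l |>.1 h) hl.one_lt.ne'
  | one => simp
  | prime_mul p a hp ih =>
    rw [Nat.cast_mul]
    refine mul_ne_zero (hK p hp ?_) (ih (Nat.Coprime.coprime_mul_left_right h))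
    rintro rfl
    exact (Nat.Prime.coprime_iff_not_dvd hl).1 h (dvd_mul_right _ _)

theorem keyG {Y Q F R : Subgroup X} {l s : ℕ} (hl : l.Prime) (hY : IsPGroup l Y)
    (hYc : IsMulCommutative Y) (hQ : Group.IsNilpotent Q) (hF : Group.IsSolvable F)
    (hr : (Nat.card R).Prime) (QY : Q ≤ N[Y]) (FY : F ≤ N[Y]) (RY : R ≤ N[Y]) (FQ : F ≤ N[Q])
    (RQ : R ≤ N[Q]) (RF : R ≤ N[F]) (cQ : (Nat.card Q).Coprime (Nat.card Y))
    (cF : (Nat.card F).Coprime (Nat.card Y)) (cR : (Nat.card R).Coprime (Nat.card Y))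
    (cFQ : (Nat.card F).Coprime (Nat.card Q)) (cRQ : (Nat.card R).Coprime (Nat.card Q))
    (cRF : (Nat.card R).Coprime (Nat.card F)) (hs : s.Prime)
    (hd : Nat.card ↥(F ⊓ C[R]) ∣ s) (hQF : Q ⊓ C[F] = ⊥) (hYF : Y ⊓ C[F] = ⊥) {c : X}
    (hcQ : c ∈ Q) (hc : c ∈ C[R]) (h : Y ⊓ C[R] ≤ C[zpowers c]) : c ∈ C[Y] := by
  let M := Q ⊔ F ⊔ R
  have QM : Q ≤ M := le_sup_left.trans le_sup_left
  have FM : F ≤ M := le_sup_right.trans le_sup_left
  have RM : R ≤ M := le_sup_right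
  have MY : M ≤ N[Y] := sup_le (sup_le QY FY) RY
  have MQ : M ≤ N[Q] := sup_le (sup_le le_normalizer FQ) RQ
  have RN : R ≤ N[Q ⊔ F] := le_normalizer_sup RQ RF
  let D' := normalClosure ({⟨c, QM hcQ⟩} : Set M)
  let D := D'.map M.subtype
  have MD : M ≤ N[D] := by
    have := le_normalizer_map (H := D') M.subtype
    rwa [normalizer_eq_top, ← MonoidHom.range_eq_map, range_subtype] at this
  have DQ : D ≤ Q := by
    haveI : (Q.subgroupOf M).Normal := (normal_subgroupOf_iff_le_normalizer QM).2 MQ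
    exact map_le_iff_le_comap.2 (normalClosure_le_normal (N := Q.subgroupOf M)
      (Set.singleton_subset_iff.2 hcQ))
  have hcD : c ∈ D := ⟨_, subset_normalClosure rfl, rfl⟩
  have cD : (Nat.card D).Coprime (Nat.card Y) := cQ.coprime_dvd_left (card_dvd_of_le DQ)
  have h0 : ⁅Y, D⁆ = ⊥ := by
    by_contra hne
    have Y1 : ⁅Y, D⁆ ≤ Y := commutator_le_of_norm_left (DQ.trans QY)
    have Y2 : omegaOne l ⁅Y, D⁆ ≤ Y := (omegaOne_le _ _).trans Y1
    have hdv : l ∣ Nat.card Y :=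
      dvd_card_of_isPGroup hl hY fun e => hne (le_bot_iff.1 (e ▸ Y1))
    have cl : ∀ {n : ℕ}, n.Coprime (Nat.card Y) → l.Coprime n := fun hn =>
      (hn.coprime_dvd_right hdv).symm
    obtain ⟨Γ, _, _, f, K, _, _, U, _, _, _, _, ρ, hf, hirr, hρ, hK, ha, hb, -⟩ :=
      H88.Tu.transfer hl (elemAb_omegaOne (isMulCommutative_of_le hYc Y1))
        (omegaOne_ne_bot_of_isPGroup hl (hY.to_le Y1) hne) (M := M)
        (le_normalizer_omegaOne (le_normalizer_commutator MY MD))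
    have hfix : ∀ u, (∀ a ∈ pim f R, ρ a u = u) → ρ (f ⟨c, QM hcQ⟩) u = u := fun u hu =>
      hb R (zpowers c) RM (cl cR) ((inf_le_inf_right _ Y2).trans h) u hu _
        (mem_pim_of_mem f _ (mem_zpowers c))
    have hM : pim f M = ⊤ := by rw [pim_dom, hf]
    have hn : ∀ A, M ≤ N[A] → (pim f A).Normal := fun A hA =>
      normalizer_eq_top_iff.1 (eq_top_iff.2 (hM ▸ pim_norms f hA))
    have c1 : f ⟨c, QM hcQ⟩ = 1 := by
      rcases (Nat.dvd_prime hr).1 (card_pim_dvd f R) with h1 | h1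
      · refine hρ _ (LinearMap.ext fun u => hfix u fun a ha => ?_)
        rw [card_eq_one.1 h1, mem_bot] at ha
        simp [ha]
      haveI := hn Q MQ
      have e := pim_sup f QM FM
      haveI : (pim f Q ⊔ pim f F).Normal := e ▸ hn _ (sup_le le_normalizer RN)
      have c2 : Nat.card ↥(Q ⊔ F) ∣ Nat.card Q * Nat.card F := card_sup_dvd (Or.inr FQ)
      refine lin ρ hirr (Q := pim f Q) (F := pim f F) (R := pim f R) (fun x _ => hρ x)
        (pim_isNilpotent f hQ) (h1 ▸ hr)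
        (by rw [← e, ← pim_sup f (sup_le QM FM) RM, hM]) ?_ ?_ ?_ (pim_norms f RF)
        (dich hs ((card_dvd_of_le (pim_inf_cent f RM FM RF cRF hF)).trans
          ((card_pim_dvd f _).trans hd))) ?_
        (ha F FM (cl cF) (le_bot_iff.1 (hYF ▸ inf_le_inf_right _ Y2)))
        (mem_pim_of_mem f _ hcQ) (pim_cent f R (mem_pim_of_mem f _ hc)) hfix
      · rw [← e, sup_comm]
        exact pim_isSolvable f (isSolvable_sup hF inferInstance FQ)
      · refine cast_ne_zero_of_coprime hl hK ?_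
        rw [← card_top, ← hM]
        refine Nat.Coprime.coprime_dvd_right ((card_pim_dvd f M).trans
          (card_sup_dvd (Or.inr RN))) (Nat.Coprime.mul_right ?_ (cl cR))
        exact Nat.Coprime.coprime_dvd_right c2 (Nat.Coprime.mul_right (cl cQ) (cl cF))
      · rw [h1, ← e, ← Nat.Prime.coprime_iff_not_dvd hr]
        exact Nat.Coprime.coprime_dvd_right ((card_pim_dvd f _).trans c2)
          (Nat.Coprime.mul_right cRQ cRF)
      · have := pim_inf_cent f FM QM FQ cFQ inferInstance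
        rwa [hQF, pim_bot, le_bot_iff] at this
    have hD : pim f D = ⊥ := by
      rw [pim_map_subtype, Subgroup.map_eq_bot_iff]
      exact normalClosure_le_normal (Set.singleton_subset_iff.2 c1)
    obtain ⟨u, hu⟩ := exists_ne (0 : U)
    refine hu (ha D (map_subtype_le _) (cl cD) (le_bot_iff.1 ?_) u fun a ha => by
      rw [hD, mem_bot] at ha; simp [ha])
    rw [← coprime_abel_cent_TI (DQ.trans QY) cD hYc]
    exact inf_le_inf_right _ (omegaOne_le _ _)
  exact cent_symm (commutator_eq_bot_iff_le_centralizer.1 h0) hcD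

end Cfsg.Agent.H69.CF
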