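import Cfsg.Agent.H88.TuLin
import Cfsg.Agent.H3.Frattini

/-! Coprime representations over an algebraically closed field: normal subgroups of prime index. -/

set_option autoImplicit false
set_option linter.unusedSectionVars false
set_option linter.style.haveILetI false

namespace Cfsg.Agent.H69.CF

open Module Subgroup Cfsg.Agent.H88 Cfsg.Agent.H88.Tu

universe u v

section Basic

variable {K : Type*} [Field K] {U : Type u} [AddCommGroup U] [Module K U]
  {Γ : Type*} [Group Γ] [Finite Γ]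

theorem wt_indep {ι H : Type*} (T : H → End K U) (χ : H → K) (ψ : ι → H → K) (s : Finset ι) :
    ∀ (x : U) (y : ι → U), (∀ z, T z x = χ z • x) → (∀ i ∈ s, ∀ z, T z (y i) = ψ i z • y i) →
      (∀ i ∈ s, ψ i ≠ χ) → x = ∑ i ∈ s, y i → x = 0 := by
  classical
  induction s using Finset.induction_on with
  | empty => intro x y _ _ _ h; simpa using h
  | insert j s hj ih =>
    intro x y hx hy hne h
    obtain ⟨z, hz⟩ := Function.ne_iff.1 (hne j (Finset.mem_insert_self _ _))
    have h1 := ih ((χ z - ψ j z) • x) (fun i => (ψ i z - ψ j z) • y i)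
      (fun w => by rw [map_smul, hx, smul_comm])
      (fun i hi w => by rw [map_smul, hy i (Finset.mem_insert_of_mem hi), smul_comm])
      (fun i hi => hne i (Finset.mem_insert_of_mem hi)) (by
        rw [sub_smul, ← hx]
        conv_lhs => rw [h]
        rw [Finset.sum_insert hj, map_add, smul_add, hy j (Finset.mem_insert_self _ _), map_sum,
          Finset.smul_sum, add_sub_add_left_eq_sub, ← Finset.sum_sub_distrib]
        exact Finset.sum_congr rfl fun i hi => by
          rw [hy i (Finset.mem_insert_of_mem hi), sub_smul])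
    exact (smul_eq_zero.1 h1).resolve_left (sub_ne_zero.2 hz.symm)

theorem fix_of_moved (ρ : Representation K Γ U) (R : Subgroup Γ) {c : Γ}
    (hc : c ∈ centralizer (R : Set Γ)) (hfix : ∀ u, (∀ a ∈ R, ρ a u = u) → ρ c u = u) {H : Type*}
    (T : H → End K U) (χ : H → K) {w : U} (hw : ∀ z, T z w = χ z • w)
    (hcw : ∀ z, T z (ρ c w) = χ z • ρ c w)
    (hmv : ∀ a ∈ R, a ≠ 1 → ∃ ψ : H → K, ψ ≠ χ ∧
      ∀ x, (∀ z, T z x = χ z • x) → ∀ z, T z (ρ a x) = ψ z • ρ a x) : ρ c w = w := by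
  classical
  letI := Fintype.ofFinite R
  choose! ψ hψ hψ' using hmv
  have hx : ∀ z, T z (ρ c w - w) = χ z • (ρ c w - w) := fun z => by
    rw [map_sub, hw, hcw, smul_sub]
  have h1 : ρ c (nsum ρ R w) = nsum ρ R w := hfix _ fun a ha =>
    congrArg (fun e : End K U => e w) (mul_nsum ρ R ha)
  have h2 : ∑ a : R, ρ a (ρ c w - w) = 0 := by
    simp only [map_sub, Finset.sum_sub_distrib]
    rw [sub_eq_zero, nsum_apply, map_sum] at *
    rw [← h1]
    refine Finset.sum_congr rfl fun a _ => ?_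
    rw [← End.mul_apply, ← End.mul_apply, ← map_mul, ← map_mul, hc a a.2]
  rw [← Finset.add_sum_erase _ _ (Finset.mem_univ (1 : R)), add_eq_zero_iff_eq_neg,
    ← Finset.sum_neg_distrib] at h2
  have h3 := wt_indep T χ (fun a : R => ψ a) (Finset.univ.erase 1) (ρ c w - w)
    (fun a => -ρ a (ρ c w - w)) hx
    (fun a ha z => by
      rw [map_neg, hψ' a a.2 (fun e => (Finset.mem_erase.1 ha).1 (Subtype.ext e)) _ hx, smul_neg])
    (fun a ha => hψ a a.2 fun e => (Finset.mem_erase.1 ha).1 (Subtype.ext e)) (by simpa using h2)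
  exact sub_eq_zero.1 h3

/-- The elements preserving a subspace. -/
def presv (ρ : Representation K Γ U) (W : Submodule K U) : Subgroup Γ :=
  let S : Submonoid Γ :=
    { carrier := {a | ∀ x ∈ W, ρ a x ∈ W}
      one_mem' := fun x hx => by simpa using hx
      mul_mem' := fun {a b} ha hb x hx => by
        rw [map_mul, End.mul_apply]; exact ha _ (hb x hx) }
  { S with
    inv_mem' := fun {a} ha => by
      have : a⁻¹ = a ^ (orderOf a - 1) := by
        rw [inv_eq_iff_mul_eq_one, ← pow_succ', Nat.sub_add_cancel (orderOf_pos a),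
          pow_orderOf_eq_one]
      rw [this]
      exact S.pow_mem ha _ }

theorem inv_of_gen (ρ : Representation K Γ U) {N : Subgroup Γ} {g : Γ} (hg : N ⊔ zpowers g = ⊤)
    {W : Submodule K U} (h1 : ∀ n ∈ N, ∀ x ∈ W, ρ n x ∈ W) (h2 : ∀ x ∈ W, ρ g x ∈ W) (a : Γ) :
    ∀ x ∈ W, ρ a x ∈ W := by
  have : N ⊔ zpowers g ≤ presv ρ W := sup_le (fun n hn => h1 n hn) (zpowers_le.2 h2)
  exact this (hg ▸ mem_top a)

theorem span_inv (ρ : Representation K Γ U) {s : Set U} {a : Γ} (h : ∀ x ∈ s, ρ a x ∈ s) :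
    ∀ x ∈ Submodule.span K s, ρ a x ∈ Submodule.span K s := fun _ hx =>
  Submodule.span_induction (p := fun x _ => ρ a x ∈ _) (fun w hw => Submodule.subset_span (h w hw))
    (by simp) (fun a b _ _ ha hb => by rw [map_add]; exact add_mem ha hb)
    (fun c a _ ha => by rw [map_smul]; exact Submodule.smul_mem _ _ ha) hx

theorem nsum_of_fixed (ρ : Representation K Γ U) (D : Subgroup Γ) {u : U}
    (h : ∀ d ∈ D, ρ d u = u) : nsum ρ D u = (Nat.card D : K) • u := by
  letI := Fintype.ofFinite D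
  rw [nsum_apply, Finset.sum_congr rfl (g := fun _ => u) fun (d : D) _ => h d d.2,
    Finset.sum_const, Finset.card_univ, Nat.card_eq_fintype_card, Nat.cast_smul_eq_nsmul]

theorem cast_ne_zero_of_dvd {m n : ℕ} (h : (n : K) ≠ 0) (hd : m ∣ n) : (m : K) ≠ 0 := by
  obtain ⟨k, rfl⟩ := hd
  rw [Nat.cast_mul, mul_ne_zero_iff] at h
  exact h.1

theorem le_of_mem_prime {R S : Subgroup Γ} (hR : (Nat.card R).Prime) {a : Γ} (ha : a ∈ R)
    (a1 : a ≠ 1) (haS : a ∈ S) : R ≤ S := by
  rcases (Nat.dvd_prime hR).1 (card_dvd_of_le (inf_le_left : R ⊓ S ≤ R)) with h2 | h2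
  · exact absurd (mem_bot.1 (card_eq_one.1 h2 ▸ (⟨ha, haS⟩ : a ∈ R ⊓ S))) a1
  · exact (eq_of_le_of_card_ge inf_le_left h2.ge).ge.trans inf_le_right

end Basic

variable {K : Type*} [Field K] [IsAlgClosed K] {U : Type u} [AddCommGroup U] [Module K U]
  [FiniteDimensional K U] {Γ : Type*} [Group Γ] [Finite Γ]

theorem exists_twist (ρ : Representation K Γ U) (hirr : Irr ρ) (N : Subgroup Γ) [hN : N.Normal]
    {g : Γ} {t : ℕ} (ht : t.Prime) (htK : (t : K) ≠ 0) (hNK : (Nat.card N : K) ≠ 0)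
    (hg : N ⊔ zpowers g = ⊤) (hgt : g ^ t ∈ N) :
    Irr (ρ.comp N.subtype) ∨ ∃ (B : End K U) (ζ : K), orderOf ζ = t ∧ Function.Injective B ∧
      (∀ n ∈ N, B * ρ n = ρ n * B) ∧ B * ρ g = ζ • (ρ g * B) := by
  classical
  letI := Fintype.ofFinite N
  refine or_iff_not_imp_left.2 fun h => ?_
  unfold Irr at h
  push Not at h
  obtain ⟨W, hW, hW0, hW1⟩ := h
  obtain ⟨W', hWW⟩ := W.exists_isCompl
  let π : End K U := W.subtype ∘ₗ W.projectionOnto W' hWW
  let P : End K U := ∑ n : N, ρ n * π * ρ (n : Γ)⁻¹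
  have hP : ∀ n ∈ N, P * ρ n = ρ n * P := fun n hn => H4.HH.avg_commute ρ N π n hn
  have hPW : ∀ x, P x ∈ W := fun x => by
    rw [LinearMap.sum_apply]
    exact W.sum_mem fun n _ => hW n _ (Submodule.coe_mem _)
  have hPw : ∀ x ∈ W, P x = (Nat.card N : K) • x := fun x hx => by
    rw [LinearMap.sum_apply, Finset.sum_congr rfl (g := fun _ => x), Finset.sum_const,
      Finset.card_univ, Nat.card_eq_fintype_card, Nat.cast_smul_eq_nsmul]
    intro n _
    have h1 : π (ρ (n : Γ)⁻¹ x) = ρ (n : Γ)⁻¹ x := by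
      have := W.projectionOnto_apply_left hWW ⟨_, hW n⁻¹ x hx⟩
      exact congrArg Subtype.val this
    rw [End.mul_apply, End.mul_apply, h1, ← End.mul_apply, H4.HH.rep_mul_inv, End.one_apply]
  haveI : Nontrivial U := by
    by_contra h
    rw [not_nontrivial_iff_subsingleton] at h
    exact hW0 (Subsingleton.elim _ _)
  let γ : End K (End K U) := (LinearMap.mulLeft K (ρ g⁻¹)).comp (LinearMap.mulRight K (ρ g))
  have hγ : ∀ B, γ B = ρ g⁻¹ * B * ρ g := fun B => by simp [γ, mul_assoc]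
  have hγi : ∀ (i : ℕ) B, (γ ^ i) B = ρ (g ^ i)⁻¹ * B * ρ (g ^ i) := fun i B => by
    induction i with
    | zero => simp
    | succ i ih =>
      rw [pow_succ', End.mul_apply, ih, hγ, pow_succ, mul_inv_rev, map_mul, map_mul]
      simp only [mul_assoc]
  let E : Submodule K (End K U) :=
    { carrier := {B | (∀ n ∈ N, B * ρ n = ρ n * B) ∧ ∑ i ∈ Finset.range t, (γ ^ i) B = 0}
      zero_mem' := ⟨fun n _ => by simp, by simp⟩
      add_mem' := fun {a b} ha hb => ⟨fun n hn => by rw [add_mul, mul_add, ha.1 n hn, hb.1 n hn],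
        by simp only [map_add, Finset.sum_add_distrib, ha.2, hb.2, add_zero]⟩
      smul_mem' := fun c a ha => ⟨fun n hn => by rw [smul_mul_assoc, mul_smul_comm, ha.1 n hn],
        by simp only [map_smul, ← Finset.smul_sum, ha.2, smul_zero]⟩ }
  have hγN : ∀ B, (∀ n ∈ N, B * ρ n = ρ n * B) → ∀ n ∈ N, γ B * ρ n = ρ n * γ B := by
    intro B hB n hn
    have e1 : ρ g * ρ n = ρ (g * n * g⁻¹) * ρ g := by rw [← map_mul, ← map_mul]; congr 1; group
    have e2 : ρ g⁻¹ * ρ (g * n * g⁻¹) = ρ n * ρ g⁻¹ := by rw [← map_mul, ← map_mul]; congr 1; group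
    rw [hγ, mul_assoc, e1, ← mul_assoc, mul_assoc _ B, hB _ (hN.conj_mem n hn g), ← mul_assoc, e2]
    simp only [mul_assoc]
  have hγE : ∀ B ∈ E, γ B ∈ E := fun B hB => ⟨hγN B hB.1, by
    have := congrArg γ hB.2
    rw [map_sum, map_zero] at this
    rw [← this]
    exact Finset.sum_congr rfl fun i _ => by
      rw [← End.mul_apply, ← End.mul_apply, ← pow_succ, ← pow_succ']⟩
  have hPE : γ P - P ∈ E := by
    refine ⟨fun n hn => by rw [sub_mul, mul_sub, hγN P hP n hn, hP n hn], ?_⟩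
    rw [Finset.sum_congr rfl (g := fun i => (γ ^ (i + 1)) P - (γ ^ i) P)
      (fun i _ => by rw [map_sub, pow_succ, End.mul_apply]), Finset.sum_range_sub
      (fun i => (γ ^ i) P), hγi, mul_assoc, hP _ hgt, ← mul_assoc, H4.HH.rep_inv_mul]
    simp
  have hP0 : γ P - P ≠ 0 := fun e => by
    rw [sub_eq_zero, hγ] at e
    have h1 : P * ρ g = ρ g * P := by
      conv_rhs => rw [← e]
      rw [← mul_assoc, ← mul_assoc, H4.HH.rep_mul_inv, one_mul]
    obtain ⟨μ, hμ⟩ := End.exists_eigenvalue P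
    have h2 := (hirr (P.eigenspace μ) (inv_of_gen ρ hg (fun n hn => eig_inv (hP n hn) μ)
      (eig_inv h1 μ))).resolve_left hμ
    have h3 : ∀ x, P x = μ • x := fun x => End.mem_eigenspace_iff.1 (h2.ge Submodule.mem_top)
    obtain ⟨w, hw, w0⟩ := Submodule.exists_mem_ne_zero_of_ne_bot hW0
    have h4 : μ ≠ 0 := fun e => by
      have := hPw w hw
      rw [h3, e, zero_smul] at this
      exact (smul_eq_zero.1 this.symm).elim hNK w0
    exact hW1 (eq_top_iff.2 fun x _ => (W.smul_mem_iff h4).1 (h3 x ▸ hPW x))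
  haveI : Nontrivial E := ⟨⟨⟨_, hPE⟩, 0, fun e => hP0 (congrArg Subtype.val e)⟩⟩
  obtain ⟨ζ, hζ⟩ := End.exists_eigenvalue (γ.restrict hγE)
  obtain ⟨B, hB⟩ := hζ.exists_hasEigenvector
  have B0 : (B : End K U) ≠ 0 := fun e => hB.2 (Subtype.ext e)
  have hB1 : γ B = ζ • (B : End K U) := congrArg Subtype.val hB.apply_eq_smul
  have hB2 : (B : End K U) * ρ g = ζ • (ρ g * B) := by
    rw [← mul_smul_comm, ← hB1, hγ, ← mul_assoc, ← mul_assoc, H4.HH.rep_mul_inv, one_mul]
  have hB3 : ∑ i ∈ Finset.range t, ζ ^ i = 0 := by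
    have h1 : ∀ i : ℕ, (γ ^ i) B = ζ ^ i • (B : End K U) := fun i => by
      induction i with
      | zero => simp
      | succ i ih => rw [pow_succ', End.mul_apply, ih, map_smul, hB1, smul_smul, pow_succ]
    have h2 := B.2.2
    rw [Finset.sum_congr rfl fun i _ => h1 i, ← Finset.sum_smul] at h2
    exact (smul_eq_zero.1 h2).resolve_right B0
  haveI := Fact.mk ht
  refine ⟨B, ζ, orderOf_eq_prime ?_ ?_, ?_, B.2.1, hB2⟩
  · have := geom_sum_mul ζ t
    rw [hB3, zero_mul] at this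
    exact (sub_eq_zero.1 this.symm)
  · rintro rfl
    exact htK (by simpa using hB3)
  · rw [← LinearMap.ker_eq_bot]
    refine (hirr _ (inv_of_gen ρ hg (fun n hn x hx => ?_) fun x hx => ?_)).resolve_right
      fun e => B0 (LinearMap.ker_eq_top.1 e)
    · rw [LinearMap.mem_ker] at hx ⊢
      rw [← End.mul_apply, B.2.1 n hn, End.mul_apply, hx, map_zero]
    · rw [LinearMap.mem_ker] at hx ⊢
      rw [← End.mul_apply, hB2, LinearMap.smul_apply, End.mul_apply, hx, map_zero, smul_zero]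

theorem twist_pow (ρ : Representation K Γ U) {B : End K U} {ζ μ : K} {g : Γ}
    (h : B * ρ g = ζ • (ρ g * B)) {x : U} (hx : B x = μ • x) (i : ℕ) :
    B (ρ (g ^ i) x) = (ζ ^ i * μ) • ρ (g ^ i) x := by
  induction i with
  | zero => simpa using hx
  | succ i ih =>
    rw [pow_succ', map_mul, End.mul_apply, ← End.mul_apply B, h, LinearMap.smul_apply,
      End.mul_apply, ih, map_smul, smul_smul, pow_succ', mul_assoc]

theorem exists_decomp {N : Subgroup Γ} [N.Normal] {g : Γ} {t : ℕ} (ht : 0 < t)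
    (hg : N ⊔ zpowers g = ⊤) (hgt : g ^ t ∈ N) (x : Γ) : ∃ i < t, ∃ n ∈ N, x = g ^ i * n := by
  have h1 : x ∈ ((zpowers g ⊔ N : Subgroup Γ) : Set Γ) := by rw [sup_comm, hg]; trivial
  rw [mul_normal] at h1
  obtain ⟨y, hy, n, hn, rfl⟩ := h1
  obtain ⟨k, rfl⟩ := mem_powers_iff_mem_zpowers.2 hy
  refine ⟨k % t, Nat.mod_lt _ ht, (g ^ t) ^ (k / t) * n, mul_mem (pow_mem hgt _) hn, ?_⟩
  rw [← mul_assoc, ← pow_mul, ← pow_add, Nat.mod_add_div]

theorem finrank_dvd (d : ℕ) : ∀ (Γ : Type v) [Group Γ] [Finite Γ], Nat.card Γ = d →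
    Group.IsSolvable Γ → (Nat.card Γ : K) ≠ 0 → ∀ (U : Type u) [AddCommGroup U] [Module K U]
      [FiniteDimensional K U] [Nontrivial U] (ρ : Representation K Γ U), Irr ρ →
      finrank K U ∣ Nat.card Γ := by
  induction d using Nat.strong_induction_on with | _ d ih => ?_
  intro Γ _ _ hd hs hK U _ _ _ _ ρ hirr
  rcases subsingleton_or_nontrivial Γ with h1 | h1
  · obtain ⟨u, hu⟩ := exists_ne (0 : U)
    have h2 := (hirr (Submodule.span K {u}) fun g x hx => by
      rw [Subsingleton.elim g 1]; simpa using hx).resolve_left (by simpa using hu)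
    rw [← finrank_top, ← h2, finrank_span_singleton hu]
    exact one_dvd _
  obtain ⟨N, hM, hle⟩ := (eq_top_or_exists_le_coatom (commutator Γ)).resolve_left
    (Group.IsSolvable.commutator_lt_top_of_nontrivial Γ).ne
  haveI : N.Normal := Subgroup.Normal.of_commutator_le _ hle
  have ht := H3.index_coatom_prime_of_normal hM
  obtain ⟨g, hgN⟩ : ∃ g, g ∉ N := by
    by_contra h
    push Not at h
    exact hM.1 (eq_top_iff.2 fun x _ => h x)
  have hg : N ⊔ zpowers g = ⊤ := hM.2 _ (lt_of_le_of_ne le_sup_left fun e =>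
    hgN (e ▸ mem_sup_right (mem_zpowers g)))
  have hc := N.card_mul_index
  have hK' := hK
  rw [← hc, Nat.cast_mul, mul_ne_zero_iff] at hK'
  have hlt : Nat.card N < d := by
    rw [← hd, ← hc]
    exact lt_mul_of_one_lt_right Nat.card_pos ht.one_lt
  rcases exists_twist ρ hirr N ht hK'.2 hK'.1 hg (N.pow_index_mem g) with h | ⟨B, ζ, hζ, hB, h2, h3⟩
  · exact (ih _ hlt N rfl inferInstance hK'.1 U _ h).trans (card_subgroup_dvd_card N)
  obtain ⟨μ, hμ⟩ := End.exists_eigenvalue B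
  have μ0 : μ ≠ 0 := by
    rintro rfl
    obtain ⟨x, hx⟩ := hμ.exists_hasEigenvector
    exact hx.2 (hB (by rw [hx.apply_eq_smul, zero_smul, map_zero]))
  haveI : Nontrivial (B.eigenspace μ) := Submodule.nontrivial_iff_ne_bot.2 hμ
  obtain ⟨W, hW0, ρ₁, hρ₁, hirr₁⟩ := exists_irr_sub (Representation.subrepresentation
    (ρ.comp N.subtype) (B.eigenspace μ) fun n => eig_inv (h2 n n.2) μ)
  haveI : Nontrivial W := Submodule.nontrivial_iff_ne_bot.2 hW0
  have h4 := ih _ hlt N rfl inferInstance hK'.1 W ρ₁ hirr₁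
  let W₀ : Submodule K U := W.map (B.eigenspace μ).subtype
  have hW₀ : ∀ n ∈ N, ∀ x ∈ W₀, ρ n x ∈ W₀ := by
    rintro n hn _ ⟨x, hx, rfl⟩
    exact ⟨_, (ρ₁ ⟨n, hn⟩ ⟨x, hx⟩).2, congrArg Subtype.val (hρ₁ ⟨n, hn⟩ ⟨x, hx⟩)⟩
  let S : Fin N.index → Submodule K U := fun i => W₀.map (ρ (g ^ (i : ℕ)))
  have hi : iSupIndep S := by
    refine ((B.eigenspaces_iSupIndep).comp (f := fun i : Fin N.index => ζ ^ (i : ℕ) * μ)
      fun i j hij => ?_).mono ?_
    · exact Fin.ext (pow_injOn_Iio_orderOf (by rw [hζ]; exact i.2) (by rw [hζ]; exact j.2)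
        (mul_right_cancel₀ μ0 hij))
    · rintro i _ ⟨_, ⟨x, -, rfl⟩, rfl⟩
      exact End.mem_eigenspace_iff.2 (twist_pow ρ h3 (End.mem_eigenspace_iff.1 x.2) i)
  have hs' : iSup S = ⊤ := by
    have h5 := (hirr (⨆ x : Γ, W₀.map (ρ x)) fun a y hy => by
      refine Submodule.iSup_induction _ (motive := fun y => ρ a y ∈ _) hy ?_ (by simp)
        fun y z h h' => by rw [map_add]; exact add_mem h h'
      rintro x _ ⟨w, hw, rfl⟩
      exact Submodule.mem_iSup_of_mem (a * x) ⟨w, hw, by simp⟩).resolve_left fun e => by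
        obtain ⟨w, hw, w0⟩ := Submodule.exists_mem_ne_zero_of_ne_bot hW0
        have : (w : U) ∈ (⊥ : Submodule K U) :=
          e ▸ Submodule.mem_iSup_of_mem (1 : Γ) ⟨w, ⟨w, hw, rfl⟩, by simp⟩
        exact w0 (Subtype.ext ((Submodule.mem_bot K).1 this))
    rw [eq_top_iff, ← h5, iSup_le_iff]
    rintro x _ ⟨w, hw, rfl⟩
    obtain ⟨i, hi, n, hn, rfl⟩ := exists_decomp ht.pos hg (N.pow_index_mem g) x
    exact Submodule.mem_iSup_of_mem ⟨i, hi⟩ ⟨_, hW₀ n hn w hw, by simp⟩
  have h6 := (LinearEquiv.ofBijective (DirectSum.coeLinearMap S)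
    (DirectSum.isInternal_submodule_of_iSupIndep_of_iSup_eq_top hi hs')).finrank_eq
  rw [finrank_directSum, Finset.sum_congr rfl (g := fun _ => finrank K W), Finset.sum_const,
    Finset.card_univ, Fintype.card_fin, smul_eq_mul] at h6
  · rw [← h6, ← hc, mul_comm]
    exact mul_dvd_mul_right h4 _
  · intro i _
    exact ((Submodule.equivMapOfInjective _ (H4.HH.rep_injective ρ _) W₀).finrank_eq.symm).trans
      (Submodule.finrank_map_subtype_eq _ W)

end Cfsg.Agent.H69.CF
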