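import Cfsg.Agent.H69.CfLinA
import Cfsg.Agent.H91.FrobA
import Cfsg.Agent.H63.QuoCore

/-! The module lemma for an automorphism of prime order on top of a fixed-point-free action. -/

set_option autoImplicit false
set_option linter.unusedSectionVars false
set_option linter.style.haveILetI false

namespace Cfsg.Agent.H69.CF

open Module Subgroup Cfsg.Agent.H88 Cfsg.Agent.H88.Tu
open scoped commutatorElement IsMulCommutative

universe u v

variable {K : Type*} [Field K] [IsAlgClosed K] {U : Type u} [AddCommGroup U] [Module K U]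
  [FiniteDimensional K U] {Γ : Type*} [Group Γ] [Finite Γ]

theorem star0 [Nontrivial U] (ρ : Representation K Γ U) (hirr : Irr ρ) {N R E : Subgroup Γ}
    [N.Normal] (hr : (Nat.card R).Prime) (hNR : N ⊔ R = ⊤) (hs : Group.IsSolvable N)
    (hK : (Nat.card Γ : K) ≠ 0) (hrN : ¬ Nat.card R ∣ Nat.card N) (hE : E ≤ N)
    (hRE : R ≤ normalizer (E : Set Γ)) (hER : ∀ e ∈ E, e ∈ centralizer (R : Set Γ) → e = 1)
    (hU : ∀ u, (∀ e ∈ E, ρ e u = u) → u = 0) {c : Γ} (hcN : c ∈ N)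
    (hc : c ∈ centralizer (R : Set Γ)) (hfix : ∀ u, (∀ a ∈ R, ρ a u = u) → ρ c u = u) :
    ρ c = 1 := by
  haveI := Fact.mk hr
  obtain ⟨g, hgR, hgo⟩ := H67.exists_orderOf_eq_prime hr (dvd_refl (Nat.card R))
  have hRg : zpowers g = R :=
    eq_of_le_of_card_ge (zpowers_le.2 hgR) (by rw [Nat.card_zpowers, hgo])
  have hg : N ⊔ zpowers g = ⊤ := hRg ▸ hNR
  have hNK := cast_ne_zero_of_dvd hK (card_subgroup_dvd_card N)
  rcases exists_twist ρ hirr N hr (cast_ne_zero_of_dvd hK (card_subgroup_dvd_card R)) hNK hg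
    (by rw [← hgo, pow_orderOf_eq_one]; exact one_mem _) with h | ⟨B, ζ, hζ, hB, h2, h3⟩
  · exfalso
    have h1 := finrank_dvd _ N rfl hs hNK U _ h
    haveI : (E.subgroupOf (E ⊔ R)).Normal :=
      (normal_subgroupOf_iff_le_normalizer le_sup_left).2 (sup_le le_normalizer hRE)
    have hcE : Nat.card (E.subgroupOf (E ⊔ R)) = Nat.card E :=
      Nat.card_congr (subgroupOfEquivOfLe le_sup_left).toEquiv
    have h4 := (freeNum_solvable (K := K) (R.subgroupOf (E ⊔ R)) _ (E.subgroupOf (E ⊔ R)) rfl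
      (Group.isSolvable_of_isSolvable_injective (f := (inclusion hE).comp
        (subgroupOfEquivOfLe (le_sup_left : E ≤ E ⊔ R)).toMonoidHom)
        ((inclusion_injective hE).comp (subgroupOfEquivOfLe le_sup_left).injective))
      (by rw [hcE]; exact cast_ne_zero_of_dvd hK (card_subgroup_dvd_card E))
      (fun a ha a1 n hn hcm => Subtype.ext (hER n hn fun b hb => by
        have h5 : R ≤ centralizer {(n : Γ)} := le_of_mem_prime hr ha
          (fun e => a1 (Subtype.ext e))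
          (mem_centralizer_singleton_iff.2 (congrArg Subtype.val hcm.eq))
        exact mem_centralizer_singleton_iff.1 (h5 hb)))
      U (ρ.comp (E ⊔ R).subtype) (LinearMap.ext fun u => hU _ fun e he =>
        congrArg (fun f : End K U => f u) (mul_nsum (ρ.comp (E ⊔ R).subtype)
          (E.subgroupOf (E ⊔ R)) (n := ⟨e, mem_sup_left he⟩) he))).1
    rw [Nat.card_congr (subgroupOfEquivOfLe (le_sup_right : R ≤ E ⊔ R)).toEquiv] at h4
    exact hrN (h4.trans h1)
  have hev : ∀ (μ : K) (w : U), B w = μ • w → ρ c w = w := by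
    intro μ w hw
    by_cases μ0 : μ = 0
    · have : w = 0 := hB (by rw [hw, μ0, zero_smul, map_zero])
      rw [this, map_zero]
    refine fix_of_moved ρ R hc hfix (fun _ : Unit => B) (fun _ => μ) (fun _ => hw)
      (fun _ => by rw [← End.mul_apply, h2 c hcN, End.mul_apply, hw, map_smul]) fun a ha a1 => ?_
    obtain ⟨i, rfl⟩ := mem_powers_iff_mem_zpowers.2 (hRg ▸ ha : a ∈ zpowers g)
    refine ⟨fun _ => ζ ^ i * μ, fun e => a1 ?_, fun x hx _ => twist_pow ρ h3 (hx ()) i⟩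
    have h4 : ζ ^ i = 1 := mul_right_cancel₀ μ0 ((congrFun e ()).trans (one_mul μ).symm)
    exact orderOf_dvd_iff_pow_eq_one.1 (by rw [hgo, ← hζ]; exact orderOf_dvd_of_pow_eq_one h4)
  obtain ⟨μ, hμ⟩ := End.exists_eigenvalue B
  obtain ⟨x, hx⟩ := hμ.exists_hasEigenvector
  have h4 := (hirr (Submodule.span K {w | ∃ μ : K, B w = μ • w}) (inv_of_gen ρ hg
    (fun n hn => span_inv ρ fun w ⟨ν, hw⟩ =>
      ⟨ν, by rw [← End.mul_apply, h2 n hn, End.mul_apply, hw, map_smul]⟩)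
    (span_inv ρ fun w ⟨ν, hw⟩ => ⟨_, by simpa using twist_pow ρ h3 hw 1⟩))).resolve_left fun e =>
      hx.2 ((Submodule.mem_bot K).1 (e ▸ Submodule.subset_span ⟨μ, hx.apply_eq_smul⟩))
  exact LinearMap.ext_on h4 fun w ⟨ν, hw⟩ => hev ν w hw

theorem star (ρ : Representation K Γ U) {N R E : Subgroup Γ}
    [N.Normal] (hr : (Nat.card R).Prime) (hNR : N ⊔ R = ⊤) (hs : Group.IsSolvable N)
    (hK : (Nat.card Γ : K) ≠ 0) (hrN : ¬ Nat.card R ∣ Nat.card N) (hE : E ≤ N)
    (hRE : R ≤ normalizer (E : Set Γ)) (hER : ∀ e ∈ E, e ∈ centralizer (R : Set Γ) → e = 1)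
    (hU : ∀ u, (∀ e ∈ E, ρ e u = u) → u = 0) {c : Γ} (hcN : c ∈ N)
    (hc : c ∈ centralizer (R : Set Γ)) (hfix : ∀ u, (∀ a ∈ R, ρ a u = u) → ρ c u = u) (u : U) :
    ρ c u = u := by
  let D := normalClosure ({c} : Set Γ)
  have hcD : c ∈ D := subset_normalClosure rfl
  let S := LinearMap.ker (nsum ρ D)
  have hS : ∀ g, ∀ x ∈ S, ρ g x ∈ S := fun g x hx => by
    rw [LinearMap.mem_ker] at hx ⊢
    rw [← End.mul_apply, ← nsum_comm, End.mul_apply, hx, map_zero]
  have h0 : S = ⊥ := by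
    by_contra h0
    haveI : Nontrivial S := Submodule.nontrivial_iff_ne_bot.2 h0
    obtain ⟨W, hW0, ρ₁, hρ₁, hirr⟩ := exists_irr_sub (ρ.subrepresentation S hS)
    haveI : Nontrivial W := Submodule.nontrivial_iff_ne_bot.2 hW0
    have e : ∀ g (w : W), ((ρ₁ g w : S) : U) = ρ g (w : S) := fun g w =>
      congrArg Subtype.val (hρ₁ g w)
    have h1 := star0 ρ₁ hirr hr hNR hs hK hrN hE hRE hER
      (fun w hw => Subtype.ext (Subtype.ext (hU _ fun a ha => by rw [← e, hw a ha]))) hcN hc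
      (fun w hw => Subtype.ext (Subtype.ext (by
        rw [e]; exact hfix _ fun a ha => by rw [← e, hw a ha])))
    have h2 : D ≤ MonoidHom.ker ρ₁ := normalClosure_le_normal (Set.singleton_subset_iff.2 h1)
    obtain ⟨w, hw⟩ := exists_ne (0 : W)
    have h3 := nsum_of_fixed ρ D (u := ((w : S) : U)) fun d hd => by
      rw [← e, show ρ₁ d = 1 from h2 hd]; rfl
    rw [show nsum ρ D (w : S) = 0 from (w : S).2] at h3
    exact hw (Subtype.ext (Subtype.ext ((smul_eq_zero.1 h3.symm).resolve_left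
      (cast_ne_zero_of_dvd hK (card_subgroup_dvd_card D)))))
  have h1 : ρ c u - u ∈ S := by
    rw [LinearMap.mem_ker, map_sub, ← End.mul_apply, ← nsum_comm, mul_nsum ρ D hcD, sub_self]
  rwa [h0, Submodule.mem_bot, sub_eq_zero] at h1

/-- The stabilizer of a weight of the normal subgroup `Z`. -/
def St (Z : Subgroup Γ) [Z.Normal] (χ : Z → K) : Subgroup Γ where
  carrier := {g | ∀ x : Z, χ (MulAut.conjNormal g x) = χ x}
  one_mem' := fun x => by simp
  mul_mem' := fun {a b} ha hb x => by rw [map_mul, MulAut.mul_apply, ha, hb]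
  inv_mem' := fun {a} ha x => by rw [← ha]; simp

/-- The weight space. -/
def Wt (ρ : Representation K Γ U) (Z : Subgroup Γ) (χ : Z → K) : Submodule K U where
  carrier := {u | ∀ x : Z, ρ x u = χ x • u}
  zero_mem' := fun x => by simp
  add_mem' := fun {a b} ha hb x => by rw [map_add, ha, hb, smul_add]
  smul_mem' := fun c a ha x => by rw [map_smul, ha, smul_comm]

theorem wt_conj (ρ : Representation K Γ U) {Z : Subgroup Γ} [Z.Normal] {χ : Z → K} {v : U}
    (hv : v ∈ Wt ρ Z χ) (g : Γ) : ρ g v ∈ Wt ρ Z fun x => χ (MulAut.conjNormal g⁻¹ x) := by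
  intro x
  rw [← map_smul, ← hv, ← End.mul_apply, ← End.mul_apply, ← map_mul, ← map_mul]
  simp [mul_assoc]

theorem wt_St (ρ : Representation K Γ U) {Z : Subgroup Γ} [Z.Normal] {χ : Z → K} {v : U}
    (hv : v ∈ Wt ρ Z χ) {g : Γ} (hg : g ∈ St Z χ) : ρ g v ∈ Wt ρ Z χ := fun x =>
  (wt_conj ρ hv g x).trans (congrArg (· • ρ g v) (inv_mem hg x))

theorem wt_ne {Z : Subgroup Γ} [Z.Normal] {χ : Z → K} {g : Γ} (hg : g ∉ St Z χ) :
    (fun x => χ (MulAut.conjNormal g⁻¹ x)) ≠ χ := fun e =>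
  hg (inv_mem_iff.1 fun x => congrFun e x)

theorem wt_moved (ρ : Representation K Γ U) {Z R : Subgroup Γ} [Z.Normal] {χ : Z → K}
    (hr : (Nat.card R).Prime) {c : Γ} (hc : c ∈ centralizer (R : Set Γ))
    (hfix : ∀ u, (∀ a ∈ R, ρ a u = u) → ρ c u = u) (hcS : c ∈ St Z χ) (hR : ¬ R ≤ St Z χ) {w : U}
    (hw : w ∈ Wt ρ Z χ) : ρ c w = w :=
  fix_of_moved ρ R hc hfix (fun x : Z => ρ x) χ hw (wt_St ρ hw hcS) fun a ha a1 =>
    ⟨_, wt_ne fun h => hR (le_of_mem_prime hr ha a1 h), fun _ hx => wt_conj ρ hx a⟩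

theorem wt_fpf (ρ : Representation K Γ U) {Z F : Subgroup Γ} [Z.Normal] {χ : Z → K}
    (hK : (Nat.card Γ : K) ≠ 0) (hU : ∀ u, (∀ f ∈ F, ρ f u = u) → u = 0) {w : U}
    (hw : w ∈ Wt ρ Z χ) (h : ∀ f ∈ F ⊓ St Z χ, ρ f w = w) : w = 0 := by
  classical
  letI := Fintype.ofFinite F
  have h1 : nsum ρ F w = 0 := hU _ fun a ha => congrArg (fun e : End K U => e w) (mul_nsum ρ F ha)
  rw [nsum_apply, ← Finset.sum_filter_add_sum_filter_not _ (fun f : F => (f : Γ) ∈ St Z χ),
    Finset.sum_congr (s₁ := Finset.univ.filter fun f : F => (f : Γ) ∈ St Z χ) rfl (g := fun _ => w)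
      (fun (f : F) hf => h f ⟨f.2, (Finset.mem_filter.1 hf).2⟩), Finset.sum_const,
    add_eq_zero_iff_eq_neg, ← Finset.sum_neg_distrib, ← Nat.cast_smul_eq_nsmul K] at h1
  have h2 := wt_indep (fun x : Z => ρ x) χ (fun (f : F) x => χ (MulAut.conjNormal (f : Γ)⁻¹ x)) _ _
    _ ((Wt ρ Z χ).smul_mem _ hw) (fun f _ => (Wt ρ Z _).neg_mem (wt_conj ρ hw f))
    (fun f hf => wt_ne (Finset.mem_filter.1 hf).2) h1
  refine (smul_eq_zero.1 h2).resolve_left (cast_ne_zero_of_dvd hK ?_)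
  have : (Finset.univ.filter fun f : F => (f : Γ) ∈ St Z χ).card =
      Nat.card ((St Z χ).subgroupOf F) := by
    rw [Nat.card_eq_fintype_card, Fintype.card_subtype]; rfl
  rw [this]
  exact (card_subgroup_dvd_card _).trans (card_subgroup_dvd_card F)

theorem lin [Nontrivial U] (ρ : Representation K Γ U) (hirr : Irr ρ) {Q F R : Subgroup Γ}
    [hQn : Q.Normal] [(Q ⊔ F).Normal] (hf : ∀ x ∈ Q, ρ x = 1 → x = 1) (hQ : Group.IsNilpotent Q)
    (hr : (Nat.card R).Prime) (hNR : Q ⊔ F ⊔ R = ⊤) (hs : Group.IsSolvable ↥(Q ⊔ F))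
    (hK : (Nat.card Γ : K) ≠ 0) (hrN : ¬ Nat.card R ∣ Nat.card ↥(Q ⊔ F))
    (hRF : R ≤ normalizer (F : Set Γ))
    (hd : ∀ S : Subgroup Γ, F ⊓ centralizer (R : Set Γ) ≤ S ∨ F ⊓ centralizer (R : Set Γ) ⊓ S = ⊥)
    (hQF : Q ⊓ centralizer (F : Set Γ) = ⊥) (hU : ∀ u, (∀ f ∈ F, ρ f u = u) → u = 0) {c : Γ}
    (hcQ : c ∈ Q) (hc : c ∈ centralizer (R : Set Γ))
    (hfix : ∀ u, (∀ a ∈ R, ρ a u = u) → ρ c u = u) : c = 1 := by
  by_contra c1
  let Z := Q ⊓ centralizer (Q : Set Γ)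
  haveI : Z.Normal := inferInstance
  haveI : IsMulCommutative Z := ⟨⟨fun x y => Subtype.ext (y.2.2 x x.2.1)⟩⟩
  have hQS : ∀ χ : Z → K, Q ≤ St Z χ := fun χ q hq x => by
    congr 1
    apply Subtype.ext
    rw [MulAut.conjNormal_apply, x.2.2 q hq, mul_inv_cancel_right]
  have key : ∀ (χ : Z → K) (w : U), w ∈ Wt ρ Z χ → ρ c w = w := by
    intro χ w hw
    by_cases hR : R ≤ St Z χ
    swap
    · exact wt_moved ρ hr hc hfix (hQS χ hcQ) hR hw
    have hRn : R ≤ normalizer ((F ⊓ St Z χ : Subgroup Γ) : Set Γ) :=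
      fun a ha => mem_normalizer_iff.2 fun x => and_congr (mem_normalizer_iff.1 (hRF ha) x)
        (mem_normalizer_iff.1 (le_normalizer (hR ha)) x)
    rcases hd (St Z χ) with h | h
    swap
    · have hcR := Nat.card_congr (subgroupOfEquivOfLe hR).toEquiv
      refine congrArg Subtype.val (star (Representation.subrepresentation
        (ρ.comp (St Z χ).subtype) (Wt ρ Z χ) fun g x hx => wt_St ρ hx g.2)
        (N := (Q ⊔ F).subgroupOf (St Z χ)) (R := R.subgroupOf (St Z χ))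
        (E := F.subgroupOf (St Z χ)) (hcR ▸ hr) ?_ ?_
        (cast_ne_zero_of_dvd hK (card_subgroup_dvd_card _)) ?_ (comap_mono le_sup_right) ?_ ?_ ?_
        (c := ⟨c, hQS χ hcQ⟩) (mem_sup_left hcQ) (fun a ha => Subtype.ext (hc a ha))
        (fun u hu => Subtype.ext (hfix _ fun a ha => congrArg Subtype.val (hu ⟨a, hR ha⟩ ha)))
        ⟨w, hw⟩)
      · rw [eq_top_iff]
        intro x _
        have h1 : (x : Γ) ∈ ((Q ⊔ F ⊔ R : Subgroup Γ) : Set Γ) := by rw [hNR]; trivial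
        rw [normal_mul] at h1
        obtain ⟨n, hn, a, ha, e⟩ := h1
        have h2 : n ∈ St Z χ := (mul_mem_cancel_right (hR ha)).1 (by
          rw [show n * a = x from e]; exact x.2)
        have : x = ⟨n, h2⟩ * ⟨a, hR ha⟩ := Subtype.ext e.symm
        rw [this]
        exact mul_mem (mem_sup_left hn) (mem_sup_right ha)
      · exact Group.isSolvable_of_isSolvable_injective (G' := ↥(Q ⊔ F))
          (f := ((St Z χ).subtype.comp (Subgroup.subtype _)).codRestrict _ fun x => x.2)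
          fun x y e => Subtype.ext (Subtype.ext (congrArg (fun t : ↥(Q ⊔ F) => (t : Γ)) e))
      · rw [hcR, H3.card_subgroupOf]
        exact fun e => hrN (e.trans (card_dvd_of_le inf_le_left))
      · intro a ha
        rw [mem_normalizer_iff]
        exact fun x => mem_normalizer_iff.1 (hRF ha) x
      · intro e he he'
        exact Subtype.ext (mem_bot.1 (h ▸ mem_inf.2 ⟨mem_inf.2 ⟨he, fun a ha =>
          congrArg Subtype.val (he' ⟨a, hR ha⟩ ha)⟩, e.2⟩))
      · intro u hu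
        exact Subtype.ext (wt_fpf ρ hK hU u.2 fun f hf => congrArg Subtype.val (hu ⟨f, hf.2⟩ hf.1))
    by_contra hne
    have w0 : w ≠ 0 := fun e => hne (by rw [e, map_zero])
    have hcop : (Nat.card R).Coprime (Nat.card ↥(F ⊓ St Z χ)) :=
      (Nat.Prime.coprime_iff_not_dvd hr).2 fun e =>
        hrN (e.trans (card_dvd_of_le (inf_le_left.trans le_sup_right)))
    haveI := Fact.mk hr
    haveI : IsCyclic R := isCyclic_of_prime_card rfl
    have hA : ∀ f ∈ F, f ∉ St Z χ → ∀ v ∈ Wt ρ Z χ, ρ c (ρ f v) = ρ f v := by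
      intro f hfF hfS v hv
      refine wt_moved ρ hr hc hfix (hQS _ hcQ) (fun hle => hfS ?_) (wt_conj ρ hv f)
      obtain ⟨d, hd1, e, he, h1⟩ := H63.coprime_exists_mul_cent hRn hcop (Or.inl inferInstance)
        (x := f⁻¹) fun a ha => by
          refine mem_inf.2 ⟨?_, ?_⟩
          · rw [commutatorElement_def, inv_inv, mul_assoc, mul_assoc, ← mul_assoc a]
            exact mul_mem (inv_mem hfF) ((mem_normalizer_iff.1 (hRF ha) f).1 hfF)
          · rw [commutatorElement_def, inv_inv]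
            refine mul_mem (fun x => ?_) (inv_mem (hR ha))
            have := hle ha (MulAut.conjNormal f x)
            simpa using this
      have h2 : e ∈ F := (F.mul_mem_cancel_left hd1.1).1 (h1 ▸ inv_mem hfF)
      exact inv_mem_iff.1 (h1 ▸ mul_mem hd1.2 (h ⟨h2, he⟩))
    have hQf : ∀ q ∈ Q, ∀ f : Γ, ∀ v ∈ Wt ρ Z χ, ∃ v' ∈ Wt ρ Z χ, ρ q (ρ f v) = ρ f v' :=
      fun q hq f v hv => ⟨_, wt_St ρ hv (hQS χ (hQn.conj_mem' q hq f)), by
        simp only [← End.mul_apply, ← map_mul]; congr 2; group⟩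
    let L : Subgroup Q :=
      { carrier := {x | ∀ f ∈ F, f ∉ St Z χ → ∀ v ∈ Wt ρ Z χ, ρ x (ρ f v) = ρ f v}
        one_mem' := fun f _ _ v _ => by simp
        mul_mem' := fun {x y} hx hy f h1 h2 v hv => by
          rw [coe_mul, map_mul, End.mul_apply, hy f h1 h2 v hv, hx f h1 h2 v hv]
        inv_mem' := fun {x} hx f h1 h2 v hv => by
          conv_lhs => rw [← hx f h1 h2 v hv]
          rw [← End.mul_apply, coe_inv, H4.HH.rep_inv_mul, End.one_apply] }
    haveI : L.Normal := ⟨fun x hx y f h1 h2 v hv => by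
      obtain ⟨v', hv', e⟩ := hQf _ (inv_mem y.2) f v hv
      rw [coe_mul, coe_mul, coe_inv, map_mul, map_mul, End.mul_apply, End.mul_apply, e,
        hx f h1 h2 v' hv', ← e, ← End.mul_apply, H4.HH.rep_mul_inv, End.one_apply]⟩
    obtain ⟨⟨z, hzL, hzc⟩, z1⟩ := ne_bot_iff_exists_ne_one.1 (H3.inf_center_ne_bot L fun e => by
      have h1 : (⟨c, hcQ⟩ : Q) ∈ L := hA
      rw [e, mem_bot] at h1
      exact c1 (congrArg Subtype.val h1))
    have hzZ : (z : Γ) ∈ Z :=
      ⟨z.2, fun y hy => congrArg Subtype.val (mem_center_iff.1 hzc ⟨y, hy⟩)⟩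
    have hsp : Submodule.span K {u | ∃ f ∈ F, ∃ v ∈ Wt ρ Z χ, ρ f v = u} = ⊤ := by
      refine (hirr _ fun g => ?_).resolve_left fun e => w0 ((Submodule.mem_bot K).1
        (e ▸ Submodule.subset_span ⟨1, one_mem _, w, hw, by simp⟩))
      have : Q ⊔ F ⊔ R ≤ presv ρ (Submodule.span K {u | ∃ f ∈ F, ∃ v ∈ Wt ρ Z χ, ρ f v = u}) := by
        refine sup_le (sup_le (fun q hq => span_inv ρ ?_) fun f' hf' => span_inv ρ ?_)
          fun a ha => span_inv ρ ?_
        · rintro _ ⟨f, h1, v, hv, rfl⟩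
          obtain ⟨v', hv', e⟩ := hQf q hq f v hv
          exact ⟨f, h1, v', hv', e.symm⟩
        · rintro _ ⟨f, h1, v, hv, rfl⟩
          exact ⟨f' * f, mul_mem hf' h1, v, hv, by simp⟩
        · rintro _ ⟨f, h1, v, hv, rfl⟩
          refine ⟨a * f * a⁻¹, (mem_normalizer_iff.1 (hRF ha) f).1 h1, _, wt_St ρ hv (hR ha), ?_⟩
          simp only [← End.mul_apply, ← map_mul]
          congr 2; group
      exact this (hNR ▸ mem_top g)
    have hext : ∀ y y' : Z, (∀ f ∈ F, χ (MulAut.conjNormal f⁻¹ y) = χ (MulAut.conjNormal f⁻¹ y')) →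
        y = y' := by
      intro y y' hy
      have h1 : ρ y = ρ y' := LinearMap.ext_on hsp (by
        rintro _ ⟨f, h1, v, hv, rfl⟩
        rw [wt_conj ρ hv f y, wt_conj ρ hv f y']
        exact congrArg (· • ρ f v) (hy f h1))
      exact Subtype.ext (mul_inv_eq_one.1 (hf _ (mul_mem y.2.1 (inv_mem y'.2.1))
        (by rw [map_mul, h1, H4.HH.rep_mul_inv])))
    have hz1 : ∀ f ∈ F, f ∉ St Z χ → χ (MulAut.conjNormal f⁻¹ ⟨z, hzZ⟩) = 1 := by
      intro f h1 h2
      have h3 := wt_conj ρ hw f ⟨z, hzZ⟩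
      rw [hzL f h1 h2 w hw] at h3
      have h4 : ρ f w ≠ 0 := fun e => w0 (H4.HH.rep_injective ρ f (by rw [e, map_zero]))
      exact smul_left_injective K h4 (h3.symm.trans (one_smul K _).symm)
    let M : Subgroup Z :=
      { carrier := {y | ρ y w = w}
        one_mem' := by simp
        mul_mem' := fun {a b} ha hb => by
          change ρ ((a : Γ) * b) w = w
          rw [map_mul, End.mul_apply, hb, ha]
        inv_mem' := fun {a} ha => by
          change ρ (a : Γ)⁻¹ w = w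
          conv_lhs => rw [← ha]
          rw [← End.mul_apply, H4.HH.rep_inv_mul, End.one_apply] }
    have hM : ∀ y : Z, y ∈ M ↔ χ y = 1 := fun y =>
      ⟨fun hy => smul_left_injective K w0 ((hw y).symm.trans (hy.trans (one_smul K w).symm)),
        fun hy => (hw y).trans (by rw [hy, one_smul])⟩
    have h2 := H91.FB.mem_of_orbit ((MulAut.conjNormal (H := Z)).comp F.subtype)
      (fun u hu => Subtype.ext (mem_bot.1 (hQF ▸ mem_inf.2 ⟨u.2.1, fun f h1 => by
        have := congrArg Subtype.val (hu ⟨f, h1⟩)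
        exact mul_inv_eq_iff_eq_mul.1 this⟩))) M (z := ⟨z, hzZ⟩) fun f => by
      by_cases hfS : (f : Γ) ∈ St Z χ
      · refine Or.inl (hext _ _ fun f' h1 => ?_)
        change χ (MulAut.conjNormal f'⁻¹ (MulAut.conjNormal (f : Γ) _)) = _
        rw [← MulAut.mul_apply, ← map_mul]
        by_cases hf' : f' ∈ St Z χ
        · rw [mul_mem (inv_mem hf') hfS, inv_mem hf']
        · rw [hz1 f' h1 hf', ← hz1 ((f : Γ)⁻¹ * f') (mul_mem (inv_mem f.2) h1)
            fun e => hf' ((mul_mem_cancel_left (inv_mem hfS)).1 e), mul_inv_rev, inv_inv]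
      · refine Or.inr ((hM _).2 ?_)
        have := hz1 (f : Γ)⁻¹ (inv_mem f.2) fun e => hfS (inv_mem_iff.1 e)
        rwa [inv_inv] at this
    have h3 := hext ⟨z, hzZ⟩ 1 fun f h1 => by
      rw [map_one, (hM 1).1 (one_mem _)]
      by_cases hfS : f ∈ St Z χ
      · rw [inv_mem hfS, (hM _).1 h2]
      · exact hz1 f h1 hfS
    exact z1 (Subtype.ext (Subtype.ext (congrArg (fun t : Z => (t : Γ)) h3)))
  obtain ⟨v, v0, χ, hχ⟩ := exists_common_eigen (fun x : Z => ρ x) fun x y => by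
    rw [← map_mul, ← map_mul, y.2.2 x x.2.1]
  have h1 := (hirr (Submodule.span K {v | ∃ χ : Z → K, v ∈ Wt ρ Z χ}) fun g =>
    span_inv ρ fun w ⟨ψ, hw⟩ => ⟨_, wt_conj ρ hw g⟩).resolve_left fun e =>
      v0 ((Submodule.mem_bot K).1 (e ▸ Submodule.subset_span ⟨χ, hχ⟩))
  exact c1 (hf c hcQ (LinearMap.ext_on h1 fun w ⟨ψ, hw⟩ => key ψ w hw))

end Cfsg.Agent.H69.CF
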