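import Cfsg.Agent.H69.CfGrp
import Cfsg.Agent.H4.PrimeCent

/-! Fitting subgroup and Fitting height of the fixed points of an automorphism of prime order
acting on top of a fixed-point-free nilpotent group. -/

set_option autoImplicit false
set_option linter.unusedSectionVars false
set_option linter.style.haveILetI false

namespace Cfsg.Agent.H69.CF

open Subgroup Cfsg.Agent.H4.Ext Cfsg.Agent.H92 Cfsg.Agent.H91.FB
open scoped IsMulCommutative Pointwise commutatorElement

universe u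

variable {A : Type*} [Group A] [Finite A] {F H : Subgroup A}

/-- The hypotheses on the operator group. -/
structure Hy (F H : Subgroup A) : Prop where
  sol : Group.IsSolvable F
  pr : (Nat.card H).Prime
  nrm : H ≤ normalizer (F : Set A)
  cop : (Nat.card H).Coprime (Nat.card F)
  sm : ∃ s : ℕ, s.Prime ∧ Nat.card ↥(F ⊓ centralizer (H : Set A)) ∣ s

section Basic

variable {K : Type u} [Group K] [Finite K] {φ : A →* MulAut K}

theorem cover (hK : Group.IsSolvable K) (hc : (Nat.card A).Coprime (Nat.card K)) {N : Subgroup K}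
    [N.Normal] (hN : Inv φ N) (B : Subgroup A) : Function.Surjective (resQ φ N hN B) := by
  rintro ⟨x, hx⟩
  induction x using QuotientGroup.induction_on with | H g => ?_
  obtain ⟨d, hd, hd'⟩ := exists_mul_mem_fix (φ.comp B.subtype) (D := N) (fun a => hN a)
    ((hc.coprime_dvd_left (card_subgroup_dvd_card B)).coprime_dvd_right (card_subgroup_dvd_card N))
    (Or.inr inferInstance) (x := g) fun a => QuotientGroup.eq.mp (hx a a.2).symm
  rw [fix_comp_eq] at hd'
  exact ⟨⟨_, hd'⟩, Subtype.ext (QuotientGroup.mk_mul_of_mem g hd)⟩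

theorem le_of_quo (hK : Group.IsSolvable K) (hc : (Nat.card A).Coprime (Nat.card K))
    {N : Subgroup K} [N.Normal] (hN : Inv φ N) {B : Subgroup A} (h : fixB φ B ≤ N) :
    fixB (quoAut φ N hN) B = ⊥ := by
  rw [eq_bot_iff]
  intro x hx
  obtain ⟨y, hy⟩ := cover hK hc hN B ⟨x, hx⟩
  have : ((y : K) : K ⧸ N) = x := congrArg Subtype.val hy
  rw [← this]
  exact (QuotientGroup.eq_one_iff _).2 (h y.2)

omit [Finite A] [Finite K] in
theorem L_inf_cent {V : Subgroup K} {B : Subgroup A} (h : fixB φ B = ⊥) :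
    L φ V ⊓ centralizer (R φ B : Set (K ⋊[φ] A)) = ⊥ := by
  rw [eq_bot_iff]
  rintro _ ⟨⟨x, -, rfl⟩, hx⟩
  have : x ∈ fixB φ B := (inl_mem_centralizer_R_iff φ).1 hx
  rw [h, mem_bot] at this
  rw [this, map_one]
  exact one_mem _

theorem keyA (hy : Hy F H) (hc : (Nat.card A).Coprime (Nat.card K)) (h : fixB φ F = ⊥)
    {V Q : Subgroup K} [V.Normal] [hVc : IsMulCommutative V] {p : ℕ} (hp : p.Prime)
    (hVp : IsPGroup p V) (hV : Inv φ V) (hQ : Inv φ Q) (hQn : Group.IsNilpotent Q)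
    (hcop : (Nat.card Q).Coprime (Nat.card V)) {c : K} (hcQ : c ∈ Q) (hcH : c ∈ fixB φ H)
    (hcom : ∀ x ∈ V, x ∈ fixB φ H → Commute c x) : ∀ v ∈ V, c * v * c⁻¹ = v := by
  haveI := finite_semidirect φ
  obtain ⟨s, hs, hd⟩ := hy.sm
  have c1 : ∀ (B : Subgroup A) (W : Subgroup K),
      (Nat.card (R φ B)).Coprime (Nat.card (L φ W)) := fun B W => by
    rw [card_L, card_R]
    exact (hc.coprime_dvd_left (card_subgroup_dvd_card B)).coprime_dvd_right
      (card_subgroup_dvd_card W)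
  have n1 : ∀ (B : Subgroup A) (W : Subgroup K), Inv φ W →
      R φ B ≤ normalizer (L φ W : Set (K ⋊[φ] A)) := fun B W hW =>
    (R_le_normalizer_L_iff φ).2 fun a _ => hW a
  have h1 := keyG (Y := L φ V) (Q := L φ Q) (F := R φ F) (R := R φ H) hp (hVp.map _) inferInstance
    (H3.isNilpotent_map hQn _) (isSolvable_map_of_isSolvable _ hy.sol) (by rw [card_R]; exact hy.pr)
    ((map_mono (by rw [normalizer_eq_top]; exact le_top)).trans (le_normalizer_map _))
    (n1 _ _ hV) (n1 _ _ hV) (n1 _ _ hQ) (n1 _ _ hQ) ((map_mono hy.nrm).trans (le_normalizer_map _))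
    (by rw [card_L, card_L]; exact hcop) (c1 _ _) (c1 _ _) (c1 _ _) (c1 _ _)
    (by rw [card_R, card_R]; exact hy.cop) hs (by
      refine dvd_trans (card_dvd_of_le ?_) (card_R φ _ ▸ hd)
      rintro _ ⟨⟨x, hx, rfl⟩, hx'⟩
      refine ⟨x, ⟨hx, fun a ha => SemidirectProduct.inr_injective (φ := φ) ?_⟩, rfl⟩
      rw [map_mul, map_mul]
      exact hx' _ ⟨a, ha, rfl⟩) (L_inf_cent h) (L_inf_cent h) (c := SemidirectProduct.inl c)
    ⟨c, hcQ, rfl⟩ ((inl_mem_centralizer_R_iff φ).2 hcH) (by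
      rintro _ ⟨⟨x, hx, rfl⟩, hx'⟩ _ ⟨k, rfl⟩
      exact (((hcom x hx ((inl_mem_centralizer_R_iff φ).1 hx')).map
        SemidirectProduct.inl).zpow_left k).eq)
  intro v hv
  have h2 := h1 _ ⟨v, hv, rfl⟩
  rw [← map_mul, ← map_mul] at h2
  rw [← SemidirectProduct.inl_injective h2, mul_inv_cancel_right]

theorem exists_inv_ge (hK : Group.IsSolvable K) (hc : (Nat.card A).Coprime (Nat.card K))
    (B : Subgroup A) (q : ℕ) [Fact q.Prime] :
    ∃ Q : Subgroup K, Inv φ Q ∧ IsPGroup q Q ∧ pCore q (fixB φ B) ≤ Q.subgroupOf _ := by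
  have hc' := hc.coprime_dvd_left (card_subgroup_dvd_card B)
  obtain ⟨P, hP⟩ := exists_inv_sylow φ hc (Or.inr hK) q
  obtain ⟨P', h1, h2⟩ := exists_inv_sylow_ge (φ.comp B.subtype) hc' (Or.inr hK)
    (U := (pCore q (fixB φ B)).map (fixB φ B).subtype) ((H3.pCore_isPGroup q _).map _) (by
      rintro a _ ⟨x, hx, rfl⟩
      exact ⟨x, hx, (x.2 a a.2).symm⟩)
  obtain ⟨c, hc1, e⟩ := inv_sylow_conj (φ.comp B.subtype) hc' (Or.inr hK) h2 fun a => hP a
  rw [fix_comp_eq] at hc1
  refine ⟨P, hP, P.2, fun x hx => ?_⟩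
  rw [mem_subgroupOf, ← e, Sylow.coe_subgroup_smul, mem_pointwise_smul_iff_inv_smul_mem]
  haveI := H3.pCore_characteristic q (fixB φ B)
  exact h1 ⟨_, Normal.conj_mem' inferInstance x hx ⟨c, hc1⟩, by simp⟩

theorem bot_of_fix {s : ℕ} (hs : s.Prime) (hr : (Nat.card H).Prime) (hF : IsPGroup s F)
    (hsr : s ≠ Nat.card H) (hn : H ≤ normalizer (F : Set A)) (hFH : ⁅F, H⁆ = F)
    (hnF : ¬ ∃ k : ℕ, Nat.card H = 2 ^ k + 1) (hK : Group.IsSolvable K)
    (hc : (Nat.card A).Coprime (Nat.card K)) (h : fixB φ F = ⊥) (h' : fixB φ H = ⊥) :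
    (⊤ : Subgroup K) = ⊥ := by
  haveI := finite_semidirect φ
  by_contra hne
  obtain ⟨p, V, hp, _, _, hV, hVp, hV1, -⟩ := exists_V hK (inv_top φ) hne
  have h1 : ¬ R φ F ≤ centralizer (L φ V : Set (K ⋊[φ] A)) := fun hle => by
    have := L_inf_cent (V := V) h
    rw [inf_eq_left.2 (le_centralizer_iff.1 hle)] at this
    exact hV1 ((map_eq_bot_iff_of_injective _ SemidirectProduct.inl_injective).1 this)
  have h2 : s ∣ Nat.card A := (H67.dvd_card_of_isPGroup hs hF fun e => h1 (by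
    rw [e]; exact (Subgroup.map_bot _).le.trans bot_le)).trans (card_subgroup_dvd_card F)
  refine H4.inf_cent_ne_bot_of_prime hs hr hsr (X := R φ H) (Q := R φ F) (V := L φ V) (card_R φ H)
    (hF.map _) ((map_mono hn).trans (le_normalizer_map _)) inferInstance
    ((R_le_normalizer_L_iff φ).2 fun a _ => hV a) ((R_le_normalizer_L_iff φ).2 fun a _ => hV a)
    ?_ (by rwa [← Subgroup.map_commutator, hFH]) (fun _ e => absurd e hnF) (L_inf_cent h')
  rw [card_L]
  have h3 := hc.symm.coprime_dvd_left (card_subgroup_dvd_card V)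
  exact Nat.Coprime.mul_right (h3.coprime_dvd_right h2)
    (h3.coprime_dvd_right (card_subgroup_dvd_card H))

end Basic

theorem ind' (F : Subgroup A) {P : ∀ (K : Type u) [Group K] [Finite K], (A →* MulAut K) → Prop}
    (step : ∀ (K : Type u) [Group K] [Finite K] (φ : A →* MulAut K), Group.IsSolvable K →
      (Nat.card A).Coprime (Nat.card K) → fixB φ F = ⊥ →
      (∀ (V : Subgroup K) [V.Normal] (hV : Inv φ V), V ≠ ⊥ → P (K ⧸ V) (quoAut φ V hV)) → P K φ)
    (K : Type u) [Group K] [Finite K] (φ : A →* MulAut K) (hK : Group.IsSolvable K)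
    (hc : (Nat.card A).Coprime (Nat.card K)) (h : fixB φ F = ⊥) : P K φ := by
  induction hn : Nat.card K using Nat.strong_induction_on generalizing K with | _ n IH => ?_
  refine step K φ hK hc h fun V _ hV hV1 => ?_
  refine IH _ ?_ _ _ inferInstance (hc.coprime_dvd_right (card_quotient_dvd_card V))
    (le_of_quo hK hc hV (h ▸ bot_le)) rfl
  rw [← hn, card_eq_card_quotient_mul_card_subgroup V]
  exact lt_mul_of_one_lt_right Nat.card_pos ((one_lt_card_iff_ne_bot V).2 hV1)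

theorem commute_of_commute' (hy : Hy F H) {q : ℕ} [hq : Fact q.Prime] (K : Type u) [Group K]
    [Finite K] (φ : A →* MulAut K) (hK : Group.IsSolvable K)
    (hc : (Nat.card A).Coprime (Nat.card K)) (h : fixB φ F = ⊥) :
    ∀ (Q N : Subgroup K) (c : K), Inv φ Q → IsPGroup q Q → c ∈ Q → c ∈ fixB φ H → N.Normal →
      Inv φ N → ¬ q ∣ Nat.card N → (∀ x ∈ N, x ∈ fixB φ H → Commute c x) →
      ∀ x ∈ N, Commute c x := by
  refine ind' F (P := fun K _ _ φ => ∀ (Q N : Subgroup K) (c : K), Inv φ Q → IsPGroup q Q →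
    c ∈ Q → c ∈ fixB φ H → N.Normal → Inv φ N → ¬ q ∣ Nat.card N →
    (∀ x ∈ N, x ∈ fixB φ H → Commute c x) → ∀ x ∈ N, Commute c x) ?_ K φ hK hc h
  intro K _ _ φ hK hc h IH Q N c hQ hQq hcQ hcH _ hN hqN hcom x hx
  by_cases hne : N = ⊥
  · rw [hne, mem_bot] at hx
    rw [hx]; exact Commute.one_right c
  obtain ⟨p, V, hp, _, _, hV, hVp, hV1, hVN⟩ := exists_V hK hN hne
  have hcop : (Nat.card Q).Coprime (Nat.card V) := by
    obtain ⟨n, hn⟩ := IsPGroup.iff_card.mp hQq
    rw [hn]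
    exact ((Nat.Prime.coprime_iff_not_dvd hq.out).2
      fun h => hqN (h.trans (card_dvd_of_le hVN))).pow_left n
  have h1 := keyA hy hc h hp hVp hV hQ hQq.isNilpotent hcop hcQ hcH fun x hx => hcom x (hVN hx)
  have h2 := IH V hV hV1 (Q.map (QuotientGroup.mk' V)) (N.map (QuotientGroup.mk' V)) c
    (inv_map_mk hV hQ) (hQq.map _) ⟨c, hcQ, rfl⟩ (resQ φ V hV H ⟨c, hcH⟩).2
    (Normal.map inferInstance _ (QuotientGroup.mk'_surjective V)) (inv_map_mk hV hN)
    (fun h => hqN (h.trans (card_map_dvd _ _)))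
    (fun y hy hy' => by
      obtain ⟨z, hz⟩ := cover hK hc hV H ⟨y, hy'⟩
      obtain rfl : ((z : K) : K ⧸ V) = y := congrArg Subtype.val hz
      have : (z : K) ∈ (N.map (QuotientGroup.mk' V)).comap (QuotientGroup.mk' V) := hy
      rw [comap_map_eq_self (by rwa [QuotientGroup.ker_mk'])] at this
      exact (hcom z this z.2).map (QuotientGroup.mk' V))
    x ⟨x, hx, rfl⟩
  have h3 : c * x * c⁻¹ * x⁻¹ ∈ V := by
    rw [← QuotientGroup.eq_one_iff]
    simp [h2.eq]
  set v := c * x * c⁻¹ * x⁻¹ with hv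
  have h4 : ∀ k : ℕ, c ^ k * x * (c ^ k)⁻¹ = v ^ k * x := by
    intro k
    induction k with
    | zero => simp
    | succ k ih =>
      calc c ^ (k + 1) * x * (c ^ (k + 1))⁻¹ = c * (c ^ k * x * (c ^ k)⁻¹) * c⁻¹ := by
            rw [pow_succ']; group
        _ = (c * v ^ k * c⁻¹) * v * x := by rw [ih, hv]; group
        _ = v ^ (k + 1) * x := by rw [h1 _ (pow_mem h3 k), pow_succ]
  have h5 := h4 (Nat.card Q)
  have h6 : c ^ Nat.card Q = 1 := congrArg Subtype.val (pow_card_eq_one' (x := (⟨c, hcQ⟩ : Q)))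
  rw [h6, one_mul, inv_one, mul_one, eq_comm, mul_eq_right] at h5
  have h7 : v = 1 := congrArg Subtype.val
    (eq_one_of_pow_card hcop (v := (⟨v, h3⟩ : V)) (Subtype.ext h5))
  rw [hv, mul_inv_eq_one, mul_inv_eq_iff_eq_mul] at h7
  exact h7

theorem piCore_fix' (hy : Hy F H) (π : Set ℕ) (K : Type u) [Group K] [Finite K]
    (φ : A →* MulAut K) (hK : Group.IsSolvable K) (hc : (Nat.card A).Coprime (Nat.card K))
    (h : fixB φ F = ⊥) : piCore π (fixB φ H) = (piCore π K).subgroupOf _ := by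
  refine le_antisymm ?_ (H3.piCore_subgroupOf_le _)
  refine ind' F (P := fun K _ _ φ => piCore π (fixB φ H) ≤ (piCore π K).subgroupOf _) ?_ K φ hK hc h
  intro K _ _ φ hK hc h IH
  haveI := H3.piCore_characteristic π K
  by_cases hne : piCore π K = ⊥
  swap
  · intro x hx
    have hV := inv_of_characteristic φ (piCore π K)
    refine H3.comap_piCore_le (QuotientGroup.mk' (piCore π K)) ?_
      (IH _ hV hne (H3.map_piCore_le (cover hK hc hV H) ⟨x, hx, rfl⟩))
    rw [QuotientGroup.ker_mk']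
    exact H67.isPi_piCore π
  suffices h1 : piCore π (fixB φ H) = ⊥ by rw [h1]; exact bot_le
  by_contra h1
  obtain ⟨q, R, hq, _, -, -, hRq, hR1, hle⟩ := exists_V (φ := (1 : A →* MulAut (fixB φ H)))
    inferInstance (N := piCore π (fixB φ H)) (fun _ _ hx => hx) h1
  haveI : Fact q.Prime := ⟨hq⟩
  have hqπ : q ∈ π := H3.piCore_pi π _ q hq
    ((H67.dvd_card_of_isPGroup hq hRq hR1).trans (card_dvd_of_le hle))
  obtain ⟨⟨c, hc0⟩, hc1⟩ := ne_bot_iff_exists_ne_one.1 hR1
  have hc' : c ∈ pCore q (fixB φ H) := H3.le_pCore hRq hc0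
  obtain ⟨Q, hQ, hQq, hQle⟩ := exists_inv_ge (φ := φ) hK hc H q
  haveI := H3.fitting_characteristic K
  have h2 : ¬ q ∣ Nat.card (fittingSubgroup K) := fun hd => by
    haveI := piCoreOf_normal {q} (fittingSubgroup K)
    refine H67.ne_bot_of_dvd_card hq (dvd_card_pCoreOf (H3.fitting_isNilpotent K) hq hd) ?_
    rw [eq_bot_iff, ← hne]
    exact H67.le_piCore (H67.isPi_of_isPGroup_of_mem hq (H67.isPGroup_pCoreOf hq _) hqπ)
  have hdis : Disjoint (pCore q (fixB φ H)) ((fittingSubgroup K).subgroupOf (fixB φ H)) := by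
    rw [disjoint_iff]
    refine H3.inf_eq_bot_of_isPGroup_of_coprime (H3.pCore_isPGroup q _) ?_
    refine ((Nat.Prime.coprime_iff_not_dvd hq).2 fun hd => h2 (hd.trans ?_)).symm
    rw [H3.card_subgroupOf]
    exact card_dvd_of_le inf_le_left
  have h3 := commute_of_commute' hy K φ hK hc h Q (fittingSubgroup K) c hQ hQq (hQle hc') c.2
    inferInstance (inv_of_characteristic φ _) h2 fun x hx hx' =>
      (commute_of_normal_of_disjoint _ _ inferInstance inferInstance hdis c ⟨x, hx'⟩ hc' hx).map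
        (fixB φ H).subtype
  have h4 : c ∈ (fittingSubgroup K).subgroupOf (fixB φ H) :=
    H3.centralizer_fitting_le K fun x hx => (h3 x hx).eq.symm
  exact hc1 (Subtype.ext (disjoint_def.1 hdis hc' h4))

theorem fitting_fix' (hy : Hy F H) (K : Type u) [Group K] [Finite K] (φ : A →* MulAut K)
    (hK : Group.IsSolvable K) (hc : (Nat.card A).Coprime (Nat.card K)) (h : fixB φ F = ⊥) :
    fittingSubgroup (fixB φ H) = (fittingSubgroup K).subgroupOf _ := by
  refine le_antisymm ?_ (H3.fitting_subgroupOf_le _)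
  rw [H3.fitting_eq_iSup_pCore, iSup_le_iff]
  intro p
  haveI : Fact (p : ℕ).Prime := ⟨p.2⟩
  rw [H67.pCore_eq_piCore p.2, piCore_fix' hy _ K φ hK hc h, ← H67.pCore_eq_piCore p.2]
  exact comap_mono H3.pCore_le_fitting

theorem chain_fix' (hy : Hy F H) {s : ℕ} (hs : s.Prime) (hF : IsPGroup s F)
    (hsr : s ≠ Nat.card H) (hFH : ⁅F, H⁆ = F) (hnF : ¬ ∃ k : ℕ, Nat.card H = 2 ^ k + 1) (n : ℕ)
    (K : Type u) [Group K] [Finite K] (φ : A →* MulAut K) (hK : Group.IsSolvable K)
    (hc : (Nat.card A).Coprime (Nat.card K)) (h : fixB φ F = ⊥) :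
    Chain n K ↔ Chain n (fixB φ H) := by
  refine ⟨fun h1 => h1.subgroup _, fun h1 => ?_⟩
  induction n generalizing K with
  | zero =>
    obtain ⟨E, h0, h2, -⟩ := h1
    have h3 : (⊤ : Subgroup (fixB φ H)) = ⊥ := h2.symm.trans h0
    have h4 := bot_of_fix hs hy.pr hF hsr hy.nrm hFH hnF hK hc h (by
      rw [← range_subtype (fixB φ H), MonoidHom.range_eq_map, h3, Subgroup.map_bot])
    exact ⟨fun _ => ⊥, rfl, h4.symm, monotone_const, fun _ => normal_bot, fun i => i.elim0⟩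
  | succ n ih =>
    haveI := H3.fitting_characteristic K
    have hN := inv_of_characteristic φ (fittingSubgroup K)
    refine Chain.cons (H3.fitting_isNilpotent K)
      (ih _ _ inferInstance (hc.coprime_dvd_right (card_quotient_dvd_card _))
        (le_of_quo hK hc hN (h ▸ bot_le)) (h1.tail (cover hK hc hN H) ?_))
    rw [ker_resQ, fitting_fix' hy K φ hK hc h]

end Cfsg.Agent.H69.CF
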