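import Cfsg.Agent.H74.CksDefs
import Cfsg.Agent.H3.Frattini

/-!
# Minimal uncovered sets of nodes with parameter two
-/

set_option autoImplicit false

namespace Cfsg.Agent.H74.Cks.H69

open Subgroup Cfsg.Agent.H35 Cfsg.Agent.Lead.T3

variable {G : Type} [Group G]

theorem nm {N : Subgroup G} {g n : G} (hg : g ∈ normalizer (N : Set G)) (hn : n ∈ N) :
    g * n * g⁻¹ ∈ N := (mem_normalizer_iff.1 hg n).1 hn

theorem sup_nm {A N : Subgroup G} (h : A ≤ normalizer (N : Set G)) {s : G} (hs : s ∈ A ⊔ N) :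
    ∃ a ∈ A, ∃ n ∈ N, s = a * n := by
  have : s ∈ (↑(A ⊔ N) : Set G) := hs
  rw [coe_mul_of_left_le_normalizer_right A N h] at this
  obtain ⟨u, hu, c, hc, e⟩ := this
  exact ⟨u, hu, c, hc, e.symm⟩

theorem idx2 {M U : Subgroup G} {x : G} (hx : x ∈ U) (hM : x ∉ M)
    (h : ∀ u ∈ U, u * x ∈ M ∨ u ∈ M) {a b : G} (ha : a ∈ U) (hb : b ∈ U) :
    a * b ∈ M ↔ (a ∈ M ↔ b ∈ M) :=
  mul_mem_iff_of_index_two (H := M.subgroupOf U)
    (relIndex_eq_two_iff_exists_notMem_and.2 ⟨x, hx, hM, h⟩) (a := ⟨a, ha⟩) (b := ⟨b, hb⟩)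

theorem com2 {M U : Subgroup G} {x : G} (hx : x ∈ U) (hM : x ∉ M)
    (h : ∀ u ∈ U, u * x ∈ M ∨ u ∈ M) {a b : G} (ha : a ∈ U) (hb : b ∈ U) :
    a * b * a⁻¹ * b⁻¹ ∈ M := by
  rw [idx2 hx hM h (mul_mem (mul_mem ha hb) (inv_mem ha)) (inv_mem hb),
    idx2 hx hM h (mul_mem ha hb) (inv_mem ha), idx2 hx hM h ha hb, inv_mem_iff, inv_mem_iff]
  tauto

theorem two_el {X : Subgroup G} (h : Nat.card X = 2) {x y : G} (hx : x ∈ X) (h1 : x ≠ 1)
    (hy : y ∈ X) : y = 1 ∨ y = x := by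
  obtain ⟨z, -, hz⟩ := (Nat.card_eq_two_iff' (1 : X)).1 h
  refine or_iff_not_imp_left.2 fun h2 => congrArg Subtype.val
    ((hz ⟨y, hy⟩ fun e => h2 (congrArg Subtype.val e)).trans
      (hz ⟨x, hx⟩ fun e => h1 (congrArg Subtype.val e)).symm)

theorem two_sq {X : Subgroup G} (h : Nat.card X = 2) {x : G} (hx : x ∈ X) : x * x = 1 := by
  by_cases h1 : x = 1
  · rw [h1, mul_one]
  · exact (two_el h hx h1 (mul_mem hx hx)).resolve_right fun e => h1 (mul_eq_left.1 e)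

theorem half {X M : Subgroup G} (h : Nat.card X = 2) (hn : X ≤ normalizer (M : Set G)) {x : G}
    (hx : x ∈ X) (h1 : x ≠ 1) : ∀ u ∈ X ⊔ M, u * x ∈ M ∨ u ∈ M := fun u hu => by
  obtain ⟨y, hy, m, hm, rfl⟩ := sup_nm hn hu
  rcases two_el h hx h1 hy with rfl | rfl
  · exact .inr (by rwa [one_mul])
  · have := nm (hn hx) hm
    rw [inv_eq_of_mul_eq_one_right (two_sq h hx)] at this
    exact .inl this

theorem int0 [Finite G] {ι : Type} [DecidableEq ι] (X Q : ι → Subgroup G) (N : Subgroup G)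
    (A : Finset ι) (h1 : ∀ l, X l ⊓ Q l = ⊥) (h2 : ∀ l m, m ≠ l → X m ≤ Q l)
    (h3 : ∀ l ∈ A, N ≤ Q l) (h4 : ∀ l, X l ≤ normalizer (N : Set G))
    (h5 : ∀ l ∈ A, ∀ m ∈ A, l ≠ m → ∀ x ∈ X l, ∀ y ∈ X m, x * y * x⁻¹ * y⁻¹ ∈ N) :
    ∀ u ∈ (⨆ l ∈ A, X l) ⊔ N, (∀ l ∈ A, u ∈ Q l) → u ∈ N := by
  induction A using Finset.induction_on with
  | empty => simp
  | insert a A ha ih =>
    intro u hu h
    have m := Finset.mem_insert_self a A
    have s : ∀ {l}, l ∈ A → l ∈ insert a A := Finset.mem_insert_of_mem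
    have ne : ∀ {l}, l ∈ A → l ≠ a := fun hl e => ha (e ▸ hl)
    rw [Finset.iSup_insert, sup_assoc] at hu
    obtain ⟨x, hx, v, hv, rfl⟩ := sup_nm (fun x hx => mem_normalizer_fintype fun y hy =>
      (sup_le (iSup₂_le fun l hl y hy => by
        have := mul_mem (mem_sup_right (h5 a m l (s hl) (ne hl).symm x hx y hy))
          (mem_sup_left (le_iSup₂ (f := fun l (_ : l ∈ A) => X l) l hl hy))
        rwa [inv_mul_cancel_right] at this) fun y hy => mem_sup_right (nm (h4 a hx) hy) :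
        _ ≤ ((⨆ l ∈ A, X l) ⊔ N).comap (MulAut.conj x).toMonoidHom) hy) hu
    have e : x = 1 := mem_bot.1 (h1 a ▸ ⟨hx, (mul_mem_cancel_right
      (sup_le (iSup₂_le fun l hl => h2 a l (ne hl)) (h3 a m) hv)).1 (h a m)⟩)
    rw [e, one_mul] at h ⊢
    exact ih (fun l hl => h3 l (s hl)) (fun l hl k hk => h5 l (s hl) k (s hk)) v hv
      fun l hl => h l (s hl)

variable [Finite G] [IsSimpleGroup G] {p n : ℕ} [Fact p.Prime] {S : Sys G p n}

omit [Finite G] [IsSimpleGroup G] [Fact p.Prime] in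
theorem UP (J : Finset (Fin n)) : S.U ≤ S.P J := (S.sp.U_le _).trans (BN.B_le_PJ _)

omit [Finite G] [IsSimpleGroup G] [Fact p.Prime] in
theorem PQ (J : Finset (Fin n)) : S.P J ≤ normalizer (S.Q J : Set G) := S.sp.U_normal _

omit [Finite G] [IsSimpleGroup G] [Fact p.Prime] in
theorem XU (i : Fin n) : S.X i ≤ S.U := le_sup_left.trans (S.X_sup i).le

theorem int1 (b1 : Bas1Stmt) (gen : S.Gen) {J : Finset (Fin n)} {N : Subgroup G}
    (hN : S.U ≤ normalizer (N : Set G)) (hQ : S.Q J ≤ N)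
    (hc : ∀ l ∈ J, ∀ m ∈ J, ∀ x ∈ S.X l, ∀ y ∈ S.X m, x * y * x⁻¹ * y⁻¹ ∈ N) :
    ∀ u ∈ S.U, (∀ l ∈ J, u ∈ S.Q {l}) → u ∈ N := by
  obtain ⟨-, -, -, -, -, -, -, -, -, -, hX, hXQ, -⟩ := b1 S
  have h2 : ∀ l m : Fin n, m ≠ l → S.X m ≤ S.Q {l} := fun l m h => hXQ _ _ (by simpa using h)
  have mi : ∀ {u}, u ∈ N ⊓ ⨅ l ∈ J, S.Q {l} ↔ u ∈ N ∧ ∀ l ∈ J, u ∈ S.Q {l} := by
    simp only [mem_inf, mem_iInf, implies_true]
  intro u hu h
  refine (int0 S.X (fun l => S.Q {l}) (N ⊓ ⨅ l ∈ J, S.Q {l}) J (fun l => (hX l).2.1) h2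
    (fun l hl y hy => (mi.1 hy).2 l hl)
    (fun l x hx => mem_normalizer_fintype fun y hy => mi.2 ⟨nm (hN (XU l hx)) (mi.1 hy).1,
      fun k hk => nm (PQ _ (UP _ (XU l hx))) ((mi.1 hy).2 k hk)⟩)
    (fun l hl m hm ne x hx y hy => mi.2 ⟨hc l hl m hm x hx y hy, fun k _ => ?_⟩) u ?_ h).1
  · by_cases e : m = k
    · have := mul_mem (h2 k l (e ▸ ne) hx) (nm (PQ _ (UP _ (XU m hy)))
        (inv_mem (h2 k l (e ▸ ne) hx)))
      simpa only [mul_assoc] using this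
    · exact mul_mem (nm (PQ _ (UP _ (XU l hx))) (h2 k m e hy)) (inv_mem (h2 k m e hy))
  · refine (iSup_le fun k => ?_ : ⨆ i, S.X i ≤ _) (gen.symm ▸ hu)
    by_cases e : k ∈ J
    · exact le_sup_of_le_left (le_iSup₂ (f := fun l (_ : l ∈ J) => S.X l) k e)
    · exact le_sup_of_le_right fun y hy => mi.2 ⟨hQ (hXQ J k e hy),
        fun l hl => h2 l k (fun e' => e (e' ▸ hl)) hy⟩

section Min

variable {H M : Subgroup G} {J : Finset (Fin n)} (h : S.MinJ H J M) (q2 : ∀ i ∈ J, S.q i = 2)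
include h q2

omit [Finite G] [IsSimpleGroup G] [Fact p.Prime] in
theorem not_M {l : Fin n} (hl : l ∈ J) {x : G} (hx : x ∈ S.X l) (h1 : x ≠ 1) : x ∉ M := fun e => by
  refine h.lt.not_ge (h.sup l hl ▸ sup_le (fun y hy => ?_) le_rfl)
  rcases two_el (q2 l hl) hx h1 hy with rfl | rfl
  exacts [one_mem _, e]

omit [Finite G] [IsSimpleGroup G] [Fact p.Prime] in
theorem half_M {l : Fin n} (hl : l ∈ J) {x : G} (hx : x ∈ S.X l) (h1 : x ≠ 1) :
    ∀ u ∈ S.U, u * x ∈ M ∨ u ∈ M :=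
  h.sup l hl ▸ half (q2 l hl) ((XU l).trans ((S.sp.U_le _).trans h.nB)) hx h1

theorem int_M (b1 : Bas1Stmt) (gen : S.Gen) {l : Fin n} (hl : l ∈ J) {x : G} (hx : x ∈ S.X l)
    (h1 : x ≠ 1) : ∀ u ∈ S.U, (∀ l ∈ J, u ∈ S.Q {l}) → u ∈ M :=
  int1 b1 gen ((S.sp.U_le _).trans h.nB) (le_sup_right.trans h.le) fun a _ b _ _ hy _ hz =>
    com2 (XU l hx) (not_M h q2 hl hx h1) (half_M h q2 hl hx h1) (XU a hy) (XU b hz)

theorem eq_M (b1 : Bas1Stmt) (gen : S.Gen) {i : Fin n} (hi : i ∈ J) {x : G} (hx : x ∈ S.X i)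
    (h1 : x ≠ 1) : (H ⊓ S.U) ⊔ S.Q J = M := by
  obtain ⟨-, -, -, -, -, -, -, -, anti, QU, hX, hXQ, -⟩ := b1 S
  obtain rfl : p = 2 := by
    obtain ⟨c, c0, hc⟩ := (hX i).2.2.2
    rw [q2 i hi] at hc
    exact (Nat.prime_dvd_prime_iff_eq Fact.out Nat.prime_two).1 (hc ▸ dvd_pow_self p c0.ne')
  have UM : S.U ≤ normalizer (M : Set G) := (S.sp.U_le _).trans h.nB
  refine H3.eq_of_sup_map_frattini_eq (le_antisymm (sup_le h.le (map_subtype_le _)) fun u hu => ?_)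
  obtain ⟨v, hv, r, hr, rfl⟩ := sup_nm (inf_le_right.trans ((UP _).trans (PQ _)))
    ((h.mn _ (Finset.erase_ssubset hi)).ge (h.lt.le hu))
  have rM : r ∈ M := (mul_mem_cancel_left (h.le (mem_sup_left hv))).1 hu
  have r1 : ∀ l ∈ J, l ≠ i → r ∈ S.Q {l} := fun l hl e => anti _ _ (by simp [hl, e]) hr
  have r2 : r ∈ S.Q {i} := (half (q2 i hi) ((XU i).trans ((UP _).trans (PQ _))) hx h1 r
    ((hX i).1.ge (QU _ hr))).resolve_left fun e => not_M h q2 hi hx h1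
      ((mul_mem_cancel_left rM).1 (int_M h q2 b1 gen hi hx h1 _ (mul_mem (QU _ hr) (XU i hx))
        fun l hl => by
          by_cases e' : l = i
          · exact e' ▸ e
          · exact mul_mem (r1 l hl e') (hXQ _ _ (by simpa using Ne.symm e') hx)))
  have n1 := UM.trans (H3.normalizer_le_normalizer_map_frattini M)
  have := int1 b1 gen (N := S.Q J ⊔ (frattini M).map M.subtype)
    (fun g hg => mem_normalizer_fintype fun y hy => (sup_le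
      (fun y hy => mem_sup_left (nm (PQ _ (UP _ hg)) hy)) fun y hy => mem_sup_right (nm (n1 hg) hy) :
      _ ≤ (S.Q J ⊔ (frattini M).map M.subtype).comap (MulAut.conj g).toMonoidHom) hy)
    le_sup_left (fun a ha b hb y hy z hz => by
      by_cases y1 : y = 1
      · simp [y1]
      by_cases z1 : z = 1
      · simp [z1]
      rw [inv_eq_of_mul_eq_one_right (two_sq (q2 a ha) hy),
        inv_eq_of_mul_eq_one_right (two_sq (q2 b hb) hz), mul_assoc, ← sq]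
      exact mem_sup_right (H3.pow_mem_map_frattini ((S.sp.U_pgroup _).to_le h.lt.le)
        ((idx2 (XU i hx) (not_M h q2 hi hx h1) (half_M h q2 hi hx h1) (XU a hy) (XU b hz)).2
          (iff_of_false (not_M h q2 ha hy y1) (not_M h q2 hb hz z1))))) r (QU _ hr)
    fun l hl => by
      by_cases e' : l = i
      · exact e' ▸ r2
      · exact r1 l hl e'
  rw [sup_assoc]
  exact mul_mem (mem_sup_left hv) (mem_sup_right this)

end Min

omit [Finite G] [IsSimpleGroup G] [Fact p.Prime] in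
theorem plane {i j : Fin n} {F : Type} [Field F] (D : S.Plane i j F) :
    ∃ x ∈ S.X i, ∃ a ∈ S.X i ⊔ S.X j, ∃ b ∈ S.L j, x ≠ 1 ∧ a * b * a⁻¹ * b⁻¹ = x := by
  have m1 : D.x 0 1 1 ∈ S.X i := (D.m01 _).2 ⟨1, rfl⟩
  have m2 : D.x 1 2 1 ∈ S.X j := (D.m12 _).2 ⟨1, rfl⟩
  refine ⟨D.x 0 1 1, m1, D.x 0 2 1, ?_, D.x 2 1 1, D.m21 1,
    fun e => one_ne_zero (D.rel.inj 0 1 (by decide) 1 e), ?_⟩
  · rw [← mul_one (1 : F), ← D.rel.com 0 1 2 (by decide) (by decide) (by decide)]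
    exact mul_mem (mul_mem (mul_mem (mem_sup_left m1) (mem_sup_right m2))
      (inv_mem (mem_sup_left m1))) (inv_mem (mem_sup_right m2))
  · rw [D.rel.com 0 2 1 (by decide) (by decide) (by decide), mul_one]

theorem twoStmt (b1 : Bas1Stmt) (lad : LadStmt) : TwoStmt := by
  intro G _ _ _ p n _ S gen pl H J M hs hT h q2 _ i hi j hj hm
  obtain ⟨F, _, _, ⟨D⟩⟩ := pl i j hm
  obtain ⟨x, hx, a, ha, b, hb, x1, e⟩ := plane D
  obtain ⟨-, l2, l3, -⟩ := lad S H hs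
  have e1 := (l2 J).1.trans (eq_M h q2 b1 gen hi hx x1)
  obtain ⟨-, -, -, -, -, dec, -, -, -, -, -, -, -, -, -, -, LP, -⟩ := b1 S
  have n1 : x ∉ S.HJ H J := fun hh => not_M h q2 hi hx x1 (e1.le ⟨hh, XU i hx⟩)
  refine n1 (e ▸ com2 (UP J (XU i hx)) n1 (fun g hg => ?_) (UP J (sup_le (XU i) (XU j) ha))
    (LP J j hj hb))
  obtain ⟨k, hk, c, hc, rfl⟩ := l3 J g hg
  obtain ⟨u, hu, t, ht, e2⟩ := dec _ (inv_mem hc)
  have m : k * t⁻¹ ∈ S.HJ H J :=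
    mem_sup_left (mul_mem hk (inv_mem ⟨hT ht, BN.B_le_PJ _ ht.1⟩))
  rw [← inv_inv c, e2, mul_inv_rev, ← mul_assoc, mul_assoc _ _ x, mul_mem_cancel_left m,
    mul_mem_cancel_left m]
  exact (half_M h q2 hi hx x1 _ (inv_mem hu)).imp (fun h => (e1.ge h).1) fun h => (e1.ge h).1

theorem prodStmt (b1 : Bas1Stmt) (g1 : GenStmt) (lad : LadStmt) : ProdStmt := by
  intro G _ _ _ p n _ S gen pl H J M hs h q2 K i hi iK k kK hm hl hF
  obtain ⟨F, _, _, ⟨D⟩⟩ := pl i k hm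
  obtain ⟨x, hx, a, ha, b, hb, x1, e⟩ := plane D
  obtain ⟨-, -, -, l4, -⟩ := lad S H hs
  have l5 := (l4 K hF).1
  have iM := int_M h q2 b1 gen hi hx x1
  obtain ⟨-, -, -, -, -, -, -, -, anti, QU, hX, hXQ, -, -, -, -, LP, -, sym, -⟩ := b1 S
  have LH : ∀ c ∈ K, S.L c ≤ S.HJ H K := fun c hc =>
    (le_iSup₂ (f := fun l (_ : l ∈ K) => S.L l) c hc).trans l5
  have aU := sup_le (XU i) (XU k) ha
  obtain ⟨a', ha', r, hr, e1⟩ := sup_nm (inf_le_right.trans (PQ K))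
    (sup_le (le_sup_left.trans (LH i iK)) (le_sup_left.trans (LH k kK)) ha)
  obtain ⟨b', hb', s, hs', e2⟩ := sup_nm (inf_le_right.trans (PQ K)) (LH k kK hb)
  have key : ∀ (J' : Finset (Fin n)) (y z : G), k ∈ J' → y ∈ S.U → z ∈ S.U →
      r * y⁻¹ ∈ S.Q J' → s * z⁻¹ ∈ S.Q J' → Commute y a → Commute y b → Commute z a →
      Commute z b → Commute y z → x⁻¹ * (a' * b' * a'⁻¹ * b'⁻¹) ∈ S.Q J' := by
    intro J' y z hk hy hz h1 h2 c1 c2 c3 c4 c5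
    have : ((S.Q J').subgroupOf (S.P J')).Normal :=
      (normal_subgroupOf_iff_le_normalizer ((QU _).trans (UP _))).2 (PQ _)
    let f := QuotientGroup.mk' ((S.Q J').subgroupOf (S.P J'))
    have k0 : ∀ g : S.P J', f g = 1 ↔ (g : G) ∈ S.Q J' := fun g => QuotientGroup.eq_one_iff g
    let A : S.P J' := ⟨a, UP _ aU⟩
    let B : S.P J' := ⟨b, LP _ _ hk hb⟩
    let R : S.P J' := ⟨r, UP _ (QU _ hr)⟩
    let T : S.P J' := ⟨s, UP _ (QU _ hs')⟩
    let Y : S.P J' := ⟨y, UP _ hy⟩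
    let Z : S.P J' := ⟨z, UP _ hz⟩
    have f1 : f R = f Y := by rw [← mul_inv_eq_one, ← map_inv, ← map_mul, k0]; exact h1
    have f2 : f T = f Z := by rw [← mul_inv_eq_one, ← map_inv, ← map_mul, k0]; exact h2
    have e3 : a * y⁻¹ * (b * z⁻¹) * (a * y⁻¹)⁻¹ * (b * z⁻¹)⁻¹ = a * b * a⁻¹ * b⁻¹ := by
      have d1 : y⁻¹ * (b * z⁻¹) = b * z⁻¹ * y⁻¹ := (c2.mul_right c5.inv_right).inv_left
      have d2 : z⁻¹ * a⁻¹ = a⁻¹ * z⁻¹ := c3.inv_inv
      calc _ = a * (y⁻¹ * (b * z⁻¹)) * y * a⁻¹ * z * b⁻¹ := by group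
        _ = a * b * (z⁻¹ * a⁻¹) * z * b⁻¹ := by rw [d1]; group
        _ = _ := by rw [d2]; group
    have e4 : A * Y⁻¹ * (B * Z⁻¹) * (A * Y⁻¹)⁻¹ * (B * Z⁻¹)⁻¹ = A * B * A⁻¹ * B⁻¹ :=
      Subtype.ext e3
    have := (k0 ((A * B * A⁻¹ * B⁻¹)⁻¹ *
      (A * R⁻¹ * (B * T⁻¹) * (A * R⁻¹)⁻¹ * (B * T⁻¹)⁻¹))).1 (by
        rw [← e4]
        simp only [map_mul, map_inv, f1, f2, inv_mul_cancel])
    rw [← e, show a' = a * r⁻¹ by rw [e1, mul_inv_cancel_right],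
      show b' = b * s⁻¹ by rw [e2, mul_inv_cancel_right]]
    exact this
  have k1 := key K 1 1 kK (one_mem _) (one_mem _) (by simpa using hr) (by simpa using hs')
    (.one_left _) (.one_left _) (.one_left _) (.one_left _) (.refl _)
  have vM : a' * b' * a'⁻¹ * b'⁻¹ ∈ M := h.le (mem_sup_left ⟨H.mul_mem (H.mul_mem
    (H.mul_mem ha'.1 hb'.1) (H.inv_mem ha'.1)) (H.inv_mem hb'.1),
    (mul_mem_cancel_left (inv_mem (XU i hx))).1 (QU _ k1)⟩)
  refine not_M h q2 hi hx x1 (inv_mem_iff.1 ((mul_mem_cancel_right vM).1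
    (iM _ (QU _ k1) fun l lJ => ?_)))
  by_cases lK : l ∈ K
  · exact anti _ _ (by simpa using lK) k1
  have lk : l ≠ k := fun e => lK (e ▸ kK)
  have sp : ∀ r ∈ S.Q K, ∃ y ∈ S.X l, r * y⁻¹ ∈ S.Q {l, k} := fun r hr => by
    have g2 := (g1 S).1 l k (hl l lJ lK k kK)
    have cm : ∀ y ∈ S.X l, ∀ w ∈ S.X k, y * w = w * y := fun y hy w hw =>
      S.cm2 l k (hl l lJ lK k kK) y (mem_sup_left hy) w (mem_sup_left hw)
    obtain ⟨u, hu, r', hr', e⟩ := sup_nm ((sup_le (XU l) (XU k)).trans ((UP _).trans (PQ _)))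
      (g2.ge (QU _ hr))
    obtain ⟨y, hy, w, hw, rfl⟩ := sup_nm (fun y hy => centralizer_le_normalizer _
      fun w hw => (cm y hy w hw).symm) hu
    have w1 : w = 1 := mem_bot.1 ((hX k).2.1 ▸ ⟨hw, (mul_mem_cancel_left
      (hXQ {k} l (by simpa using lk) hy)).1 ((mul_mem_cancel_right
        (anti {k} {l, k} (by simp) hr')).1 (e ▸ anti {k} K (by simpa using kK) hr))⟩)
    exact ⟨y, hy, by rw [e, w1, mul_one]; exact nm (PQ _ (UP _ (XU l hy))) hr'⟩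
  obtain ⟨y, hy, h1⟩ := sp r hr
  obtain ⟨z, hz, h2⟩ := sp s hs'
  have ca : ∀ y ∈ S.X l, Commute y a := fun y hy => mem_centralizer_singleton_iff.1
    ((sup_le (fun w hw => mem_centralizer_singleton_iff.2 (S.cm2 l i (hl l lJ lK i iK) y
      (mem_sup_left hy) w (mem_sup_left hw)).symm) (fun w hw => mem_centralizer_singleton_iff.2
        (S.cm2 l k (hl l lJ lK k kK) y (mem_sup_left hy) w (mem_sup_left hw)).symm) :
      _ ≤ centralizer {y}) ha) |>.symm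
  have cb : ∀ y ∈ S.X l, Commute y b := fun y hy =>
    S.cm2 l k (hl l lJ lK k kK) y (mem_sup_left hy) b hb
  refine anti {l} {l, k} (by simp) (key {l, k} y z (by simp) (XU l hy) (XU l hz) h1 h2 (ca y hy)
    (cb y hy) (ca z hz) (cb z hz) ?_)
  by_cases y1 : y = 1
  · exact y1 ▸ .one_left _
  rcases two_el (q2 l lJ) hy y1 hz with rfl | rfl
  exacts [.one_right _, .refl _]

end Cfsg.Agent.H74.Cks.H69
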