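import Cfsg.Agent.H50.E83Defs

/-! Elements of order `11` of `E₈(3)` and the stabiliser of their label in the Weyl group. -/

set_option autoImplicit false
set_option maxRecDepth 200000

namespace Cfsg.Agent.H69.E83C11

open Equiv Cfsg.Lie H37 H40 H34 H29 Cfsg.Agent.H50.E83

theorem c11 (ss : SsStmt) (ng : NegStmt) : C11Stmt := by
  intro g ζ hζ h11 h1
  obtain ⟨h, f, hf, hc, w, hw, e⟩ := ss g 11 ζ (by decide) hζ h11
  obtain ⟨w0, -, e0⟩ := ng
  have hn : ∀ r, f (C8.R.neg r) = -f r := fun r => by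
    rw [hf.1 r, hf.1 (C8.R.neg r), ← Finset.sum_neg_distrib]
    exact Finset.sum_congr rfl fun j _ => by rw [C8.R.rc_neg]; simp
  obtain ⟨u, hu, _, h7, -, h8⟩ := alc_rat (w := w * w * w0) (k := 2) tabOKE8 tabN8 (by decide) hf.1
    (fun r => by
      rw [Perm.mul_apply, Perm.mul_apply, e, e, e0, hn, Int.cast_neg, ← mul_assoc, mul_neg,
        ← neg_mul]
      rfl)
    (fun e1 => h1 (ι_injective (by
      rw [(hf.eq_one_iff hζ).2 e1, isConj_one_right] at hc
      rw [hc, map_one]))) (by decide) _ thE8 alc8_11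
  obtain rfl := List.mem_singleton.1 h7
  obtain ⟨n, hn, rfl⟩ := P8.exists_lift hu
  refine ⟨n⁻¹ * h * n, (isConj_iff.2 ⟨n, by group⟩).trans hc,
    (hf.conj hn).congr hζ (isAdd_vN C8 _) (h8.vN_eq (hf.conj hn).1)⟩

theorem srch11 : srch cn8 tn8 11 1 [1, 1, 0, 0, 0, 0, 1, 1] (fun M => polyOK 13
    [[1, 0, 0, 0, 0, 0, 0, 0], [0, 1, 0, 0, 0, 0, 0, 0], [0, 0, 0, 0, 0, 0, 1, 0],
      [0, 0, 0, 0, 0, 0, 0, 1]] M (ordP 13 0)) = true := by decide +kernel

theorem st11 : St11Stmt := by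
  intro w hw h r i hi
  have h5 := srch_spec tabOKE8 tabN8 (by decide) hw rfl (rp_vN C8 11 _) (isAdd_vN C8 _)
    (fun r => (h r).trans (by simp [f11])) srch11
  have h6 := polyOK_spec tabOKE8 tabN8 (by decide) hw h5
    (a := (List.range chevE8.rank).map fun j : ℕ => if j = i then 1 else 0) (by
      revert i; decide +kernel) (by simp) (rp_unit i) (isAdd_rc i) r
  rw [pev_ordP (by decide), sub_eq_zero, zero_add, pow_one] at h6
  have h3 : ∀ r < 240, ∀ j < 8, |gt rcE8 r j| ≤ 6 := by decide +kernel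
  have h4 : ∀ r : Rt, |C8.R.rc r i| ≤ 6 := fun r => by
    rw [rc_eq C8 tabOKE8]
    exact h3 r r.2 i i.2
  have h1 := abs_le.1 (h4 r)
  have h2 := abs_le.1 (h4 (w r))
  exact (sub_eq_zero.1 (Int.eq_zero_of_abs_lt_dvd ((ZMod.intCast_eq_intCast_iff_dvd_sub _ _ _).1 h6)
    (abs_lt.2 ⟨by omega, by omega⟩))).symm

end Cfsg.Agent.H69.E83C11
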