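import Cfsg.Agent.H78.G40A

/-! Project L40G (S3140), piece ODDI. -/

set_option autoImplicit false

namespace Cfsg.Agent.H69.G40OddI

open Subgroup Cfsg.Agent.H78.G40 Cfsg.Agent.H46.L40

universe u

local notation "C[" A "]" => Subgroup.centralizer (SetLike.coe A)
local notation "N[" A "]" => Subgroup.normalizer (SetLike.coe A)

section
variable {G : Type u} [Group G]

theorem sqrt {I : Subgroup G} (hI : Odd (Nat.card I)) {p : G} (hp : p ∈ I) :
    ∃ k : ℕ, p ^ k * p ^ k = p := by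
  obtain ⟨k, hk⟩ := hI
  have h : p ^ (2 * k + 1) = 1 := by
    rw [← hk]
    exact congrArg Subtype.val (pow_card_eq_one' (x := (⟨p, hp⟩ : I)))
  refine ⟨k + 1, ?_⟩
  rw [← pow_add, show k + 1 + (k + 1) = 2 * k + 1 + 1 by ring, pow_succ, h, one_mul]

theorem eq_one_of_sq {I : Subgroup G} (hI : Odd (Nat.card I)) {p : G} (hp : p ∈ I)
    (h : p * p = 1) : p = 1 := by
  obtain ⟨k, hk⟩ := sqrt hI hp
  rw [← hk, ← Commute.mul_pow rfl, h, one_pow]

theorem inv_pow_of {g p : G} (h : g * p * g⁻¹ = p⁻¹) (k : ℕ) : g * p ^ k * g⁻¹ = (p ^ k)⁻¹ := by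
  rw [← conj_pow, h, inv_pow]

/-- a four-group acting on a group of odd order -/
theorem cent {I : Subgroup G} (hI : Odd (Nat.card I)) {τ v : G} (ττ : τ * τ = 1) (vv : v * v = 1)
    (c : τ * v = v * τ) (hτ : τ ∈ N[I]) (hv : v ∈ N[I])
    (h1 : ∀ x ∈ I, x * τ = τ * x → x * v = v * x)
    (h2 : ∀ x ∈ I, x * (v * τ) = v * τ * x → x * v = v * x) : v ∈ C[I] := by
  have τi : τ⁻¹ = τ := inv_eq_of_mul_eq_one_right ττ
  have vi : v⁻¹ = v := inv_eq_of_mul_eq_one_right vv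
  have key : ∀ y ∈ I, v * y * v⁻¹ = y⁻¹ → y = 1 := by
    intro y hy hvy
    obtain ⟨y', hy'e⟩ : ∃ y', y' = τ * y * τ⁻¹ := ⟨_, rfl⟩
    have hy' : y' ∈ I := hy'e ▸ (mem_normalizer_iff.1 hτ y).1 hy
    have e1 : τ * y' * τ⁻¹ = y := by
      rw [hy'e, τi]
      calc τ * (τ * y * τ) * τ = τ * τ * y * (τ * τ) := by group
        _ = y := by rw [ττ]; group
    have e2 : v * y' * v⁻¹ = y'⁻¹ := by
      rw [hy'e]
      calc v * (τ * y * τ⁻¹) * v⁻¹ = (v * τ) * y * (v * τ)⁻¹ := by group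
        _ = τ * (v * y * v⁻¹) * τ⁻¹ := by rw [← c]; group
        _ = _ := by rw [hvy]; group
    have hp : y * y'⁻¹ ∈ I := I.mul_mem hy (I.inv_mem hy')
    obtain ⟨k, hk⟩ := sqrt hI hp
    have e3 : τ * (y * y'⁻¹) * τ⁻¹ = (y * y'⁻¹)⁻¹ := by
      calc τ * (y * y'⁻¹) * τ⁻¹ = (τ * y * τ⁻¹) * (τ * y' * τ⁻¹)⁻¹ := by group
        _ = _ := by rw [e1, ← hy'e]; group
    have e4 : (y' * v) * (y * y'⁻¹) * (y' * v)⁻¹ = (y * y'⁻¹)⁻¹ := by
      calc (y' * v) * (y * y'⁻¹) * (y' * v)⁻¹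
          = y' * (v * y * v⁻¹) * (v * y' * v⁻¹)⁻¹ * y'⁻¹ := by group
        _ = _ := by rw [hvy, e2]; group
    have e5 := inv_pow_of e3 k
    have e6 := inv_pow_of e4 k
    have hs : (y * y'⁻¹) ^ k ∈ I := I.pow_mem hp k
    generalize (y * y'⁻¹) ^ k = s at hk e5 e6 hs
    have ey : y = s * s * y' := by rw [hk]; group
    have hu : s * y' ∈ I := I.mul_mem hs hy'
    have e7 : s * y' * v = v * (s * y') := h1 _ hu (by
      calc s * y' * τ = s⁻¹ * (s * s * y') * τ := by group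
        _ = (τ * s * τ⁻¹) * (τ * y' * τ⁻¹) * τ := by rw [← ey, e5, e1]
        _ = _ := by group)
    have e8 : s * y' = 1 := eq_one_of_sq hI hu (by
      calc s * y' * (s * y') = s * y' * v⁻¹ * (v * (s * y')) := by group
        _ = s * y' * v * (s * y' * v) := by rw [← e7, vi]
        _ = s * ((y' * v) * s * (y' * v)⁻¹) * y' * (v * y' * v⁻¹) * (v * v) := by group
        _ = 1 := by rw [e6, e2, vv]; group)
    have e9 : y' = y⁻¹ := by
      rw [ey, mul_assoc, e8, mul_one]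
      exact eq_inv_of_mul_eq_one_right e8
    have e10 : y * v = v * y := h2 y hy (by
      calc y * (v * τ) = y⁻¹⁻¹ * (v * τ) := by group
        _ = v * y⁻¹ * τ := by rw [← hvy]; rw [hvy]; nth_rewrite 1 [← hvy]; group
        _ = v * (τ * y * τ⁻¹) * τ := by rw [← hy'e, e9]
        _ = _ := by group)
    refine eq_one_of_sq hI hy ?_
    calc y * y = y * v * v⁻¹ * y := by group
      _ = 1 := by rw [e10, hvy]; group
  rw [mem_centralizer_iff]
  intro x hx
  have hx' : v * x * v⁻¹ ∈ I := (mem_normalizer_iff.1 hv x).1 hx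
  have := key (x⁻¹ * (v * x * v⁻¹)) (I.mul_mem (I.inv_mem hx) hx') (by
    calc v * (x⁻¹ * (v * x * v⁻¹)) * v⁻¹ = v * x⁻¹ * v * x * (v * v)⁻¹ := by group
      _ = v * x⁻¹ * v⁻¹ * x := by rw [vv, vi]; group
      _ = _ := by group)
  calc x * v = x * (x⁻¹ * (v * x * v⁻¹)) * v := by rw [this]; group
    _ = v * x := by group

theorem step {R F I : Subgroup G} {t : G} (fn : Fn R t F) (hF : I ≤ F) (hI : Odd (Nat.card I))
    (hP : I ⊓ PP R ≤ C[R]) {r v : G} (hr : r ∈ R) (hv : v ∈ R) (ττ : r * t * (r * t) = 1)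
    (vv : v * v = 1) (c : r * t * v = v * (r * t)) (hτ : r * t ∈ N[I]) (hvN : v ∈ N[I]) :
    v ∈ C[I] := by
  refine cent hI ττ vv c hτ hvN (fun x hx h => ?_) fun x hx h => ?_
  · exact (mem_centralizer_iff.1 (hP ⟨hx, fn.ct r hr ττ x (hF hx) h⟩) v hv).symm
  · refine (mem_centralizer_iff.1 (hP ⟨hx, fn.ct (v * r) (R.mul_mem hv hr) ?_ x (hF hx) ?_⟩)
      v hv).symm
    · calc v * r * t * (v * r * t) = v * (r * t * v) * (r * t) := by group
        _ = v * v * (r * t * (r * t)) := by rw [c]; group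
        _ = 1 := by rw [vv, ττ, one_mul]
    · rw [mul_assoc v r t]; exact h

end

theorem oddI : OddIS.{u} := by
  intro G _ _ S I hF hI ht hw hn hs hV hP
  have hφ : ∀ m, S.φ m ∈ S.R := fun m => subset_closure (Or.inl ⟨m, rfl⟩)
  have hsR : S.s ∈ S.R := subset_closure (Or.inr rfl)
  have hC : ∀ m ∈ V0, S.φ m ∈ C[I] := fun m hm => mem_centralizer_iff.2 fun x hx =>
    (mem_centralizer_iff.1 (hV hx) _ ⟨m, hm, rfl⟩).symm
  have ha : S.φ a0 ∈ C[I] := hC _ (subset_closure (by simp))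
  have hz : S.φ z0 ∈ C[I] := hC _ (subset_closure (by simp))
  have haN : S.φ a0 ∈ N[I] := centralizer_le_normalizer _ ha
  have hzN : S.φ z0 ∈ N[I] := centralizer_le_normalizer _ hz
  have h1 : ∀ m c : S3, m * c * (m * c) = 1 → S.φ m ∈ N[I] → S.φ c ∈ C[I] → S.φ m ∈ C[I] := by
    intro m c h hm hc
    have := step S.fn hF hI hP S.R.one_mem (hφ (m * c)) (by rw [one_mul, S.rl.tt])
      (by rw [← map_mul, h, map_one]) (by rw [one_mul, S.rl.tL]) (by rwa [one_mul])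
      (by rw [map_mul]; exact mul_mem hm (centralizer_le_normalizer _ hc))
    rw [map_mul] at this
    exact (mul_mem_cancel_right hc).1 this
  refine ⟨h1 w0 a0 (by decide) hw ha, h1 n23 z0 (by decide) hn hz, ?_⟩
  have aa : S.φ a0 * S.φ a0 = 1 := by rw [← map_mul, show a0 * a0 = 1 by decide, map_one]
  have ta := S.rl.tL a0
  have := step S.fn hF hI hP (hφ a0) (S.R.mul_mem hsR (hφ a0)) (by
      calc S.φ a0 * S.t * (S.φ a0 * S.t) = S.φ a0 * (S.t * S.φ a0) * S.t := by group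
        _ = S.φ a0 * S.φ a0 * (S.t * S.t) := by rw [ta]; group
        _ = 1 := by rw [aa, S.rl.tt, one_mul])
    (by
      calc S.s * S.φ a0 * (S.s * S.φ a0) = S.s * S.φ a0 * S.s⁻¹ * (S.s * S.s) * S.φ a0 := by group
        _ = 1 := by
          rw [S.rl.sa, S.rl.ss, ← map_mul, ← map_mul, show a0 * z0 * z0 * a0 = 1 by decide, map_one])
    (by
      calc S.φ a0 * S.t * (S.s * S.φ a0) = S.t * S.φ a0 * S.φ2 w0 * S.φ a0 := by rw [ta]; group
        _ = S.s * (S.t * S.φ a0) * S.φ a0 := by rw [S.ta]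
        _ = S.s * S.φ a0 * (S.t * S.φ a0) := by rw [ta]; nth_rewrite 2 [← ta]; group
        _ = _ := by rw [ta])
    (mul_mem haN ht) (mul_mem hs haN)
  exact (mul_mem_cancel_right ha).1 this

end Cfsg.Agent.H69.G40OddI
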