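import Mathlib
import Cfsg.Agent.H76.K0Defs
import Cfsg.Agent.H19.GaloisBlock

/-! Three characters of height zero in the principal block force a Sylow subgroup of order three. -/

set_option autoImplicit false

namespace Cfsg.Agent.H69.K0Fw3

open Cfsg Cfsg.Agent.H76.K0

universe u

theorem sign_ex (d : ℕ) (h : ¬ 3 ∣ d) : ∃ b : ℤ, (b = 1 ∨ b = -1) ∧ (3 : ℤ) ∣ b - 1 * d := by
  rcases (by omega : d % 3 = 1 ∨ d % 3 = 2) with h1 | h1
  · exact ⟨1, Or.inl rfl, by omega⟩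
  · exact ⟨-1, Or.inr rfl, by omega⟩

theorem arith (d e : ℕ) (b c : ℤ) (hb : b = 1 ∨ b = -1) (hc : c = 1 ∨ c = -1)
    (h1 : (3 : ℤ) ∣ b - 1 * d) (h2 : (3 : ℤ) ∣ c - 1 * e)
    (h : 1 + b * d + c * e = 0 ∨ 1 + b * d + c * e = 3) : ¬ 3 ^ 2 ∣ 1 + (d ^ 2 + e ^ 2) := by
  intro h9
  rcases hb with rfl | rfl <;> rcases hc with rfl | rfl
  · have hd : d = 1 := by omega
    have he : e = 1 := by omega
    subst hd he
    norm_num at h9
  · obtain ⟨k, rfl⟩ : ∃ k, e = 3 * k + 2 := ⟨e / 3, by omega⟩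
    rcases h with h | h
    · have hd : d = 3 * k + 1 := by omega
      subst hd
      have : 1 + ((3 * k + 1) ^ 2 + (3 * k + 2) ^ 2) = 9 * (2 * k ^ 2 + 2 * k) + 6 := by ring
      rw [this] at h9
      omega
    · have hd : d = 3 * k + 4 := by omega
      subst hd
      have : 1 + ((3 * k + 4) ^ 2 + (3 * k + 2) ^ 2) = 9 * (2 * k ^ 2 + 4 * k + 2) + 3 := by ring
      rw [this] at h9
      omega
  · obtain ⟨k, rfl⟩ : ∃ k, d = 3 * k + 2 := ⟨d / 3, by omega⟩
    rcases h with h | h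
    · have hd : e = 3 * k + 1 := by omega
      subst hd
      have : 1 + ((3 * k + 2) ^ 2 + (3 * k + 1) ^ 2) = 9 * (2 * k ^ 2 + 2 * k) + 6 := by ring
      rw [this] at h9
      omega
    · have hd : e = 3 * k + 4 := by omega
      subst hd
      have : 1 + ((3 * k + 2) ^ 2 + (3 * k + 4) ^ 2) = 9 * (2 * k ^ 2 + 4 * k + 2) + 3 := by ring
      rw [this] at h9
      omega
  · omega

theorem fw3 (r0 : R0Stmt.{u}) (tri : TriStmt.{u}) (ar : ArStmt) : Fw3Stmt.{u} := by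
  intro G _ _ p hp M hM P h3
  classical
  obtain ⟨hA, hB, hC, hD⟩ := r0 G p M hM P
  have hpP : p ∣ Nat.card P := by
    by_contra h
    have := hD h
    omega
  haveI : Finite (Ht0 p M G) := Nat.finite_of_card_ne_zero (by omega)
  letI := Fintype.ofFinite (Ht0 p M G)
  let o : Ht0 p M G := ⟨H19.oneIrr G, H19.oneIrr_mem_principalBlock hM.2.1, by
    rw [H19.oneIrr_coe, H19.charDegree_const_one]
    exact hp.out.one_lt.ne' ∘ Nat.dvd_one.1⟩
  have hcard : (Finset.univ.erase o).card = 2 := by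
    rw [Finset.card_erase_of_mem (Finset.mem_univ o), Finset.card_univ, ← Nat.card_eq_fintype_card, h3]
  obtain ⟨χ, ψ, hne, hs⟩ := Finset.card_eq_two.1 hcard
  have hχ : χ ≠ o := (Finset.mem_erase.1 (hs ▸ Finset.mem_insert_self χ {ψ})).1
  have hψ : ψ ≠ o :=
    (Finset.mem_erase.1 (hs ▸ Finset.mem_insert_of_mem (Finset.mem_singleton_self ψ))).1
  have hsum : ∀ {A : Type} [AddCommMonoid A] (f : Ht0 p M G → A), ∑ᶠ x, f x = f o + (f χ + f ψ) := by
    intro A _ f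
    rw [finsum_eq_sum_of_fintype, ← Finset.add_sum_erase _ f (Finset.mem_univ o), hs,
      Finset.sum_pair hne]
  have ho : charDegree (o.1 : G → ℂ) = 1 := H19.charDegree_const_one
  have ho1 : ∀ g, (o.1 : G → ℂ) g = 1 := fun _ => rfl
  rw [hsum, ho, one_pow] at hB hC
  set d := charDegree (χ.1 : G → ℂ) with hd
  set e := charDegree (ψ.1 : G → ℂ) with he
  have hpd : ¬ p ∣ d := χ.2.2
  have hpe : ¬ p ∣ e := ψ.2.2
  have hp0 : (p : ℂ) ≠ 0 := by exact_mod_cast hp.out.ne_zero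
  have key : ∀ a b c : ℤ, (p : ℤ) ∣ b - a * d → (p : ℤ) ∣ c - a * e → ∀ g,
      IsIntegral ℤ (((a : ℂ) + b * (χ.1 : G → ℂ) g + c * (ψ.1 : G → ℂ) g) / p) := by
    intro a b c ⟨s, hs⟩ ⟨t, ht⟩ g
    obtain ⟨α, hα, h⟩ := hA hpP g
    rw [hsum, ho, ho1] at h
    have hb : (b : ℂ) = a * d + p * s := by
      have : b = a * d + p * s := by linarith
      exact_mod_cast congrArg (Int.cast : ℤ → ℂ) this
    have hc : (c : ℂ) = a * e + p * t := by
      have : c = a * e + p * t := by linarith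
      exact_mod_cast congrArg (Int.cast : ℤ → ℂ) this
    have : ((a : ℂ) + b * (χ.1 : G → ℂ) g + c * (ψ.1 : G → ℂ) g) / p
        = a * α + s * (χ.1 : G → ℂ) g + t * (ψ.1 : G → ℂ) g := by
      rw [div_eq_iff hp0, hb, hc]
      push_cast at h
      linear_combination (a : ℂ) * h
    rw [this]
    have hi : ∀ z : ℤ, IsIntegral ℤ (z : ℂ) := fun z => isIntegral_algebraMap (x := z)
    exact (((hi a).mul hα).add ((hi s).mul (H19.irr_isIntegral χ.1 g))).add
      ((hi t).mul (H19.irr_isIntegral ψ.1 g))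
  have hne' : χ.1 ≠ ψ.1 := fun h => hne (Subtype.ext h)
  have hχ1 : (χ.1 : G → ℂ) ≠ fun _ => 1 := fun h => hχ (Subtype.ext (Subtype.ext h))
  have hψ1 : (ψ.1 : G → ℂ) ≠ fun _ => 1 := fun h => hψ (Subtype.ext (Subtype.ext h))
  have hT := fun a b c hb hc => tri G χ.1 ψ.1 hne' hχ1 hψ1 p hp.out.pos a b c (key a b c hb hc)
  have h2 : p ≠ 2 := by
    rintro rfl
    have h1 := hB hpP
    obtain ⟨k, hk⟩ : ∃ k, d = 2 * k + 1 := ⟨d / 2, by omega⟩
    obtain ⟨l, hl⟩ : ∃ l, e = 2 * l + 1 := ⟨e / 2, by omega⟩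
    have : 1 + (d ^ 2 + e ^ 2) = 2 * (2 * k ^ 2 + 2 * k + 2 * l ^ 2 + 2 * l + 1) + 1 := by
      rw [hk, hl]; ring
    rw [this] at h1
    omega
  have hp3 : p = 3 := ar p hp.out h2 d e (by exact_mod_cast hpd) (by exact_mod_cast hpe)
    fun a b c hb hc => (hT a b c hb hc).1
  subst hp3
  obtain ⟨b, hb, hb3⟩ := sign_ex d hpd
  obtain ⟨c, hc, hc3⟩ := sign_ex e hpe
  have heq := (hT 1 b c (by exact_mod_cast hb3) (by exact_mod_cast hc3)).2 (by
    rcases hb with rfl | rfl <;> rcases hc with rfl | rfl <;> norm_num)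
  have h9 := arith d e b c hb hc hb3 hc3 (by exact_mod_cast heq)
  obtain ⟨j, hj⟩ := IsPGroup.iff_card.1 P.isPGroup'
  rcases j with _ | _ | j
  · rw [hj] at hpP
    norm_num at hpP
  · rw [hj]; norm_num
  · exact absurd (hC (by rw [hj]; exact pow_dvd_pow 3 (by omega))) h9

end Cfsg.Agent.H69.K0Fw3
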