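import Mathlib
import Cfsg.Agent.H76.K4Defs

/-! Arithmetic of the lattice bound for a sum of four squares `1 + x² + y² + z²`. -/

set_option autoImplicit false

namespace Cfsg.Agent.H69.K4Ar

def K (x y z : ℤ) : Prop := ∀ u v w : ℤ,
  (u * x + v * y + w * z) ^ 2 + (u * x + v * y + w * z) ≤ (1 + x ^ 2 + y ^ 2 + z ^ 2) * (u ^ 2 + v ^ 2 + w ^ 2)

theorem key (q x y z : ℤ) (hq : q = 1 + x ^ 2 + y ^ 2 + z ^ 2)
    (H : ∀ a b c d : ℤ, q ∣ b - a * x → q ∣ c - a * y → q ∣ d - a * z →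
      q * a ≤ a ^ 2 + b ^ 2 + c ^ 2 + d ^ 2) : K x y z := by
  intro u v w
  have hpos : 0 < q := by rw [hq]; positivity
  have h := H (u * x + v * y + w * z) ((u * x + v * y + w * z) * x - q * u)
    ((u * x + v * y + w * z) * y - q * v) ((u * x + v * y + w * z) * z - q * w)
    ⟨-u, by ring⟩ ⟨-v, by ring⟩ ⟨-w, by ring⟩
  have e : (u * x + v * y + w * z) ^ 2 + ((u * x + v * y + w * z) * x - q * u) ^ 2
      + ((u * x + v * y + w * z) * y - q * v) ^ 2 + ((u * x + v * y + w * z) * z - q * w) ^ 2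
      = q * (q * (u ^ 2 + v ^ 2 + w ^ 2) - (u * x + v * y + w * z) ^ 2) := by
    rw [hq]; ring
  rw [e] at h
  have := le_of_mul_le_mul_left h hpos
  rw [← hq]
  linarith

theorem step {x y z : ℤ} (h : K x y z) (n k a b c u v w : ℤ) (h1 : n * u = k * x + a)
    (h2 : n * v = k * y + b) (h3 : n * w = k * z + c) :
    4 * ((n * k - k ^ 2 - (a ^ 2 + b ^ 2 + c ^ 2)) * (x ^ 2 + y ^ 2 + z ^ 2))
      ≤ 4 * (a ^ 2 + b ^ 2 + c ^ 2) + (n - 2 * k) ^ 2 := by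
  obtain rfl : a = n * u - k * x := by linarith
  obtain rfl : b = n * v - k * y := by linarith
  obtain rfl : c = n * w - k * z := by linarith
  have h0 := mul_nonneg (sq_nonneg n) (sub_nonneg.2 (h u v w))
  have h4 := sq_nonneg (2 * ((n * u - k * x) * x + (n * v - k * y) * y + (n * w - k * z) * z)
    + (n - 2 * k))
  nlinarith [h0, h4]

theorem odd4 (x : ℤ) (hx : x % 2 = 1) : ∃ u a : ℤ, 4 * u = 1 * x + a ∧ a ^ 2 = 1 := by
  rcases (by omega : x % 4 = 1 ∨ x % 4 = 3) with h | h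
  · exact ⟨x / 4, -1, by omega, by norm_num⟩
  · exact ⟨x / 4 + 1, 1, by omega, by norm_num⟩

theorem odd8 (x : ℤ) (hx : x % 2 = 1) :
    ((∃ u a : ℤ, 8 * u = 1 * x + a ∧ a ^ 2 = 1) ∧ (∃ u a : ℤ, 8 * u = 3 * x + a ∧ a ^ 2 = 9)) ∨
      (∃ u a : ℤ, 8 * u = 3 * x + a ∧ a ^ 2 = 1) := by
  rcases (by omega : x % 8 = 1 ∨ x % 8 = 3 ∨ x % 8 = 5 ∨ x % 8 = 7) with h | h | h | h
  · exact Or.inl ⟨⟨x / 8, -1, by omega, by norm_num⟩, ⟨3 * (x / 8), -3, by omega, by norm_num⟩⟩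
  · exact Or.inr ⟨3 * (x / 8) + 1, -1, by omega, by norm_num⟩
  · exact Or.inr ⟨3 * (x / 8) + 2, 1, by omega, by norm_num⟩
  · exact Or.inl ⟨⟨x / 8 + 1, 1, by omega, by norm_num⟩, ⟨3 * (x / 8) + 3, 3, by omega, by norm_num⟩⟩

theorem two8 (z : ℤ) (hz : z % 4 = 2) :
    (∃ u a : ℤ, 8 * u = 1 * z + a ∧ a ^ 2 = 4) ∧ (∃ u a : ℤ, 8 * u = 3 * z + a ∧ a ^ 2 = 4) := by
  rcases (by omega : z % 8 = 2 ∨ z % 8 = 6) with h | h
  · exact ⟨⟨z / 8, -2, by omega, by norm_num⟩, ⟨3 * (z / 8) + 1, 2, by omega, by norm_num⟩⟩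
  · exact ⟨⟨z / 8 + 1, 2, by omega, by norm_num⟩, ⟨3 * (z / 8) + 2, -2, by omega, by norm_num⟩⟩

theorem two_odd {x y z : ℤ} (h : K x y z) (hx : x % 2 = 1) (hy : y % 2 = 1) (hz : z % 2 = 0) :
    x ^ 2 + y ^ 2 + z ^ 2 ≤ 3 ∨ (z ^ 2 % 8 = 4 ∧ x ^ 2 + y ^ 2 + z ^ 2 ≤ 15) := by
  have hW : 0 ≤ x ^ 2 + y ^ 2 + z ^ 2 := by positivity
  rcases (by omega : z % 4 = 0 ∨ z % 4 = 2) with h4 | h4
  · obtain ⟨u, a, h1, ha⟩ := odd4 x hx
    obtain ⟨v, b, h2, hb⟩ := odd4 y hy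
    have := step h 4 1 a b 0 u v (z / 4) h1 h2 (by omega)
    rw [ha, hb] at this
    left
    linarith
  · refine Or.inr ⟨?_, ?_⟩
    · obtain ⟨k, rfl⟩ : ∃ k, z = 4 * k + 2 := ⟨z / 4, by omega⟩
      have : (4 * k + 2) ^ 2 = 8 * (2 * k ^ 2 + 2 * k) + 4 := by ring
      omega
    obtain ⟨⟨w, c, h3, hc⟩, ⟨w', c', h3', hc'⟩⟩ := two8 z h4
    rcases odd8 x hx with ⟨⟨u, a, h1, ha⟩, ⟨u', a', h1', ha'⟩⟩ | ⟨u', a', h1', ha'⟩ <;>
    rcases odd8 y hy with ⟨⟨v, b, h2, hb⟩, ⟨v', b', h2', hb'⟩⟩ | ⟨v', b', h2', hb'⟩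
    · have := step h 8 1 a b c u v w h1 h2 h3
      rw [ha, hb, hc] at this
      linarith
    all_goals
      have := step h 8 3 a' b' c' u' v' w' h1' h2' h3'
      rw [ha', hb', hc'] at this
      linarith

theorem all_even {x y z : ℤ} (h : K x y z) (hx : x % 2 = 0) (hy : y % 2 = 0) (hz : z % 2 = 0) :
    x ^ 2 + y ^ 2 + z ^ 2 ≤ 0 := by
  have := step h 2 1 0 0 0 (x / 2) (y / 2) (z / 2) (by omega) (by omega) (by omega)
  linarith

theorem sq_mod (x : ℤ) : (x % 2 = 0 ∧ x ^ 2 % 4 = 0) ∨ (x % 2 = 1 ∧ x ^ 2 % 8 = 1) := by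
  rcases (by omega : x % 2 = 0 ∨ x % 4 = 1 ∨ x % 4 = 3) with h | h | h
  · obtain ⟨k, rfl⟩ : ∃ k, x = 2 * k := ⟨x / 2, by omega⟩
    have : (2 * k) ^ 2 = 4 * k ^ 2 := by ring
    omega
  · obtain ⟨k, rfl⟩ : ∃ k, x = 4 * k + 1 := ⟨x / 4, by omega⟩
    have : (4 * k + 1) ^ 2 = 8 * (2 * k ^ 2 + k) + 1 := by ring
    omega
  · obtain ⟨k, rfl⟩ : ∃ k, x = 4 * k + 3 := ⟨x / 4, by omega⟩
    have : (4 * k + 3) ^ 2 = 8 * (2 * k ^ 2 + 3 * k + 1) + 1 := by ring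
    omega

/-- Odd modulus: `q ∈ {1, 3, 7, 15}`; even modulus: `q ≡ 2 mod 4` or `q ≡ 4 mod 8`. -/
theorem arK (q x y z : ℤ) (hq : q = 1 + x ^ 2 + y ^ 2 + z ^ 2) (h : K x y z) :
    q = 1 ∨ q = 3 ∨ q = 7 ∨ q = 15 ∨ q % 4 = 2 ∨ q % 8 = 4 := by
  have h' : K x z y := fun u v w => by have := h u w v; linarith
  have h'' : K y z x := fun u v w => by have := h w u v; linarith
  have := sq_nonneg x
  have := sq_nonneg y
  have := sq_nonneg z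
  rcases sq_mod x with ⟨hx, hx2⟩ | ⟨hx, hx2⟩ <;> rcases sq_mod y with ⟨hy, hy2⟩ | ⟨hy, hy2⟩ <;>
    rcases sq_mod z with ⟨hz, hz2⟩ | ⟨hz, hz2⟩
  · have := all_even h hx hy hz
    omega
  · omega
  · omega
  · have := two_odd h'' hy hz hx
    omega
  · omega
  · have := two_odd h' hx hz hy
    omega
  · have := two_odd h hx hy hz
    omega
  · omega

/-- Prime power modulus. -/
theorem ar_pow (p n : ℕ) (hp : p.Prime) (x y z : ℤ) (hq : ((p ^ n : ℕ) : ℤ) = 1 + x ^ 2 + y ^ 2 + z ^ 2)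
    (H : K x y z) : p ^ n = 1 ∨ p ^ n = 2 ∨ p ^ n = 3 ∨ p ^ n = 4 ∨ p ^ n = 7 := by
  have h := arK _ x y z hq H
  have two : 2 ∣ p ^ n → p = 2 := fun h =>
    ((Nat.prime_dvd_prime_iff_eq Nat.prime_two hp).1 (Nat.prime_two.dvd_of_dvd_pow h)).symm
  have h15 : p ^ n ≠ 15 := by
    intro h
    have h3 : 3 = p := (Nat.prime_dvd_prime_iff_eq Nat.prime_three hp).1
      (Nat.prime_three.dvd_of_dvd_pow (h ▸ (by norm_num : 3 ∣ 15)))
    have h5 : 5 = p := (Nat.prime_dvd_prime_iff_eq Nat.prime_five hp).1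
      (Nat.prime_five.dvd_of_dvd_pow (h ▸ (by norm_num : 5 ∣ 15)))
    omega
  by_cases h2 : 2 ∣ p ^ n
  · have := two h2
    subst this
    rcases n with _ | _ | _ | n
    · norm_num
    · norm_num
    · norm_num
    · have : 2 ^ (n + 1 + 1 + 1) = 8 * 2 ^ n := by ring
      omega
  · omega

theorem ar4 : Cfsg.Agent.H76.K4.Ar4Stmt := by
  rintro p n hp ⟨x, y, z, mx, my, mz, hq, hm, H, -⟩
  have hK : K x y z := fun u v w => by
    have := H u v w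
    rw [hq] at this
    linarith
  rcases ar_pow p n hp x y z hq hK with h | h
  · rw [h] at hq
    have hx : x = 0 := by push_cast at hq; nlinarith [sq_nonneg x, sq_nonneg y, sq_nonneg z]
    have hy : y = 0 := by push_cast at hq; nlinarith [sq_nonneg x, sq_nonneg y, sq_nonneg z]
    have hz : z = 0 := by push_cast at hq; nlinarith [sq_nonneg x, sq_nonneg y, sq_nonneg z]
    subst hx hy hz
    norm_num at hm
  · exact h

end Cfsg.Agent.H69.K4Ar
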