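import Mathlib
import Cfsg.Agent.H44.K5Defs

set_option autoImplicit false

namespace Cfsg.Agent.H69.K5Herm

open Matrix

def ext {n : ℕ} (c : ℤ) (k : Fin n → ℤ) (V : Matrix (Fin n) (Fin n) ℤ) :
    Matrix (Fin (n + 1)) (Fin (n + 1)) ℤ :=
  Matrix.of (Fin.cons (Fin.cons c k) (fun i => Fin.cons 0 (V i)))

theorem ext_det {n : ℕ} (c : ℤ) (k : Fin n → ℤ) (V : Matrix (Fin n) (Fin n) ℤ) :
    (ext c k V).det = c * V.det := by
  rw [det_succ_column_zero, Fin.sum_univ_succ]
  have : (ext c k V).submatrix (Fin.succAbove 0) Fin.succ = V := by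
    ext i j; simp [ext]
  rw [this]
  simp [ext]

theorem entry {n : ℕ} (W B : Matrix (Fin n) (Fin n) ℤ) (i j : Fin n) :
    (Wᵀ * B * W) i j = (fun r => W r i) ⬝ᵥ B *ᵥ (fun r => W r j) := by
  rw [Matrix.mul_assoc, Matrix.mul_apply]
  rfl

def sch {n : ℕ} (B : Matrix (Fin (n + 1)) (Fin (n + 1)) ℤ) : Matrix (Fin n) (Fin n) ℤ :=
  Matrix.of fun i j => B 0 0 * B i.succ j.succ - B 0 i.succ * B 0 j.succ

theorem form {n : ℕ} (B : Matrix (Fin (n + 1)) (Fin (n + 1)) ℤ) (hB : Bᵀ = B) (s t : ℤ)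
    (x y : Fin n → ℤ) :
    B 0 0 * ((Fin.cons s x : Fin (n + 1) → ℤ) ⬝ᵥ B *ᵥ (Fin.cons t y : Fin (n + 1) → ℤ)) =
      (B 0 0 * s + ∑ i, B 0 i.succ * x i) * (B 0 0 * t + ∑ i, B 0 i.succ * y i)
        + x ⬝ᵥ sch B *ᵥ y := by
  have h : ∀ i : Fin n, B i.succ 0 = B 0 i.succ := fun i => congrFun (congrFun hB 0) i.succ
  have e1 : x ⬝ᵥ sch B *ᵥ y = B 0 0 * (∑ i, x i * ∑ j, B i.succ j.succ * y j)
      - (∑ i, B 0 i.succ * x i) * (∑ i, B 0 i.succ * y i) := by
    rw [Finset.mul_sum, Finset.sum_mul, ← Finset.sum_sub_distrib]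
    refine Finset.sum_congr rfl fun i _ => ?_
    simp only [mulVec, dotProduct, sch, of_apply, Finset.mul_sum]
    rw [← Finset.sum_sub_distrib]
    exact Finset.sum_congr rfl fun j _ => by ring
  have e2 : ∑ i, x i * (B 0 i.succ * t + ∑ j, B i.succ j.succ * y j)
      = t * (∑ i, B 0 i.succ * x i) + ∑ i, x i * ∑ j, B i.succ j.succ * y j := by
    rw [Finset.mul_sum, ← Finset.sum_add_distrib]
    exact Finset.sum_congr rfl fun i _ => by ring
  rw [e1]
  simp only [dotProduct, mulVec, Fin.sum_univ_succ, Fin.cons_zero, Fin.cons_succ, h]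
  rw [e2]
  ring

theorem sch_det {n : ℕ} (B : Matrix (Fin (n + 2)) (Fin (n + 2)) ℤ) (hB : Bᵀ = B) (ha : 0 < B 0 0) :
    (sch B).det = B 0 0 ^ n * B.det := by
  have h : ∀ i : Fin (n + 1), B i.succ 0 = B 0 i.succ := fun i => congrFun (congrFun hB 0) i.succ
  have e : (ext 1 (fun j => - B 0 j.succ) (Matrix.diagonal fun _ => B 0 0))ᵀ * B
      = ext (B 0 0) (fun j => B 0 j.succ) (sch B) := by
    ext i j
    rw [Matrix.mul_apply, Fin.sum_univ_succ]
    refine Fin.cases ?_ (fun i => ?_) i <;> refine Fin.cases ?_ (fun j => ?_) j <;>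
      simp [ext, sch, diagonal_apply, h] <;> ring
  have := congrArg det e
  rw [det_mul, det_transpose, ext_det, ext_det, det_diagonal, Finset.prod_const, Finset.card_univ,
    Fintype.card_fin] at this
  apply mul_left_cancel₀ ha.ne'
  rw [← this]; ring

theorem herm : Cfsg.Agent.H44.K5.HermStmt := by
  intro n
  induction n with
  | zero => intro A _ _; exact ⟨1, by simp, by simp⟩
  | succ n ih =>
    intro A hA hpos
    classical
    have hcol : ∀ U : Matrix (Fin (n + 2)) (Fin (n + 2)) ℤ, IsUnit U.det → ∀ x, x ≠ 0 →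
        0 < x ⬝ᵥ (Uᵀ * A * U) *ᵥ x := by
      intro U hU x hx
      have h1 : U *ᵥ x ≠ 0 := fun h => hx (Matrix.eq_zero_of_mulVec_eq_zero hU.ne_zero h)
      have := hpos _ h1
      rwa [← mulVec_mulVec, ← mulVec_mulVec, dotProduct_mulVec, vecMul_transpose]
    have h00 : ∀ U : Matrix (Fin (n + 2)) (Fin (n + 2)) ℤ, IsUnit U.det → 0 < (Uᵀ * A * U) 0 0 := by
      intro U hU
      have := hcol U hU (Pi.single 0 1) (by simp)
      simpa using this
    obtain ⟨a, ⟨U, hU, hUa⟩, hmin⟩ := Int.exists_least_of_bdd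
      (P := fun a => ∃ U : Matrix (Fin (n + 2)) (Fin (n + 2)) ℤ, IsUnit U.det ∧ (Uᵀ * A * U) 0 0 = a)
      ⟨0, fun z ⟨U, hU, h⟩ => h ▸ (h00 U hU).le⟩ ⟨_, 1, by simp, rfl⟩
    refine ⟨U, hU, ?_⟩
    have hdet : (Uᵀ * A * U).det = A.det := by
      rw [det_mul, det_mul, det_transpose]
      rcases Int.isUnit_iff.1 hU with h | h <;> rw [h] <;> ring
    have hmin' : ∀ W : Matrix (Fin (n + 2)) (Fin (n + 2)) ℤ, IsUnit W.det →
        a ≤ (Wᵀ * (Uᵀ * A * U) * W) 0 0 := fun W hW =>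
      hmin _ ⟨U * W, by rw [det_mul]; exact hU.mul hW, by
        rw [transpose_mul]; simp only [Matrix.mul_assoc]⟩
    have hsym : (Uᵀ * A * U)ᵀ = Uᵀ * A * U := by
      rw [transpose_mul, transpose_mul, transpose_transpose, hA, Matrix.mul_assoc]
    have hp := hcol U hU
    have ha := h00 U hU
    rw [← hdet]
    generalize Uᵀ * A * U = B at *
    subst hUa
    have hS : (sch B)ᵀ = sch B := by
      ext i j
      have := congrFun (congrFun hsym i.succ) j.succ
      simp only [transpose_apply, sch, of_apply] at this ⊢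
      rw [this]; ring
    have hSp : ∀ x : Fin (n + 1) → ℤ, x ≠ 0 → 0 < x ⬝ᵥ sch B *ᵥ x := by
      intro x hx
      have f := form B hsym (-∑ i, B 0 i.succ * x i) (-∑ i, B 0 i.succ * x i) (B 0 0 • x) (B 0 0 • x)
      have e : ∑ i, B 0 i.succ * (B 0 0 • x) i = B 0 0 * ∑ i, B 0 i.succ * x i := by
        rw [Finset.mul_sum]; exact Finset.sum_congr rfl fun i _ => by simp; ring
      have hne : (Fin.cons (-∑ i, B 0 i.succ * x i) (B 0 0 • x) : Fin (n + 2) → ℤ) ≠ 0 := by
        intro h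
        apply hx
        funext i
        have := congrFun h i.succ
        simpa [ha.ne'] using this
      have g := mul_pos ha (hp _ hne)
      rw [f, e, mulVec_smul, dotProduct_smul, smul_dotProduct, smul_eq_mul, smul_eq_mul] at g
      by_contra hle
      push Not at hle
      nlinarith [mul_nonneg (mul_pos ha ha).le (neg_nonneg.2 hle)]
    obtain ⟨V, hV, hVb⟩ := ih (sch B) hS hSp
    rw [sch_det B hsym ha] at hVb
    set β := ∑ i, B 0 i.succ * V i 0 with hβ
    set r := (2 * β + B 0 0) / (2 * B 0 0) with hr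
    have hm0 := Int.emod_nonneg (2 * β + B 0 0) (by omega : 2 * B 0 0 ≠ 0)
    have hm1 := Int.emod_lt_of_pos (2 * β + B 0 0) (by omega : 0 < 2 * B 0 0)
    have hm2 := Int.mul_ediv_add_emod (2 * β + B 0 0) (2 * B 0 0)
    have hW := hmin' ((ext 1 (fun _ => -r) V).submatrix id (Equiv.swap 0 1)) (by
      rw [det_permute', ext_det, one_mul]
      exact (Units.isUnit _).mul hV)
    rw [entry] at hW
    have hc : (fun i => ((ext 1 (fun _ => -r) V).submatrix id (Equiv.swap 0 1)) i 0)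
        = (Fin.cons (-r) (fun i => V i 0) : Fin (n + 2) → ℤ) := by
      funext i
      refine Fin.cases ?_ (fun i => ?_) i <;> simp [ext]
    rw [hc] at hW
    have f := form B hsym (-r) (-r) (fun i => V i 0) (fun i => V i 0)
    rw [← entry V (sch B) 0 0, ← hβ] at f
    have h1 := mul_le_mul_of_nonneg_left hW ha.le
    rw [f] at h1
    set s := (Vᵀ * sch B * V) 0 0
    set a := B 0 0
    have h2 : 3 * a ^ 2 ≤ 4 * s := by
      have h3 : -a ≤ 2 * (a * -r + β) := by linarith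
      have h4 : 2 * (a * -r + β) ≤ a := by linarith
      nlinarith [mul_nonneg (sub_nonneg.2 h3) (sub_nonneg.2 h4)]
    have h5 := pow_le_pow_left₀ (by positivity) h2 (n + 1)
    have hm : (n + 1) * (n + 1 + 1) / 2 = n * (n + 1) / 2 + (n + 1) := by
      rw [show (n + 1) * (n + 1 + 1) = n * (n + 1) + (n + 1) * 2 by ring, Nat.add_mul_div_right _ _ two_pos]
    rw [hm]
    generalize n * (n + 1) / 2 = m at *
    apply le_of_mul_le_mul_left _ (pow_pos ha n)
    calc a ^ n * (a ^ (n + 1 + 1) * 3 ^ (m + (n + 1))) = (3 * a ^ 2) ^ (n + 1) * 3 ^ m := by ring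
      _ ≤ (4 * s) ^ (n + 1) * 3 ^ m := mul_le_mul_of_nonneg_right h5 (by positivity)
      _ = 4 ^ (n + 1) * (s ^ (n + 1) * 3 ^ m) := by ring
      _ ≤ 4 ^ (n + 1) * (4 ^ m * (a ^ n * B.det)) := mul_le_mul_of_nonneg_left hVb (by positivity)
      _ = _ := by ring

end Cfsg.Agent.H69.K5Herm
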