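import Cfsg.Agent.H40.L3K2

/-! Project L33, piece PL: the pair lemma.  An element `f` of the second conjugate `F₂` is encoded by
its action `s` on `F / ⟨z⟩` and its character `l` on `F ∩ F₂ = ⟨w, η, ε⟩`. -/

set_option autoImplicit false
set_option linter.unusedSectionVars false

noncomputable section

namespace Cfsg.Agent.H69.L3Pl

open Subgroup Cfsg.Agent.H83 Cfsg.Agent.H40.L3

universe u

abbrev B3 := Bool × Bool × Bool
def ad (s t : B3) : B3 := (s.1 ^^ t.1, s.2.1 ^^ t.2.1, s.2.2 ^^ t.2.2)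
def dt (l v : B3) : Bool := (l.1 && v.1) ^^ ((l.2.1 && v.2.1) ^^ (l.2.2 && v.2.2))
def par (v : B3) : Bool := v.1 ^^ (v.2.1 ^^ v.2.2)
def el (ty : Bool) (v : B3) : M false := bp .W v.1 * bp (.Et ty) v.2.1 * bp (.Ep ty) v.2.2
/-- the two equations given by the squares -/
def R (s l : B3) : Prop := dt l (false, s.2.1, s.2.2) = par (false, s.2.1, s.2.2) ∧
  dt l (s.1, s.2.1, false) = par (s.1, s.2.1, false)
instance (s l : B3) : Decidable (R s l) := inferInstanceAs (Decidable (_ ∧ _))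
def sp (s t : B3) : List B3 := [(false, false, false), s, t, ad s t]
def tr (s1 l1 s2 l2 : B3) : List (B3 × B3) := [(s1, l1), (s2, l2), (ad s1 s2, ad l1 l2)]

def Zc (l1 l2 : B3) : Prop :=
  ∀ v : B3, v ≠ (false, false, false) → par v = false → dt l1 v = true ∨ dt l2 v = true
instance (s l : B3) : Decidable (Zc s l) := by unfold Zc; infer_instance
def Sp (s1 s2 t1 t2 : B3) : Prop := ∀ s ∈ sp s1 s2, s ∈ sp t1 t2
instance (s1 s2 t1 t2 : B3) : Decidable (Sp s1 s2 t1 t2) := by unfold Sp; infer_instance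
def O1 (s1 l1 s2 l2 : B3) : Prop := ∃ k x : Bool,
  ((true, false, false), (true, !k && x, k && x)) ∈ tr s1 l1 s2 l2 ∧
  ((false, k, !k), (false, k || x, !k || x)) ∈ tr s1 l1 s2 l2 ∧ Sp s1 s2 (true, false, false) (false, k, !k)
instance (s1 s2 t1 t2 : B3) : Decidable (O1 s1 s2 t1 t2) := by unfold O1; infer_instance
def O2 (s1 l1 s2 l2 : B3) : Prop := ((false, true, true), (false, true, true)) ∈ tr s1 l1 s2 l2 ∧
  ∃ j x : Bool, ((j, false, true), (j || x, false, true)) ∈ tr s1 l1 s2 l2 ∧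
    Sp s1 s2 (false, true, true) (j, false, true)
instance (s1 s2 t1 t2 : B3) : Decidable (O2 s1 s2 t1 t2) := by unfold O2; infer_instance

set_option synthInstance.maxSize 4096 in
theorem bits : ∀ s1 s2 : B3, s1 ≠ (false, false, false) → s2 ≠ (false, false, false) → s1 ≠ s2 →
    ∀ l1 : B3, R s1 l1 → ∀ l2 : B3, R s2 l2 → R (ad s1 s2) (ad l1 l2) → Zc l1 l2 →
    O1 s1 l1 s2 l2 ∨ O2 s1 l1 s2 l2 := by
  decide +kernel

variable {G : Type u} [Group G]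

/-- if `f² ∈ ⟨z⟩` then `f` inverts its commutators -/
theorem rule1 {D : D2 G false} {f : G} (hz : f * D.ι .Z = D.ι .Z * f)
    (h2 : f * f = 1 ∨ f * f = D.ι .Z) {m c : M false} (h : ez D.ι (f * D.ι m * f⁻¹) (m * c)) :
    f * D.ι c * f⁻¹ = D.ι c⁻¹ := by
  have key : ∀ c' : M false, f * D.ι m * f⁻¹ = D.ι (m * c') → f * D.ι c' * f⁻¹ = D.ι c'⁻¹ :=
    fun c' e => by
    have e1 : f * f * D.ι m * (f * f)⁻¹ = D.ι m := by
      rcases h2 with k | k <;> rw [k]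
      · group
      · rw [← D.zc]; group
    have e2 : f * f * D.ι m * (f * f)⁻¹ = D.ι m * (D.ι c' * (f * D.ι c' * f⁻¹)) := by
      calc _ = f * (f * D.ι m * f⁻¹) * f⁻¹ := by group
        _ = f * (D.ι m * D.ι c') * f⁻¹ := by rw [e, map_mul]
        _ = f * D.ι m * f⁻¹ * (f * D.ι c' * f⁻¹) := by group
        _ = _ := by rw [e, map_mul, mul_assoc]
    rw [e1, left_eq_mul] at e2
    rw [map_inv]; exact eq_inv_of_mul_eq_one_right e2
  rcases h with e | e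
  · exact key c e
  · have := D2.cjm (key (c * .Z) (by rw [e, mul_assoc])) (D2.cj1 hz)
    rw [M.mzz] at this
    rw [this, M.zc false c, mul_inv_rev, inv_mul_cancel_right]

/-- the centre of a conjugate of `F` -/
theorem zc_cj (D : D2 G false) {g x : G} (hg : g * D.ι .Z = D.ι .Z * g) (hx : x ∈ cj g D.F)
    (hc : ∀ y ∈ cj g D.F, y * x = x * y) : x = 1 ∨ x = D.ι .Z ∨ x * x = D.ι .Z := by
  obtain ⟨m, hm, e⟩ := mem_cj.1 hx
  have e' : x = g * D.ι m * g⁻¹ := by rw [e]; group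
  have c : ∀ n ∈ (M.sF : Subgroup (M false)), n * m = m * n := fun n hn => D.comm_iff.1 (by
    have := hc _ (conj_mem_cj (g := g) (D.mem_map.2 hn))
    rw [e'] at this
    calc _ = g⁻¹ * (g * D.ι n * g⁻¹ * (g * D.ι m * g⁻¹)) * g := by group
      _ = _ := by rw [this]; group)
  have key : ∀ m : M false, m ∈ (M.sF : Subgroup (M false)) → .T * m = m * .T → .B * m = m * .B →
      .W * m = m * .W → .Q * m = m * .Q → m = 1 ∨ m = .Z ∨ m * m = .Z := by decide +kernel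
  have gz : g * D.ι .Z * g⁻¹ = D.ι .Z := D2.cj1 hg
  rcases key m hm (c _ (by decide +kernel)) (c _ (by decide +kernel)) (c _ (by decide +kernel))
    (c _ (by decide +kernel)) with k | k | k
  · left; rw [e', k, map_one]; group
  · right; left; rw [e', k, gz]
  · right; right; rw [← gz, ← k, map_mul, e']; group

theorem bpc {D : D2 G false} {f : G} {m n : M false} (h : f * D.ι m * f⁻¹ = D.ι n) (c : Bool) :
    f * D.ι (bp m c) * f⁻¹ = D.ι (bp n c) := by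
  cases c
  · simp [bp]
  · exact h

structure AL (D : D2 G false) (ty : Bool) (F2 : Subgroup G) (f : G) (s l : B3) : Prop where
  mem : f ∈ F2
  bar : D.Bar f (M.tvs ty s)
  lw : f * D.ι .W * f⁻¹ = D.ι (.W * bp .Z l.1)
  lh : f * D.ι (.Et ty) * f⁻¹ = D.ι (.Et ty * bp .Z l.2.1)
  le : f * D.ι (.Ep ty) * f⁻¹ = D.ι (.Ep ty * bp .Z l.2.2)

theorem tvs_mem : ∀ (ty : Bool) (s : B3) (m : M false), m ∈ (M.sF : Subgroup (M false)) →
    M.tvs ty s m ∈ (M.sF : Subgroup (M false)) := by decide +kernel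

theorem tvs_ad (ty : Bool) : ∀ (s t : B3) (m : M false), m ∈ (M.sF : Subgroup (M false)) →
    M.tvs ty (ad s t) m = M.tvs ty s (M.tvs ty t m) ∨
      M.tvs ty (ad s t) m = M.tvs ty s (M.tvs ty t m) * .Z := by cases ty <;> decide +kernel

theorem cjz {D : D2 G false} {f g : G} (hz : f * D.ι .Z = D.ι .Z * f) {m : M false} {a b : Bool}
    (h : f * D.ι m * f⁻¹ = D.ι (m * bp .Z a)) (k : g * D.ι m * g⁻¹ = D.ι (m * bp .Z b)) :
    f * g * D.ι m * (f * g)⁻¹ = D.ι (m * bp .Z (a ^^ b)) := by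
  have e : ∀ a b : Bool, (bp .Z a * bp .Z b : M false) = bp .Z (a ^^ b) := by decide +kernel
  have := D2.cjm h (bpc (D2.cj1 hz) b)
  rw [← k, mul_assoc m, e] at this
  rw [← this]; group

namespace AL
variable {D : D2 G false} {ty : Bool} {F2 : Subgroup G} {f g : G} {s l s' l' : B3}

theorem mul (hz : f * D.ι .Z = D.ι .Z * f) (h : AL D ty F2 f s l) (k : AL D ty F2 g s' l') :
    AL D ty F2 (f * g) (ad s s') (ad l l') :=
  ⟨mul_mem h.mem k.mem, (D2.Bar.mul hz h.bar k.bar (tvs_mem ty s')).congr (tvs_ad ty s s'),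
    cjz hz h.lw k.lw, cjz hz h.lh k.lh, cjz hz h.le k.le⟩

theorem lam (h : AL D ty F2 f s l) (v : B3) :
    f * D.ι (el ty v) * f⁻¹ = D.ι (el ty v * bp .Z (dt l v)) := by
  have key : ∀ (ty : Bool) (l v : B3), bp (.W * bp .Z l.1) v.1 * bp (.Et ty * bp .Z l.2.1) v.2.1 *
      bp (.Ep ty * bp .Z l.2.2) v.2.2 = el ty v * bp .Z (dt l v) := by decide +kernel
  rw [← key]
  exact D2.cjm (D2.cjm (bpc h.lw _) (bpc h.lh _)) (bpc h.le _)

theorem ld (h : AL D ty F2 f s l) : f * D.ι .D * f⁻¹ = D.ι (.D * bp .Z (par l)) := by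
  have key : ∀ (ty : Bool), (.D : M false) = .Et ty * (.Ep ty)⁻¹ * .W⁻¹ := by decide +kernel
  have k2 : ∀ (ty : Bool) (l : B3), (.D * bp .Z (par l) : M false) =
    .Et ty * bp .Z l.2.1 * (.Ep ty * bp .Z l.2.2)⁻¹ * (.W * bp .Z l.1)⁻¹ := by decide +kernel
  rw [k2 ty, key ty]
  exact D2.cjm (D2.cjm h.lh (D2.cji h.le)) (D2.cji h.lw)

theorem rr (hz : f * D.ι .Z = D.ι .Z * f) (h2 : f * f = 1 ∨ f * f = D.ι .Z) (h : AL D ty F2 f s l) :
    R s l := by
  have k1 : ∀ (ty : Bool) (s : B3), (.T * el ty (false, s.2.1, s.2.2) = M.tvs ty s .T ∨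
      .T * el ty (false, s.2.1, s.2.2) = M.tvs ty s .T * .Z) ∧ (.Q * el ty (s.1, s.2.1, false) = M.tvs ty s .Q ∨
      .Q * el ty (s.1, s.2.1, false) = M.tvs ty s .Q * .Z) := by decide +kernel
  have k2 : ∀ (ty : Bool) (v : B3) (b : Bool), el ty v * bp .Z b = (el ty v)⁻¹ → b = par v := by
    decide +kernel
  exact ⟨k2 ty _ _ (D.inj ((h.lam _).symm.trans
      (rule1 hz h2 ((h.bar _ (by decide +kernel)).congr (k1 ty s).1)))),
    k2 ty _ _ (D.inj ((h.lam _).symm.trans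
      (rule1 hz h2 ((h.bar _ (by decide +kernel)).congr (k1 ty s).2))))⟩

end AL

theorem ezb {D : D2 G false} {x : G} {m : M false} (h : ez D.ι x m) :
    ∃ b : Bool, x = D.ι (m * bp .Z b) := by
  rcases h with h | h
  · exact ⟨false, by rw [h]; simp [bp]⟩
  · exact ⟨true, h⟩

theorem ez_b {D : D2 G false} {x : G} {m : M false} {b : Bool} (h : x = D.ι (m * bp .Z b)) :
    ez D.ι x m := by
  cases b
  · exact Or.inl (by rw [h]; simp [bp])
  · exact Or.inr h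

theorem cj_ι (D : D2 G false) {u m n : M false} (h : u * m * u⁻¹ = n) :
    D.ι u * D.ι m * (D.ι u)⁻¹ = D.ι n := by rw [← h]; simp

theorem cj_comp {D : D2 G false} {f g : G} {m n p : M false} (k : f * D.ι n * f⁻¹ = D.ι p)
    (h : g * D.ι m * g⁻¹ = D.ι n) : f * g * D.ι m * (f * g)⁻¹ = D.ι p := by
  rw [← k, ← h]; group

theorem exAL {D : D2 G false} {ty : Bool} {g f : G} {s : B3} (hg : g * D.ι .Z = D.ι .Z * g)
    (hE : ∀ m ∈ (M.sE ty : Subgroup (M false)), D.ι m ∈ cj g D.F) (hf : f ∈ cj g D.F)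
    (hb : D.Bar f (M.tvs ty s)) : ∃ l, AL D ty (cj g D.F) f s l := by
  have k : ∀ ty : Bool, (.W : M false) ∈ (M.sE ty : Subgroup (M false)) ∧
      (.Et ty : M false) ∈ (M.sE ty : Subgroup (M false)) ∧
      (.Ep ty : M false) ∈ (M.sE ty : Subgroup (M false)) := by
    intro ty; cases ty <;> decide +kernel
  obtain ⟨a, ha⟩ := ezb (ez.iff_mul.2 (D.cjF_cj hg (hE _ (k ty).1) hf))
  obtain ⟨b, hb'⟩ := ezb (ez.iff_mul.2 (D.cjF_cj hg (hE _ (k ty).2.1) hf))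
  obtain ⟨c, hc⟩ := ezb (ez.iff_mul.2 (D.cjF_cj hg (hE _ (k ty).2.2) hf))
  exact ⟨(a, b, c), hf, hb, ha, hb', hc⟩

theorem ty_eq {D : D2 G false} (X : X2 D) {ty : Bool} {g : G} (hz : g * D.ι .Z = D.ι .Z * g)
    (h : ez D.ι (g * D.ι .T * g⁻¹) (.T * .Ep ty) ∨ ez D.ι (g * D.ι .T * g⁻¹) (.T * .Et ty)) :
    ty = X.ty := by
  have n1 := X.n1
  have n2 := X.n2
  generalize X.ty = b at n1 n2
  cases b <;> cases ty <;> try rfl
  · rcases h with h | h
    · exact absurd (D.ct_of_ez hz (h.congr (by decide +kernel))) n1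
    · exact absurd (D.ct_of_ez hz (h.congr (by decide +kernel))) n2
  · rcases h with h | h
    · exact absurd (D.ct_of_ez hz (h.congr (by decide +kernel))) n2
    · exact absurd (D.ct_of_ez hz (h.congr (by decide +kernel))) n1

variable [Finite G] {D : D2 G false}

theorem nT1 (C : Cx2 D) {g : G} (hg : g ∈ C.T) {n : M false} (h : ez D.ι (g * D.ι n * g⁻¹) .T)
    (hn : ∀ m : M false, n = m * n * m⁻¹ ∨ n = m * n * m⁻¹ * .Z) :
    g ∈ normalizer (D.T1 : Set G) := mem_normalizer_fintype (by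
  rintro _ ⟨m, rfl⟩
  refine C.mem_T1 (mul_mem (mul_mem hg (C.ι_T m)) (inv_mem hg)) ?_
  rw [mul_assoc g (D.ι m)]
  exact ez.comp (C.cz hg) h (ez.comp (D.zc m) ((ez.of_ι m n).congr (hn m)) (ez.cinv (C.cz hg) h)))

theorem f0' (hF : F0S.{u}) (X : X2 D) (C : Cx2 D) {g : G} (hg : g ∈ C.T)
    (ht : ez D.ι (g * D.ι .T * g⁻¹) (.T * .Ep X.ty))
    (he : ez D.ι (g * D.ι (.Ep X.ty) * g⁻¹) (.Ep X.ty)) {i j : Bool}
    (hw : g * D.ι .W * g⁻¹ = D.ι (.W * bp .Z i)) (hq : g * D.ι .Q * g⁻¹ = D.ι (.Q * bp .Z j))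
    {f : G} (hf : f = g * D.ι (bp .Q i * bp .W j)) :
    (ez D.ι (f * D.ι .A * f⁻¹) (.A * (bif X.ty then .D else .T * .B)) ∧ f * D.ι .D = D.ι .D * f) ∨
    (ez D.ι (f * D.ι .A * f⁻¹) (.A * (bif X.ty then 1 else .Bp)) ∧
      f * D.ι .D * f⁻¹ = D.ι (.D * .Z)) := by
  have key : ∀ ty i j : Bool, ∀ u : M false, u = bp .Q i * bp .W j → u * .W * u⁻¹ = .W * bp .Z i ∧
      u * .Q * u⁻¹ = .Q * bp .Z j ∧ u * .T * u⁻¹ = .T ∧ u * (.T * .Ep ty) * u⁻¹ = .T * .Ep ty ∧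
      ((.T : M false) = .T * .Ep ty * .Ep ty ∨ (.T : M false) = .T * .Ep ty * .Ep ty * .Z) := by
    rintro ty i j _ rfl; revert ty i j; decide +kernel
  have k2 : ∀ (ty : Bool) (m : M false), .T * .Ep ty = m * (.T * .Ep ty) * m⁻¹ ∨
      .T * .Ep ty = m * (.T * .Ep ty) * m⁻¹ * .Z := by decide +kernel
  obtain ⟨a1, a2, a3, a4, a5⟩ := key X.ty i j _ rfl
  have fT : f ∈ C.T := hf ▸ mul_mem hg (C.ι_T _)
  have gz := C.cz hg
  refine hF G D X f (C.cz fT) (nT1 C fT (n := .T * .Ep X.ty) ?_ (k2 X.ty)) ?_ ?_ ?_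
  · rw [hf]; exact ez.comp gz ((ht.cmul he).congr a5) (Or.inl (cj_ι D a4))
  · have := cjz gz hw (cj_ι D a1)
    rw [Bool.xor_self, ← hf] at this
    rw [← mul_inv_eq_iff_eq_mul, this]; simp [bp]
  · have := cjz gz hq (cj_ι D a2)
    rw [Bool.xor_self, ← hf] at this
    rw [← mul_inv_eq_iff_eq_mul, this]; simp [bp]
  · rw [hf]; exact ez.comp gz ht (Or.inl (cj_ι D a3))

theorem noA (hF : F0S.{u}) (X : X2 D) (C : Cx2 D) {g : G} (hg : g ∈ C.T)
    (h2 : g * g = 1 ∨ g * g = D.ι .Z) (ht : ez D.ι (g * D.ι .T * g⁻¹) (.T * .Ep X.ty))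
    (he : g * D.ι (.Ep X.ty) * g⁻¹ = D.ι (.Ep X.ty * .Z)) (hd : g * D.ι .D * g⁻¹ = D.ι .D)
    (hw : ez D.ι (g * D.ι .W * g⁻¹) .W) (hq : ez D.ι (g * D.ι .Q * g⁻¹) .Q) : False := by
  obtain ⟨i, hw⟩ := ezb hw
  obtain ⟨j, hq⟩ := ezb hq
  obtain ⟨c, hc⟩ : ∃ c : Bool, g * g = D.ι (bp .Z c) := by
    rcases h2 with h | h
    exacts [⟨false, by rw [h]; simp [bp]⟩, ⟨true, h⟩]
  have key : ∀ ty i j c : Bool, ∀ u : M false, u = bp .Q i * bp .W j → u * .D * u⁻¹ = .D ∧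
      u * .Ep ty * u⁻¹ = .Ep ty ∧
      (bp (.Q * bp .Z j) i * bp (.W * bp .Z i) j * bp .Z c * u = 1 ∨
        bp (.Q * bp .Z j) i * bp (.W * bp .Z i) j * bp .Z c * u = .Z) := by
    rintro ty i j c _ rfl; revert ty i j c; decide +kernel
  obtain ⟨a1, a2, a3⟩ := key X.ty i j c _ rfl
  have H := f0' hF X C hg ht (Or.inr he) hw hq rfl
  have e1 := cj_comp hd (cj_ι D a1)
  have e2 := cj_comp he (cj_ι D a2)
  have e3 := D2.cjm (bpc hq i) (bpc hw j)
  have fz := C.cz (mul_mem hg (C.ι_T (bp .Q i * bp .W j)))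
  generalize (bp .Q i * bp .W j : M false) = v at *
  have e4 : g * D.ι v * (g * D.ι v) =
      D.ι (bp (.Q * bp .Z j) i * bp (.W * bp .Z i) j * bp .Z c * v) := by
    rw [map_mul _ _ v, map_mul _ _ (bp M.Z c), ← e3, ← hc]; group
  have f2 : g * D.ι v * (g * D.ι v) = 1 ∨ g * D.ι v * (g * D.ι v) = D.ι .Z := by
    rcases a3 with k | k <;> rw [e4, k]
    exacts [Or.inl (map_one _), Or.inr rfl]
  generalize g * D.ι v = f at *
  rcases H with ⟨h1, -⟩ | ⟨-, h1⟩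
  · generalize X.ty = ty at *
    cases ty
    · have := rule1 fz f2 (c := .D * .Ep false) (h1.congr (by decide +kernel))
      rw [D2.cjm e1 e2, D.inj.eq_iff] at this
      revert this; decide +kernel
    · have := rule1 fz f2 h1
      rw [show (bif true then .D else .T * .B : M false) = .D from rfl, e1, D.inj.eq_iff] at this
      revert this; decide +kernel
  · rw [e1, D.inj.eq_iff] at h1
    revert h1; decide +kernel

theorem hasA (hF : F0S.{u}) (X : X2 D) (C : Cx2 D) {g : G} (hg : g ∈ C.T)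
    (ht : ez D.ι (g * D.ι .T * g⁻¹) (.T * .Ep X.ty))
    (he : ez D.ι (g * D.ι (.Ep X.ty) * g⁻¹) (.Ep X.ty)) (hd : g * D.ι .D * g⁻¹ = D.ι (.D * .Z))
    (hw : g * D.ι .W * g⁻¹ = D.ι (.W * bp .Z false)) (hq : ez D.ι (g * D.ι .Q * g⁻¹) .Q) :
    ez D.ι (g * D.ι .A * g⁻¹) (.A * (bif X.ty then 1 else .Bp)) := by
  obtain ⟨j, hq⟩ := ezb hq
  have key : ∀ j : Bool, ∀ u : M false, u = bp .Q false * bp .W j → u * .D * u⁻¹ = .D ∧
      (u⁻¹ * .A * u = .A ∨ u⁻¹ * .A * u = .A * .Z) := by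
    rintro j _ rfl; revert j; decide +kernel
  obtain ⟨a1, a2⟩ := key j _ rfl
  have H := f0' hF X C hg ht he hw hq rfl
  have e1 := cj_comp hd (cj_ι D a1)
  have fz := C.cz (mul_mem hg (C.ι_T (bp .Q false * bp .W j)))
  generalize (bp .Q false * bp .W j : M false) = v at *
  rcases H with ⟨-, h1⟩ | ⟨h1, -⟩
  · rw [D2.cj1 h1, D.inj.eq_iff] at e1
    exact absurd e1 (by decide +kernel)
  · have := ez.conj fz (D.ez_iff.2 a2) h1
    rwa [show g * D.ι v * D.ι (v⁻¹ * .A * v) * (g * D.ι v)⁻¹ = g * D.ι .A * g⁻¹ by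
      simp only [map_mul, map_inv]; group] at this

/-- `C_F(ε)` -/
abbrev sC (ty : Bool) : Subgroup (M false) :=
  M.sub (fun m => !m.a && decide (m * .Ep ty = .Ep ty * m)) (by cases ty <;> decide +kernel)

theorem caseA1 (hF : F0S.{u}) (X : X2 D) (C : Cx2 D) {g f : G} {ty : Bool}
    (hg : g * D.ι .Z = D.ι .Z * g) (hl : cj g D.F ≤ C.Ts)
    (hi : ∀ m ∈ (M.sF : Subgroup (M false)), D.ι m ∈ cj g D.F ↔ m * .Ep ty = .Ep ty * m)
    (hf : f ∈ cj g D.F) (hb : D.Bar f (M.tv (.Ep ty))) : False := by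
  have fT := C.l2 (hl hf)
  have fz := C.cz fT
  have f2 := D.cjF_sq hg hf
  have k0 : ∀ ty : Bool, M.tv (.Ep ty) (.T : M false) = .T * .Ep ty ∧ M.tv (.Ep ty) (.W : M false) = .W ∧
      M.tv (.Ep ty) (.Q : M false) = .Q ∧ ((.Ep ty)⁻¹ : M false) = .Ep ty * .Z ∧
      (.D * .Ep ty : M false) = .Ep ty * .D ∧ (.D * .Z * (.Ep ty * .Z) : M false) = .D * .Ep ty ∧
      (.D * .Ep ty : M false) ∈ (M.sF : Subgroup (M false)) ∧
      (.D * .Ep ty * .Ep ty : M false) = .Ep ty * (.D * .Ep ty) ∧ (.D * .Ep ty : M false) ≠ 1 ∧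
      (.D * .Ep ty : M false) ≠ .Z ∧ (.D * .Ep ty * (.D * .Ep ty) : M false) ≠ .Z := by
    intro ty; cases ty <;> decide +kernel
  have k1 : ∀ (ty : Bool) (m : M false), m ∈ sC ty → m ∈ (M.sF : Subgroup (M false)) ∧
      m * .Ep ty = .Ep ty * m ∧ m * (.D * .Ep ty) = .D * .Ep ty * m ∧
      m * .Ep ty * m⁻¹ ≠ .Ep ty * .Z := by
    intro ty; cases ty <;> decide +kernel
  obtain ⟨a1, a2, a3, a4, a5, a6, a7, a8, a9, a10, a11⟩ := k0 ty
  have ht := hb .T (by decide +kernel)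
  have hw := hb .W (by decide +kernel)
  have hq := hb .Q (by decide +kernel)
  rw [a1] at ht; rw [a2] at hw; rw [a3] at hq
  have he := rule1 fz f2 ht
  rw [a4] at he
  obtain rfl := ty_eq X fz (Or.inl ht)
  rcases D.cjF_cj hg ((hi .D (by decide +kernel)).2 a5) hf with hd | hd
  · exact noA hF X C fT f2 ht he hd hw hq
  rw [← map_mul] at hd
  have e1 := D2.cjm hd he
  rw [a6] at e1
  set K := cj g D.F ⊓ centralizer {D.ι (.D * .Ep X.ty)} with hK
  have l1 : (sC X.ty).map D.ι ≤ K := by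
    rintro _ ⟨m, hm, rfl⟩
    obtain ⟨b1, b2, b3, -⟩ := k1 _ m hm
    exact ⟨(hi m b1).2 b2, mem_centralizer_singleton_iff.2 (D.comm_iff.2 b3)⟩
  have c1 : Nat.card ((sC X.ty).map D.ι) = 32 := by
    rw [D.card_map, M.card_sub]; cases X.ty <;> decide +kernel
  have c2 : 32 < Nat.card K := by
    by_contra! hc
    have : f ∈ (sC X.ty).map D.ι := by
      rw [eq_of_le_of_card_ge l1 (by omega)]
      exact ⟨hf, mem_centralizer_singleton_iff.2 (mul_inv_eq_iff_eq_mul.1 e1)⟩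
    obtain ⟨m, hm, rfl⟩ := this
    exact (k1 _ m hm).2.2.2 (D.inj (by rw [← he]; simp))
  have c3 : Nat.card (cj g D.F) = 64 := by rw [card_cj, D.card_F]
  obtain ⟨c, hc⟩ := card_dvd_of_le (inf_le_left : K ≤ cj g D.F)
  have c4 : c = 1 := by
    rw [c3] at hc
    rcases c with _ | _ | c
    · omega
    · rfl
    · nlinarith
  have e2 : K = cj g D.F := eq_of_le_of_card_ge inf_le_left (by rw [hc, c4, mul_one])
  rcases zc_cj D hg ((hi _ a7).2 a8) (fun y hy => mem_centralizer_singleton_iff.1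
    (show y ∈ K from e2 ▸ hy).2) with k | k | k
  · exact a9 (D.inj (by rw [k, map_one]))
  · exact a10 (D.inj k)
  · exact a11 (D.inj (by rw [map_mul, k]))

section A2
variable (C : Cx2 D) {ty : Bool} {F2 : Subgroup G} (hl : F2 ≤ C.Ts)
  (hi : ∀ m ∈ (M.sF : Subgroup (M false)), D.ι m ∈ F2 ↔ m ∈ M.sE ty)
include hl hi

theorem coset {x y : G} {φ : M false → M false} (hx : x ∈ F2) (hy : y ∈ F2) (bx : D.Bar x φ)
    (by' : D.Bar y φ) : ∃ m ∈ (M.sE ty : Subgroup (M false)), x = D.ι m * y := by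
  have := (mem_normalizer_iff.1 (C.nF (hl hy)) _).1 (C.bar_eq (C.l2 (hl hy)) (C.l2 (hl hx)) by' bx)
  rw [show y * (y⁻¹ * x) * y⁻¹ = x * y⁻¹ by group] at this
  obtain ⟨m, hm, e⟩ := this
  exact ⟨m, (hi m hm).1 (e ▸ mul_mem hx (inv_mem hy)), by rw [e]; group⟩

theorem cover {g1 g2 : G} {t1 t2 : B3} (h1 : g1 ∈ F2) (h2 : g2 ∈ F2) (b1 : D.Bar g1 (M.tvs ty t1))
    (b2 : D.Bar g2 (M.tvs ty t2)) (hs : ∀ x ∈ F2, ∃ s ∈ sp t1 t2, D.Bar x (M.tvs ty s)) :
    ∀ x ∈ F2, ∃ m ∈ (M.sE ty : Subgroup (M false)),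
      x = D.ι m ∨ x = D.ι m * g1 ∨ x = D.ι m * g2 ∨ x = D.ι m * (g1 * g2) := fun x hx => by
  obtain ⟨s, a, b⟩ := hs x hx
  simp only [sp, List.mem_cons, List.not_mem_nil, or_false] at a
  rcases a with rfl | rfl | rfl | rfl
  · obtain ⟨m, c, e⟩ := coset C hl hi hx (one_mem _) b (D.bar_F (one_mem _))
    exact ⟨m, c, Or.inl (by rw [e, mul_one])⟩
  · obtain ⟨m, c, e⟩ := coset C hl hi hx h1 b b1
    exact ⟨m, c, Or.inr (Or.inl e)⟩
  · obtain ⟨m, c, e⟩ := coset C hl hi hx h2 b b2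
    exact ⟨m, c, Or.inr (Or.inr (Or.inl e))⟩
  · obtain ⟨m, c, e⟩ := coset C hl hi hx (mul_mem h1 h2) b
      ((D2.Bar.mul (C.cz (C.l2 (hl h1))) b1 b2 (tvs_mem ty t2)).congr (tvs_ad ty t1 t2))
    exact ⟨m, c, Or.inr (Or.inr (Or.inr e))⟩

theorem cover_le {g1 g2 : G} {t1 t2 : B3} (h1 : g1 ∈ F2) (h2 : g2 ∈ F2) (b1 : D.Bar g1 (M.tvs ty t1))
    (b2 : D.Bar g2 (M.tvs ty t2)) (hs : ∀ x ∈ F2, ∃ s ∈ sp t1 t2, D.Bar x (M.tvs ty s))
    {K : Subgroup G} (k0 : ∀ m ∈ (M.sE ty : Subgroup (M false)), D.ι m ∈ K) (k1 : g1 ∈ K)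
    (k2 : g2 ∈ K) : F2 ≤ K := fun x hx => by
  obtain ⟨m, hm, e | e | e | e⟩ := cover C hl hi h1 h2 b1 b2 hs x hx <;> rw [e]
  exacts [k0 m hm, mul_mem (k0 m hm) k1, mul_mem (k0 m hm) k2, mul_mem (k0 m hm) (mul_mem k1 k2)]

theorem kind {f1 f : G} {k x : Bool} (h2 : f1 * f1 = 1 ∨ f1 * f1 = D.ι .Z)
    (h1 : AL D ty F2 f1 (true, false, false) (true, !k && x, k && x))
    (h : AL D ty F2 f (false, k, !k) (false, k || x, !k || x))
    (hs : ∀ y ∈ F2, ∃ s ∈ sp (true, false, false) (false, k, !k), D.Bar y (M.tvs ty s)) :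
    Kind D ty F2 f k := by
  have k1 : ∀ (ty : Bool) (m : M false), m ∈ (M.sF : Subgroup (M false)) →
      (M.tvs ty (true, false, false) m = .A * m * M.A⁻¹ ∨
        M.tvs ty (true, false, false) m = .A * m * M.A⁻¹ * .Z) ∧
      (M.tvs ty (true, false, false) m = .Ap * m * M.Ap⁻¹ ∨
        M.tvs ty (true, false, false) m = .Ap * m * M.Ap⁻¹ * .Z) := by decide +kernel
  have k2 : ∀ (ty k x : Bool) (m : M false), m ∈ (M.sF : Subgroup (M false)) →
      (.A * m * (.A * m) = 1 ∨ .A * m * (.A * m) = .Z) →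
      .A * m * .Et ty * (.A * m)⁻¹ = .Et ty * bp .Z (!k && x) →
      .A * m * .Ep ty * (.A * m)⁻¹ = .Ep ty * bp .Z (k && x) →
      x = false ∧ .Ap * (.A * m)⁻¹ ∈ (M.sF : Subgroup (M false)) ∧
        .Ap * (.A * m)⁻¹ ∈ (M.sE ty : Subgroup (M false)) := by
    intro ty; cases ty <;> decide +kernel
  obtain ⟨m, hm, e⟩ := C.bar_eq (C.ι_T .A) (C.l2 (hl h1.mem))
    ((D.bar_ι .A).congr fun m hm => (k1 ty m hm).1) h1.bar
  have e1 : f1 = D.ι (.A * m) := by rw [map_mul, e]; group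
  subst e1
  obtain ⟨rfl, a1, a2⟩ := k2 ty k x m hm
    (by simpa only [← map_mul, ← map_one D.ι, D.inj.eq_iff] using h2)
    (D.inj (by rw [← h1.lh]; simp)) (D.inj (by rw [← h1.le]; simp))
  have ap : D.ι .Ap ∈ F2 := by
    have := mul_mem ((hi _ a1).2 a2) h1.mem
    rwa [← map_mul, inv_mul_cancel_right] at this
  refine ⟨h.mem, hi, ap, fun y hy => ?_, ?_, ?_, ?_, ?_⟩
  · simpa only [map_mul, mul_assoc] using cover C hl hi ap h.mem
      ((D.bar_ι .Ap).congr fun m hm => (k1 ty m hm).2) h.bar hs y hy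
  · have := h.bar
    cases k <;> exact this
  · rw [← mul_inv_eq_iff_eq_mul, h.lw]; simp [bp]
  · rw [h.ld]; cases k <;> rfl
  · rw [← mul_inv_eq_iff_eq_mul]
    cases k
    · exact h.lh.trans (by simp [bp])
    · exact h.le.trans (by simp [bp])

end A2

theorem noF3 (hF : F0S.{u}) (Y : Cy G) {g f3 f : G} {j x : Bool}
    (hg : g * Y.D.ι .Z = Y.D.ι .Z * g) (hl : cj g Y.D.F ≤ Y.C.Ts)
    (hi : ∀ m ∈ (M.sF : Subgroup (M false)), Y.D.ι m ∈ cj g Y.D.F ↔ m ∈ M.sE Y.X.ty)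
    (h3 : AL Y.D Y.X.ty (cj g Y.D.F) f3 (false, true, true) (false, true, true))
    (h : AL Y.D Y.X.ty (cj g Y.D.F) f (j, false, true) (j || x, false, true))
    (hs : ∀ y ∈ cj g Y.D.F, ∃ s ∈ sp (false, true, true) (j, false, true),
      Y.D.Bar y (M.tvs Y.X.ty s)) : False := by
  obtain ⟨D, X, C, r8⟩ := Y
  dsimp only at *
  have T3 := C.l2 (hl h3.mem)
  have Tf := C.l2 (hl h.mem)
  have k0 : ∀ ty j : Bool, (.T * .Gm = M.tvs ty (false, true, true) (.T : M false) ∨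
      .T * .Gm = M.tvs ty (false, true, true) (.T : M false) * .Z) ∧
      M.tvs ty (j, false, true) (.T : M false) = .T * .Ep ty ∧
      M.tvs ty (false, false, true) (.Q : M false) = .Q ∧
      (.A * .Q * M.A⁻¹ : M false) ∈ (M.sF : Subgroup (M false)) ∧
      (.Q = M.tvs ty (true, false, true) (.A * .Q * M.A⁻¹ : M false) ∨
        .Q = M.tvs ty (true, false, true) (.A * .Q * M.A⁻¹ : M false) * .Z) ∧
      (.A * .Ep ty * M.A⁻¹ : M false) = .Ep ty * bp .Z (!ty) := by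
    intro ty; cases ty <;> decide +kernel
  obtain ⟨a1, a2, a3, a4, a5, a6⟩ := k0 X.ty j
  have t3 := (h3.bar .T (by decide +kernel)).congr a1
  obtain ⟨r, rT, hr⟩ := r8 (D.ct_of_ez (C.cz T3) t3)
  obtain ⟨v, hv⟩ := C.t_eq (C.l2 rT) T3 hr.rt t3
  have c1 : ∀ {m : M false}, r * D.ι m = D.ι m * r → f3 * D.ι m * f3⁻¹ = D.ι (m * bp .Z false) →
      v * m = m * v := fun {m} a b => D.comm_iff.1 (by
    rw [show m * bp .Z false = m from mul_one m, mul_inv_eq_iff_eq_mul] at b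
    rw [hv, mul_assoc, b, ← mul_assoc, ← mul_assoc]
    congr 1
    rw [inv_mul_eq_iff_eq_mul, ← mul_assoc, a, mul_inv_cancel_right])
  have k1 : ∀ v : M false, v * .D = .D * v → v * .W = .W * v →
      .A = v * .A * v⁻¹ ∨ .A = v * .A * v⁻¹ * .Z := by decide +kernel
  have A3 : ez D.ι (f3 * D.ι .A * f3⁻¹) .A := by
    have := ez.comp hr.rz (Or.inl (D2.cj1 hr.ra)) ((ez.of_ι (ι := D.ι) v .A).congr
      (k1 v (c1 hr.rd h3.ld) (c1 hr.rw h3.lw)))
    rwa [hv, mul_inv_cancel_left] at this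
  have tf := h.bar .T (by decide +kernel)
  rw [a2] at tf
  have Af : ez D.ι (f * D.ι .A * f⁻¹) (.A * (bif X.ty then 1 else .Bp)) := by
    cases j
    · have qf := h.bar .Q (by decide +kernel)
      rw [a3] at qf
      cases x
      · exact hasA hF X C Tf tf (ez_b h.le) h.ld h.lw qf
      · exact (noA hF X C Tf (D.cjF_sq hg h.mem) tf h.le (h.ld.trans (congrArg _ (mul_one _)))
          (ez_b h.lw) qf).elim
    · have fz := C.cz Tf
      have := hasA hF X C (mul_mem Tf (C.ι_T .A))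
        (ez.comp fz tf (Or.inl (cj_ι D (by decide +kernel)))) (ez_b (cjz fz h.le (cj_ι D a6)))
        (cjz fz h.ld (b := true) (cj_ι D (by decide +kernel)))
        (cjz fz h.lw (b := true) (cj_ι D (by decide +kernel)))
        (ez.comp fz ((h.bar _ a4).congr a5) (ez.of_ι .A .Q))
      rwa [show f * D.ι .A * D.ι .A * (f * D.ι .A)⁻¹ = f * D.ι .A * f⁻¹ by group] at this
  generalize X.ty = ty at *
  cases ty
  · have := rule1 (C.cz (mul_mem Tf T3)) (D.cjF_sq hg (mul_mem h.mem h3.mem)) (c := .Ep false)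
      (ez.comp (C.cz Tf) Af A3)
    rw [(h.mul (C.cz Tf) h3).le, D.inj.eq_iff] at this
    exact absurd (show (.Ep false * bp .Z false : M false) = (.Ep false)⁻¹ from this) (by decide +kernel)
  · have k2 : ∀ m : M false, m ∈ (M.sE true : Subgroup (M false)) →
        m * .A * m⁻¹ = .A ∨ m * .A * m⁻¹ = .A * .Z := by decide +kernel
    have le := cover_le C hl hi h3.mem h.mem h3.bar h.bar hs (K := NZ (D.ι .A) (D.ι .Z) D.z2)
      (fun m hm => ⟨D.zc m, by simpa only [← map_mul, ← map_inv, D.inj.eq_iff] using k2 m hm⟩)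
      ⟨C.cz T3, ez.iff_mul.1 A3⟩ ⟨C.cz Tf, ez.iff_mul.1 (Af.congr (Or.inl (mul_one _).symm))⟩
    have aa : D.ι .A * D.ι .A = 1 := by rw [← map_mul, ← map_one D.ι, D.inj.eq_iff]; decide +kernel
    have hA : D.ι .A ∈ cj g D.F := D.bar_id_cj (k := 1) (by simpa [pow_two] using aa) hg fun y hy => by
      obtain ⟨e1, e2 | e2⟩ := le hy
      · left; rw [mul_inv_eq_iff_eq_mul] at e2 ⊢; exact e2.symm
      · right
        rw [mul_inv_eq_iff_eq_mul] at e2 ⊢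
        rw [mul_assoc y, ← D.zc, ← mul_assoc, e2, mul_assoc _ y, e1, mul_assoc (D.ι .A),
          ← mul_assoc (D.ι .Z), D.z2, one_mul]
    obtain ⟨s, hs1, hs2⟩ := hs _ hA
    have k3 : ∀ j : Bool, ∀ s ∈ sp (false, true, true) (j, false, true),
        (M.tvs true s .T = (.A * .T * M.A⁻¹ : M false) ∨ M.tvs true s .T = (.A * .T * M.A⁻¹ * .Z : M false)) →
        (M.tvs true s .Q = (.A * .Q * M.A⁻¹ : M false) ∨ M.tvs true s .Q = (.A * .Q * M.A⁻¹ * .Z : M false)) →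
        False := by decide +kernel
    exact k3 j s hs1 ((D.bar_ι .A).uniq hs2 (by decide +kernel)) ((D.bar_ι .A).uniq hs2 (by decide +kernel))

/-- the pair lemma -/
theorem pl : PLS.{u} := by
  rintro hP hF G _ _ Y F2 hp
  obtain ⟨-, ty, H⟩ := hP G false Y.D Y.C F2 hp
  obtain ⟨⟨g, hg, rfl⟩, hl, -, -⟩ := hp
  rcases H with ⟨hi, f, hf, hb⟩ | ⟨hi, f1, m1, f2, m2, s1, s2, n1, n2, n3, b1, b2, hc⟩
  · exact (caseA1 hF Y.X Y.C hg hl hi hf hb).elim
  have cz : ∀ x ∈ cj g Y.D.F, x * Y.D.ι .Z = Y.D.ι .Z * x := fun x hx => Y.C.cz (Y.C.l2 (hl hx))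
  have kE : ∀ (ty : Bool) (m : M false), m ∈ (M.sE ty : Subgroup (M false)) →
      m ∈ (M.sF : Subgroup (M false)) := by intro ty; cases ty <;> decide +kernel
  have hE : ∀ m ∈ (M.sE ty : Subgroup (M false)), Y.D.ι m ∈ cj g Y.D.F := fun m hm =>
    (hi m (kE ty m hm)).2 hm
  obtain ⟨l1, h1⟩ := exAL hg hE m1 b1
  obtain ⟨l2, h2⟩ := exAL hg hE m2 b2
  have h3 := h1.mul (cz _ m1) h2
  have hs : ∀ x ∈ cj g Y.D.F, ∃ s ∈ sp s1 s2, Y.D.Bar x (M.tvs ty s) := fun x hx => by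
    have k : ∀ {y : G} {s : B3}, Y.D.Bar y (M.tvs ty s) → x * y⁻¹ ∈ Y.D.F → Y.D.Bar x (M.tvs ty s) :=
      fun {y s} a b => by
      have := D2.Bar.mul (Y.D.zc' (Y.D.map_le _ b)) (Y.D.bar_F b) a (tvs_mem ty s)
      rwa [inv_mul_cancel_right] at this
    rcases hc x hx with e | e | e | e
    · exact ⟨(false, false, false), by simp [sp], Y.D.bar_F e⟩
    · exact ⟨s1, by simp [sp], k b1 e⟩
    · exact ⟨s2, by simp [sp], k b2 e⟩
    · exact ⟨ad s1 s2, by simp [sp], k h3.bar e⟩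
  have hs' : ∀ {t1 t2 : B3}, Sp s1 s2 t1 t2 → ∀ x ∈ cj g Y.D.F, ∃ s ∈ sp t1 t2,
      Y.D.Bar x (M.tvs ty s) := fun a x hx => by
    obtain ⟨s, b, c⟩ := hs x hx
    exact ⟨s, a s b, c⟩
  have ex : ∀ {s l : B3}, (s, l) ∈ tr s1 l1 s2 l2 → ∃ f, AL Y.D ty (cj g Y.D.F) f s l := fun a => by
    simp only [tr, List.mem_cons, List.not_mem_nil, or_false, Prod.mk.injEq] at a
    rcases a with ⟨rfl, rfl⟩ | ⟨rfl, rfl⟩ | ⟨rfl, rfl⟩
    exacts [⟨_, h1⟩, ⟨_, h2⟩, ⟨_, h3⟩]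
  have zc : Zc l1 l2 := fun v v0 pv => by
    by_contra! hn
    have k1 : ∀ (ty : Bool) (v : B3), el ty v ∈ (M.sE ty : Subgroup (M false)) ∧
        (v ≠ (false, false, false) → par v = false → el ty v ≠ 1 ∧ el ty v ≠ .Z ∧
          el ty v * el ty v ≠ .Z) ∧
        ∀ m ∈ (M.sE ty : Subgroup (M false)), m * el ty v = el ty v * m := by
      intro ty; cases ty <;> decide +kernel
    obtain ⟨a1, a2, a3⟩ := k1 ty v
    have k2 : ∀ {f : G} {s l : B3}, AL Y.D ty (cj g Y.D.F) f s l → dt l v ≠ true →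
        f ∈ centralizer {Y.D.ι (el ty v)} := fun {f s l} a b => by
      have := a.lam v
      rw [Bool.eq_false_iff.2 b] at this
      exact mem_centralizer_singleton_iff.2
        (mul_inv_eq_iff_eq_mul.1 (this.trans (congrArg _ (mul_one _))))
    have le := cover_le Y.C hl hi m1 m2 b1 b2 hs (K := centralizer {Y.D.ι (el ty v)})
      (fun m hm => mem_centralizer_singleton_iff.2 (Y.D.comm_iff.2 (a3 m hm))) (k2 h1 hn.1) (k2 h2 hn.2)
    rcases zc_cj Y.D hg (hE _ a1) (fun y hy => mem_centralizer_singleton_iff.1 (le hy)) with k | k | k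
    · exact (a2 v0 pv).1 (Y.D.inj (by rw [k, map_one]))
    · exact (a2 v0 pv).2.1 (Y.D.inj k)
    · exact (a2 v0 pv).2.2 (Y.D.inj (by rw [map_mul, k]))
  have kt : ∀ ty j : Bool, M.tvs ty (j, false, true) (.T : M false) = .T * .Ep ty ∧
      M.tvs ty (false, true, false) (.T : M false) = .T * .Et ty := by decide +kernel
  rcases bits s1 s2 n1 n2 n3 l1 (h1.rr (cz _ m1) (Y.D.cjF_sq hg m1)) l2
    (h2.rr (cz _ m2) (Y.D.cjF_sq hg m2)) (h3.rr (cz _ h3.mem) (Y.D.cjF_sq hg h3.mem)) zc with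
    ⟨k, x, p1, p2, p3⟩ | ⟨p1, j, x, p2, p3⟩
  · obtain ⟨f, q1⟩ := ex p1
    obtain ⟨f', q2⟩ := ex p2
    have : ty = Y.X.ty := ty_eq Y.X (cz _ q2.mem) (by
      have := q2.bar .T (by decide +kernel)
      cases k
      · exact Or.inl ((kt ty false).1 ▸ this)
      · exact Or.inr ((kt ty false).2 ▸ this))
    exact ⟨f', k, this ▸ kind Y.C hl hi (Y.D.cjF_sq hg q1.mem) q1 q2 (hs' p3)⟩
  · obtain ⟨f, q1⟩ := ex p1
    obtain ⟨f', q2⟩ := ex p2
    obtain rfl : ty = Y.X.ty := ty_eq Y.X (cz _ q2.mem)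
      (Or.inl ((kt ty j).1 ▸ q2.bar .T (by decide +kernel)))
    exact (noF3 hF Y hg hl hi q1 q2 (hs' p3)).elim

end Cfsg.Agent.H69.L3Pl
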