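import Cfsg.Agent.H93.LT4Defs
import Cfsg.Agent.H10.SylowUtil

/-! Standard subgroups with Sylow subgroup `D₈`: the frame `Up`. -/

set_option autoImplicit false

namespace Cfsg.Agent.H69.LtUp

open Subgroup Cfsg.Agent.H85 Cfsg.Agent.H93.LT Cfsg.Agent.H10.LT

universe u

variable {G : Type u} [Group G]

theorem cn_cn' (u n x : G) : cn (cn u n) x = cn (cn u x) (cn n x) := by simp only [cn]; group

theorem cn_sq {u : G} (h : u * u = 1) (x : G) : cn u x * cn u x = 1 := by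
  rw [← cn_mul, h]; simp [cn]

theorem cn_ne {u : G} (h : u ≠ 1) (x : G) : cn u x ≠ 1 := fun e => h (by simpa using (cn_inv e).symm)

theorem hit {D : Subgroup G} {a b z : G} (h : D8 D a b z) {w : G} (hw : w ∈ D) (h1 : w ≠ 1) :
    w = z ∨ ∃ e ∈ D, w⁻¹ * cn w e = z := by
  obtain ⟨ψ, hi, rfl, rfl, rfl, rfl⟩ := h
  obtain ⟨x, rfl⟩ := hw
  simp only [Ne, map_eq_one_iff ψ hi] at h1
  rcases (by decide : ∀ x : DihedralGroup 4, ¬ x = 1 → x = .r 2 ∨ ∃ d, x⁻¹ * (d⁻¹ * x * d) = .r 2)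
    x h1 with e | ⟨d, e⟩
  · exact Or.inl (congrArg ψ e)
  · exact Or.inr ⟨_, ⟨d, rfl⟩, by simp only [cn, ← map_mul, ← map_inv, e]⟩

variable (h : St G)

theorem DT : h.D ≤ h.T := h.DA ▸ inf_le_left

theorem TD : h.T ≤ normalizer (h.D : Set G) := by
  rw [← h.DA]
  exact le_normalizer_inf le_normalizer h.syl.le

theorem zT {t : G} (ht : t ∈ h.T) : cn h.z t = h.z := (h.d8.adj (TD h ht)).1

theorem zC0 : h.z ∈ h.C0 := ⟨DT h h.d8.zD, fun _ hx => (h.d8.zc hx).symm⟩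

theorem KN {u n : G} (hu : u ∈ h.K) (hn : n ∈ h.N) : cn u n ∈ h.K :=
  cn_mem (normalizer_le_normalizer_centralizer _ hn) hu

theorem KN' {u n x : G} (hu : cn u x ∈ h.K) (hn : cn n x ∈ h.N) : cn (cn u n) x ∈ h.K :=
  cn_cn' u n x ▸ KN h hu hn

theorem ti' {u n x : G} (u2 : u * u = 1) (u1 : u ≠ 1) (hu : cn u x ∈ h.K)
    (hn : cn (cn u n) x ∈ h.K) : cn n x ∈ h.N :=
  h.ti _ _ (cn_sq u2 x) (cn_ne u1 x) hu (cn_cn' u n x ▸ hn)

theorem mulK {u v x : G} (hu : cn u x ∈ h.K) (hv : cn v x ∈ h.K) : cn (u * v) x ∈ h.K :=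
  cn_mul u v x ▸ mul_mem hu hv

theorem sqR {c : G} (hc : c ∈ h.C0) : c * c ∈ h.K := by
  have e : c * h.z * (c * h.z) = c * c := by
    rw [mul_assoc, ← mul_assoc h.z, of_cn (zT h hc.1), mul_assoc, h.d8.rel.2.1, mul_one]
  have key : ∀ r : G, r * c = c * r ∨ r * (c * h.z) = c * h.z * r → Commute r (c * c) := by
    rintro r (k | k)
    · exact (show Commute r c from k).mul_right k
    · exact e ▸ (show Commute r (c * h.z) from k).mul_right k
  exact h.iso _ (mul_mem hc hc) (key _ (h.hr.fix c hc)) (key _ (h.hs.fix c hc))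

theorem aK {x : G} (hz : cn h.z x ∈ h.K) (ha : cn (h.a * h.z) x ∈ h.K) : cn h.a x ∈ h.K := by
  have := mulK h ha hz
  rwa [mul_assoc, h.d8.rel.2.1, mul_one] at this

/-- an involution `d c` of `K'` with `d ∈ {a, a z}` and `c ∈ C₀` brings `a` into `K'` -/
theorem jj {x d c : G} (hz : cn h.z x ∈ h.K) (hd : d = h.a ∨ d = h.a * h.z) (hc : c ∈ h.C0)
    (u2 : d * c * (d * c) = 1) (u1 : d * c ≠ 1) (hu : cn (d * c) x ∈ h.K) : cn h.a x ∈ h.K := by
  obtain ⟨a2, z2, -, ab, -⟩ := h.d8.rel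
  have za := h.d8.zc h.d8.aD
  have bD := h.d8.symm.aD
  have r3 : cn (h.a * h.z) h.r = h.z := by
    rw [cn_mul, h.hr.zr, h.hr.ar, mul_assoc, za, ← mul_assoc, a2, one_mul]
  have a3 : cn (h.a * h.z) h.b = h.a := by
    rw [cn_mul, ab, cn_of (h.d8.zc bD), mul_assoc, z2, mul_one]
  have j0 : ∀ ρ c' : G, c' ∈ h.C0 → ρ * c' = c' * ρ → cn h.z ρ * c' = d * c →
      cn (cn h.z (cn h.b ρ)) x ∈ h.K := fun ρ c' hc' k e => by
    refine KN' h hz (ti' h u2 u1 hu ?_)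
    rw [cn_of (x := d * c)]
    · exact hu
    have k1 : Commute (cn h.z ρ) (cn h.b ρ) := by
      show _ = _
      rw [← cn_mul, ← cn_mul, h.d8.zc bD]
    have k2 : Commute c' (cn h.b ρ) :=
      ((show Commute c' ρ from k.symm).inv_right.mul_right (hc'.2 _ bD).symm).mul_right k.symm
    exact e ▸ (k1.mul_left k2).eq
  have j1 : ∀ c' ∈ h.C0, h.r * c' = c' * h.r → h.a * c' = d * c → cn h.a x ∈ h.K :=
    fun c' hc' k e => by
    have := j0 h.r c' hc' k (by rw [h.hr.zr, e])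
    rw [← r3, ← cn_cn', a3, h.hr.ar] at this
    exact aK h (r3 ▸ hz) (r3 ▸ this)
  have j2 : ∀ c' ∈ h.C0, h.r * c' = c' * h.r → h.a * h.z * c' = d * c → cn h.a x ∈ h.K :=
    fun c' hc' k e => by
    have := j0 (h.r * h.r) c' hc' ((show Commute h.r c' from k).mul_left k)
      (by rw [cn_cn, h.hr.zr, h.hr.ar, e])
    have e2 : h.z = cn h.a (h.r * h.r) := by rw [cn_cn, h.hr.ar, r3]
    rwa [e2, ← cn_cn', ab, cn_cn, r3, h.hr.zr] at this
  have cz := mul_mem hc (zC0 h)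
  have zc := of_cn (zT h hc.1)
  rcases hd with rfl | rfl <;> rcases h.hr.fix c hc with k | k
  · exact j1 c hc k rfl
  · exact j2 _ cz k (by rw [← zc, mul_assoc, ← mul_assoc h.z, z2, one_mul])
  · exact j2 c hc k rfl
  · exact j1 _ cz k (by rw [← zc, mul_assoc])

variable [Finite G]

theorem DK {u : G} (hD : u ∈ h.D) (hK : u ∈ h.K) : u = 1 :=
  eq_one_of (O := (center h.A).map h.A.subtype)
    (by rw [card_map_of_injective h.A.subtype_injective]; exact h.sd.2.1) h.sylD.isPGroup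
    ⟨⟨u, h.sylD.le hD⟩, mem_center_iff.2 fun g => Subtype.ext (hK g g.2), rfl⟩ hD

/-- `D` and its conjugate commute -/
theorem cenD {x u : G} (xT : x ∈ normalizer (h.T : Set G)) (hz : cn h.z x ∈ h.K) (uT : u ∈ h.T)
    (hu : cn u x ∈ h.D) : u ∈ h.C0 := by
  refine ⟨uT, fun d hd => ?_⟩
  have nD : ∀ w t, t ∈ h.T → cn w x ∈ h.D → cn (cn w t) x ∈ h.D := fun w t ht hw =>
    cn_cn' w t x ▸ cn_mem (TD h (cn_mem xT ht)) hw
  have iD : ∀ w, cn w x ∈ h.D → cn w⁻¹ x ∈ h.D := fun w hw => by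
    simpa [cn, mul_assoc] using inv_mem hw
  have w1 : d⁻¹ * cn d u ∈ h.D := mul_mem (inv_mem hd) (cn_mem (TD h uT) hd)
  have w2 : cn (d⁻¹ * cn d u) x ∈ h.D := by
    rw [show d⁻¹ * cn d u = cn u⁻¹ d * u by simp only [cn]; group, cn_mul]
    exact mul_mem (nD _ _ (DT h hd) (iD u hu)) hu
  have hz' : cn h.z x ∉ h.D := fun e => cn_ne h.d8.rel.2.2.1 x (DK h e hz)
  by_contra c
  rcases hit h.d8 w1 (fun e => c (of_cn (inv_mul_eq_one.1 e).symm)) with e | ⟨e, he, k⟩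
  · exact hz' (e ▸ w2)
  · exact hz' (by rw [← k, cn_mul]; exact mul_mem (iD _ w2) (nD _ _ (DT h he) w2))

/-- `a z ^ x` does not lie in `K'` unless `a` does -/
theorem jz {x : G} (xT : x ∈ normalizer (h.T : Set G)) (xx : x * x ∈ h.T) (hz : cn h.z x ∈ h.K)
    (ha : cn h.a x * h.z ∈ h.K) : cn h.a x ∈ h.K := by
  have aA := h.sylD.le h.d8.aD
  refine jj h hz (Or.inl rfl) (c := cn h.z x)
    ⟨cn_mem xT (DT h h.d8.zD), fun d hd => hz d (h.sylD.le hd)⟩ ?_ (fun e => ?_) ?_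
  · rw [mul_assoc, ← mul_assoc (cn h.z x), ← hz _ aA, mul_assoc, cn_sq h.d8.rel.2.1, mul_one,
      h.d8.rel.1]
  · exact h.d8.rel.2.2.2.2.2.2.1 (DK h h.d8.aD (eq_inv_of_mul_eq_one_left e ▸ inv_mem hz))
  · rwa [cn_mul, ← cn_cn, zT h xx]

theorem up2 (nz : NzStmt.{u}) : Up2Stmt.{u} := by
  intro G _ _ h h4 h1 hs
  obtain ⟨S, hS, hle, hne⟩ : ∃ S : Subgroup G, IsPGroup 2 S ∧ h.T ≤ S ∧ S ≠ h.T := by
    by_contra! c
    exact hs ⟨le_top, h.syl.isPGroup, fun Q hQ hT _ => c Q hQ hT⟩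
  obtain ⟨y, yS, yN, yT⟩ := H10.exists_mem_normalizer_of_lt hS (lt_of_le_of_ne hle hne.symm)
  obtain ⟨x, xS, xN, xT, xx⟩ : ∃ x ∈ S, x ∈ normalizer (h.T : Set G) ∧ x ∉ h.T ∧ x * x ∈ h.T := by
    obtain ⟨k, hk⟩ := hS ⟨y, yS⟩
    have hk' : y ^ 2 ^ k ∈ h.T := by
      rw [show y ^ 2 ^ k = 1 from congrArg Subtype.val hk]; exact one_mem _
    clear hk
    induction k with
    | zero => exact absurd (by simpa using hk') yT
    | succ k ih =>
      by_cases c : y ^ 2 ^ k ∈ h.T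
      · exact ih c
      · exact ⟨_, pow_mem yS _, pow_mem yN _, c, by rwa [← pow_add, ← two_mul, ← pow_succ']⟩
  have xA : x ∉ h.N := fun c => xT ((h.syl.eq_of_le hS.to_inf_left (le_inf hle h.syl.le)
    inf_le_right).le ⟨xS, c⟩)
  have hz := nz G h h4 x xN xA
  by_cases ha : cn h.a x ∈ h.K
  · exact ⟨⟨h, x, xN, xx, xA, hz, ha⟩, rfl⟩
  by_cases hb : cn h.b x ∈ h.K
  · exact ⟨⟨h.symm, x, xN, xx, xA, hz, hb⟩, rfl⟩
  exfalso
  obtain ⟨a2, z2, z1, -⟩ := h.d8.rel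
  obtain ⟨u, uT, u2, u1, uz, uK⟩ : ∃ u ∈ h.T, u * u = 1 ∧ u ≠ 1 ∧ u ≠ h.z ∧ cn u x ∈ h.K := by
    simp only [St.One, not_forall] at h1
    obtain ⟨v, hv, w, hw, v2, w2, v1, w1, ne⟩ := h1
    have e : ∀ v : G, cn (cn v x⁻¹) x = v := fun v => by simp only [cn]; group
    by_cases c : cn v x⁻¹ = h.z
    · exact ⟨_, cn_mem (inv_mem xN) hw.1, cn_sq w2 _, cn_ne w1 _,
        fun c' => ne (by rw [← e v, c, ← c', e]), (e w).symm ▸ hw.2⟩
    · exact ⟨_, cn_mem (inv_mem xN) hv.1, cn_sq v2 _, cn_ne v1 _, c, (e v).symm ▸ hv.2⟩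
  have u0 : u ∉ h.T0 := fun c0 => by
    obtain ⟨d, hd, c, hc, rfl⟩ := (mem_sup_of_le_normalizer (inf_le_left.trans (TD h))).1 c0
    clear c0
    have d2 : d * d = 1 := DK h (mul_mem hd hd) (by
      rw [mul_assoc, ← mul_assoc c, ← hc.2 d hd, mul_assoc, ← mul_assoc] at u2
      exact eq_inv_of_mul_eq_one_left u2 ▸ inv_mem (sqR h hc))
    have c0 : d * c ∈ h.C0 → False := fun k => by
      have r : ∀ u', u' * u' = 1 → u' ≠ 1 → cn u' x ∈ h.K → h.r * u' = u' * h.r → False :=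
        fun u' p2 p1 pK e => ha (h.hr.zr ▸ KN' h hz (ti' h p2 p1 pK (by rwa [cn_of e.symm])))
      rcases h.hr.fix _ k with e | e
      · exact r _ u2 u1 uK e
      · refine r _ ?_ (fun e => uz ?_) (mulK h uK hz) e
        · rw [mul_assoc (d * c), ← mul_assoc h.z, of_cn (zT h uT), mul_assoc (d * c) h.z, z2, mul_one, u2]
        · rw [eq_inv_of_mul_eq_one_left e, inv_eq_of_mul_eq_one_right z2]
    rcases h.d8.inv hd d2 with e | e | e | e | e | e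
    · exact c0 (by rwa [e, one_mul])
    · exact c0 (e ▸ mul_mem (zC0 h) hc)
    · exact ha (jj h hz (Or.inl e) hc u2 u1 uK)
    · exact ha (jj h hz (Or.inr e) hc u2 u1 uK)
    · exact hb (jj h.symm hz (Or.inl e) hc u2 u1 uK)
    · exact hb (jj h.symm hz (Or.inr e) hc u2 u1 uK)
  have aD : cn (cn h.a x) x ∈ h.D := cn_cn h.a x x ▸ cn_mem (TD h xx) h.d8.aD
  rcases h.out u uT u0 _ (cenD h xN hz (cn_mem xN (DT h h.d8.aD)) aD) (by
    have := uK _ (h.sylD.le aD)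
    rw [← cn_mul, ← cn_mul] at this
    show _ * _ = _ * _
    simpa [cn] using this) with e | e
  exacts [ha e, ha (jz h xN xx hz e)]

end Cfsg.Agent.H69.LtUp
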