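import Cfsg.Agent.H48.M2Defs

/-! M2L-AA: the 2A-pure subgroups of the Monster. -/

set_option autoImplicit false

namespace Cfsg.Agent.H48.M2

open Cfsg Subgroup Cfsg.Agent.H48 Cfsg.Agent.H48.Rec Cfsg.Agent.H49 Cfsg.Agent.H95.Par
open Cfsg.Agent.H97.Gr (DD ZZ)
open Cfsg.Agent.H97.Yt (M)

namespace AA

theorem ne_one {y : M} (h : y ∈ DD) : y ≠ 1 := H97.Gr.mloc.ne y h

theorem pg {y : M} (h : y ∈ DD) : IsPGroup 2 (zpowers y) := by
  refine IsPGroup.of_card (n := 1) ?_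
  have : Fact (Nat.Prime 2) := ⟨Nat.prime_two⟩
  rw [Nat.card_zpowers, orderOf_eq_prime (by rw [pow_two]; exact DD_sq h) (ne_one h), pow_one]

theorem conj {x y : M} (hx : x ∈ DD) (hy : y ∈ DD) : ∃ g, g * x * g⁻¹ = y :=
  isConj_iff.1 (IsConj.trans (IsConj.symm hx) hy)

end AA

open AA in
theorem aa_of : AaStmt := by
  have hx : H97.Gr.x0 ∈ DD := IsConj.refl _
  obtain ⟨y, hy⟩ := H97.Gr.nb_ne _ hx
  obtain ⟨hy, hxy⟩ := H97.Mj.mem_nb.1 hy
  generalize H97.Gr.x0 = x at hx hxy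
  have cm : x * y = y * x := H95.Par.comm_of_sq (DD_sq hx) (DD_sq hy) (DD_sq hxy)
  have nb : zpowers x ≠ ⊥ := by rw [Ne, zpowers_eq_bot]; exact ne_one hx
  refine ⟨![zpowers x, zpowers x ⊔ zpowers y], ?_, fun V hV hD => ?_⟩
  · intro i
    fin_cases i
    · exact ⟨pg hx, nb⟩
    · refine ⟨(pg hx).to_sup_of_normal_right' (pg hy) ((zpowers_le).2 ?_), fun e => nb ?_⟩
      · refine centralizer_le_normalizer _ (mem_centralizer_iff.2 ?_)
        rintro _ ⟨k, rfl⟩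
        exact ((show Commute x y from cm).zpow_right k).symm.eq
      · exact le_bot_iff.1 (le_sup_left.trans (le_of_eq e))
  obtain ⟨⟨a, ha⟩, a1⟩ := (ne_bot_iff_exists_ne_one).1 hV
  have aD : a ∈ DD := hD a ha fun e => a1 (Subtype.ext e)
  obtain ⟨g, hg⟩ := conj hx aD
  by_cases h1 : V ≤ zpowers a
  · refine ⟨0, g, ?_⟩
    change V = cj (zpowers x) g
    rw [cj_zpowers, hg]
    exact le_antisymm h1 (zpowers_le.2 ha)
  obtain ⟨b, hb, ba⟩ := SetLike.not_le_iff_exists.1 h1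
  have bD : b ∈ DD := hD b hb fun e => ba (e ▸ one_mem _)
  have abD : a * b ∈ DD := hD _ (mul_mem ha hb) fun e =>
    ba (eq_inv_of_mul_eq_one_right e ▸ inv_mem (mem_zpowers a))
  have h2 : a * (g * y * g⁻¹) ∈ DD := by
    rw [← hg, conj_mul]; exact DD_cj g hxy
  obtain ⟨k, k1, k2⟩ := H97.Gr.trans_nb aD (DD_cj g hy) bD h2 abD
  refine ⟨1, k * g, ?_⟩
  change V = cj (zpowers x ⊔ zpowers y) (k * g)
  have e1 : k * g * x * (k * g)⁻¹ = a := by
    calc k * g * x * (k * g)⁻¹ = k * (g * x * g⁻¹) * k⁻¹ := by group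
      _ = a := by rw [hg, k1, mul_inv_cancel_right]
  have e2 : k * g * y * (k * g)⁻¹ = b := by rw [← k2]; group
  rw [cj_sup, cj_zpowers, cj_zpowers, e1, e2]
  refine le_antisymm (fun c hc => ?_) (sup_le (zpowers_le.2 ha) (zpowers_le.2 hb))
  by_contra hn
  have ma : a ∈ zpowers a ⊔ zpowers b := mem_sup_left (mem_zpowers a)
  have mb : b ∈ zpowers a ⊔ zpowers b := mem_sup_right (mem_zpowers b)
  have key : ∀ d ∈ V, d ∈ zpowers a ⊔ zpowers b → d * c ∈ DD := fun d hd hd' =>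
    hD _ (mul_mem hd hc) fun e => hn (eq_inv_of_mul_eq_one_right e ▸ inv_mem hd')
  exact H97.Gr.mloc.no_pure aD bD (by simpa using key 1 (one_mem _) (one_mem _)) abD
    (key a ha ma) (key b hb mb) (by rw [← mul_assoc]; exact key _ (mul_mem ha hb) (mul_mem ma mb))

end Cfsg.Agent.H48.M2
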