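import Cfsg.Agent.H45.OnDefs

/-!
# ON-E1: involutions of components normalize the components at their fixed points
-/

set_option autoImplicit false

namespace Cfsg.Agent.H69.OnE1

open Cfsg.Agent.H45.On

universe u v

theorem e1 (sim : SimStmt.{u}) (inv : InvStmt.{u}) (e1a : E1aStmt.{u, v}) (r2 : R2Stmt.{u, v}) :
    E1Stmt.{u, v} := by
  intro G Ω _ _ _ _ S T
  have sm : ∀ {x M}, S.C x M → _ := fun {x M} h => sim M (S.simple h) (S.nab h)
  have E : S.E1 := by
    intro x y M M' b hM hM' hb ib bx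
    by_cases hxy : x = y
    · subst hxy
      by_cases e : M = M'
      · subst e; exact cj_self hb
      · exact cj_of_comm fun m hm => (S.comm hM hM' e m hm b hb).symm
    by_contra hne
    have hst : St M y = ⊥ := (e1a S T).1 x y M M' b hM hM' hb ib bx hne
    have j0 : S.J0 := by
      intro x' y' h'
      obtain ⟨g, g1, g2⟩ := S.tr2 x y x' y' hxy h'
      refine ⟨cj g M, g1 ▸ S.conj g hM, ?_⟩
      rw [eq_bot_iff]
      intro a ha
      have h1 : g⁻¹ * a * g ∈ St M y := by
        refine ⟨mem_cj.1 ha.1, ?_⟩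
        have h2 : a • y' = y' := ha.2
        change (g⁻¹ * a * g) • y = y
        rw [mul_smul, mul_smul, g2, h2, ← g2, inv_smul_smul]
      rw [hst, Subgroup.mem_bot] at h1
      rw [Subgroup.mem_bot]
      calc a = g * (g⁻¹ * a * g) * g⁻¹ := by group
        _ = 1 := by rw [h1]; group
    have R : S.R1 := (e1a S T).2 j0
    have hM2 : S.C x (cj b M) := by
      have := S.conj b hM
      rwa [bx] at this
    have cm : Cm M (cj b M) := S.comm hM hM2 (Ne.symm hne)
    obtain ⟨⟨s, hs, -, -, is, -⟩, hc2, -, -, -, hz⟩ := sm hM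
    have hz2 := (sm hM2).2.2.2.2.2
    have sy : y ≠ s • y := by
      intro h
      have : s ∈ St M y := ⟨hs, h.symm⟩
      rw [hst, Subgroup.mem_bot] at this
      exact is.2 this
    have bi : b⁻¹ = b := inv_eq_of_mul_eq_one_right ib.1
    have si : s⁻¹ = s := inv_eq_of_mul_eq_one_right is.1
    have hs2 : b * s * b⁻¹ ∈ cj b M := cj_mem hs
    have ec : b * (s * b * s⁻¹) = b * s * b⁻¹ * s := by rw [bi, si]; group
    have ec' : s * b * s⁻¹ * b = s * (b * s * b⁻¹) := by rw [bi, si]; group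
    have ib' : Inv (s * b * s⁻¹) := by
      refine ⟨?_, fun h => ib.2 (by simpa using h)⟩
      calc s * b * s⁻¹ * (s * b * s⁻¹) = s * (b * b) * s⁻¹ := by group
        _ = 1 := by rw [ib.1]; group
    obtain ⟨z, M'', hM'', hc⟩ := r2 S T R y (s • y) M' (cj s M') b (s * b * s⁻¹) hM' (S.conj s hM')
      sy hb (cj_mem hb) ib ib' (by rw [ec, ec', cm s hs _ hs2])
    rw [ec] at hc
    have s21 : b * s * b⁻¹ ≠ 1 := fun h => is.2 (by simpa using h)
    generalize b * s * b⁻¹ = s2 at hs2 hc s21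
    have k1 : ¬ ∀ m ∈ M, s2 * s * m = m * (s2 * s) := fun h => is.2 (hz s hs fun m hm => by
      have h1 := h m hm
      rw [← mul_assoc, cm m hm _ hs2, mul_assoc, mul_assoc] at h1
      exact mul_left_cancel h1)
    have k2 : ¬ ∀ m ∈ cj b M, s2 * s * m = m * (s2 * s) := fun h => s21 (hz2 s2 hs2 fun m hm => by
      have h1 := h m hm
      rw [mul_assoc, cm s hs m hm, ← mul_assoc, ← mul_assoc] at h1
      exact mul_right_cancel h1)
    have c1 : s2 * s ≠ 1 := fun h => k1 fun m _ => by rw [h, one_mul, mul_one]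
    have zx : x ≠ z := by
      rintro rfl
      by_cases e : M'' = M
      · subst e
        exact k2 fun m hm => cm _ hc m hm
      · exact k1 fun m hm => S.comm hM'' hM e _ hc m hm
    obtain ⟨t, ht, it, ts, st⟩ := hc2 s hs is
    have f : ∀ a ∈ M, a * s = s * a → a ∈ St M z := fun a ha h =>
      ⟨ha, (T.cn hM'' hc c1 (by rw [← mul_assoc, cm a ha _ hs2, mul_assoc, h, mul_assoc])).2⟩
    exact R x z M hM zx ⟨s, f s hs rfl, t, f t ht st.symm, is, it, ts.symm, st⟩
  refine ⟨E, fun x y M hM => ?_⟩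
  obtain ⟨s, hs, -, -, is, -⟩ := (sm hM).1
  by_cases hxy : x = y
  · subst hxy
    exact ⟨s, hs, is, S.fx hM s hs⟩
  obtain ⟨M', b, hM', hb, ib, bx⟩ := T.ev y x (Ne.symm hxy)
  obtain ⟨a, ha, ia, ab⟩ := inv M b ib.1 (E x y M M' b hM hM' hb ib bx) ⟨s, hs, is⟩
  exact ⟨a, ha, ia, (T.cn hM' hb ib.2 ab.symm).2⟩

end Cfsg.Agent.H69.OnE1
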