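import Mathlib
import Cfsg.Agent.Lead.T3Defs

/-!
# Project T3: pieces SG0 and EXT
-/

set_option autoImplicit false

namespace Cfsg.Agent.H69.T3

open Cfsg.Agent.H35 Cfsg.Agent.Lead.T3

universe u

theorem len_w0 {I W : Type} [Group W] [Finite W] (X : Cox I W) (v : W) :
    X.len v + X.len (v⁻¹ * X.w0) = X.len X.w0 :=
  X.exch.len_add_isLongest (X.wJ_spec Set.univ) (by
    obtain ⟨l, rfl⟩ := X.wp_surjective v
    exact X.wp_mem_closure fun _ _ => trivial)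

theorem proj_apt (ba1 : Ba1Stmt.{u}) {I W : Type} [Group W] [Finite W] {X : Cox I W} {C : Type u}
    [Finite C] (B : Bld X C) {σ : W → C} (h : B.Apt σ) (J : Set I) (w : W) {x : C}
    (hx : x ∈ B.res J (σ w)) :
    B.δ x (σ (w * X.w0)) = B.δ x (σ (w * X.wJ J)) * ((X.wJ J)⁻¹ * X.w0) := by
  obtain ⟨-, -, -, -, -, -, h7, h8, -⟩ := ba1 B
  have e : B.δ (σ (w * X.wJ J)) (σ (w * X.w0)) = (X.wJ J)⁻¹ * X.w0 := by rw [h]; group
  have hp : B.proj J (σ w) (σ (w * X.w0)) = σ (w * X.wJ J) := h8 _ _ _ _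
    (by rw [Bld.res, Set.mem_ofPred_eq, h, inv_mul_cancel_left]; exact (X.wJ_spec J).1)
    fun j hj => by
      have h1 := len_w0 X (X.wJ J)
      have h2 := len_w0 X (X.wJ J * X.s j)
      have h3 := (X.wJ_spec J).right j hj
      rw [mul_inv_rev, InvGen.inv_s, mul_assoc] at h2
      rw [e]
      omega
  have := ((h7 J (σ w) (σ (w * X.w0))).2.2 x hx).1
  rwa [hp, e] at this

theorem sg0Stmt (ba1 : Ba1Stmt.{u}) : Sg0Stmt.{u} := by
  intro I W _ _ X C C' _ _ B B' σ σ' φ w h h' g e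
  have m : ∀ {J : Set I} {v : W}, v ∈ X.WJ J → σ (w * v) ∈ B.res J (σ w) := fun hv => by
    rwa [Bld.res, Set.mem_ofPred_eq, h, inv_mul_cancel_left]
  have m1 : ∀ J, σ w ∈ B.res J (σ w) := fun J => (ba1 B).2.2.2.1 J _
  refine ⟨fun k i j v hv => ?_, fun k => ⟨by rw [h, inv_mul_cancel_left], fun x ⟨i, j, hx⟩ => ?_⟩⟩
  · have h1 := (g i j).1 _ (m1 _) _ (m hv)
    have h2 := k.2 _ ⟨i, j, m hv⟩
    rw [e, h, inv_mul_cancel_left] at h1
    rw [h] at h2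
    refine (ba1 B').2.2.2.2.2.2.2.2.1 (σ' w) (σ' (w * X.w0)) _ _
      (by rw [h1, h', inv_mul_cancel_left]) (by rw [h2, h']) ?_
    rw [h1, h2, h', inv_mul_cancel_left, mul_inv_rev, mul_assoc, inv_mul_cancel_left, len_w0]
  · have h1 := (g i j).1 _ (m1 _) _ hx
    have hx' : φ x ∈ B'.res {i, j} (σ' w) := by rwa [Bld.res, Set.mem_ofPred_eq, ← e, h1]
    rw [proj_apt ba1 B h _ w hx, proj_apt ba1 B' h' _ w hx', ← k i j _ (X.wJ_spec _).1,
      (g i j).1 _ hx _ (m (X.wJ_spec _).1)]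

theorem extStmt (cx : CxStmt) (ba1 : Ba1Stmt.{u}) (link : LinkStmt.{u}) (sig : SigStmt.{u})
    (glob : GlobStmt.{u}) : ExtStmt.{u} := by
  intro I W _ _ X C C' _ _ B B' hI hM σ σ' φ h h' g e
  obtain ⟨l1, l2, l3, -⟩ := link B B'
  have ww : X.w0 * X.w0 = 1 := (cx X).1 _
  have ww' : ∀ w, X.w0 * (X.w0 * w) = w := fun w => by rw [← mul_assoc, ww, one_mul]
  have e1 : φ (σ 1) = σ' 1 := by
    obtain ⟨i⟩ : Nonempty I := inferInstance
    exact e i i 1 (one_mem _)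
  have c1 := (sg0Stmt ba1 B B' σ σ' φ 1 h h' g e1).2 fun i j v hv => by
    rw [one_mul]; exact e i j v hv
  rw [one_mul] at c1
  obtain ⟨ψ, gψ, eψ, lk⟩ := l1 φ _ _ _ g c1
  have lk' := (l2 _ _ _ _ lk).1
  have c2 := (l2 _ _ _ _ lk').2
  rw [e1] at c2
  have e2 := (sg0Stmt ba1 B B' σ σ' ψ X.w0 h h' gψ eψ).1 (by rwa [ww])
  obtain ⟨Φ, hΦ, e3⟩ := sig B B' hI hM (fun w => σ (X.w0 * w)) (fun w => σ' (X.w0 * w)) ψ
    (fun u w => by rw [h]; group) (fun u w => by rw [h']; group) (by rwa [mul_one]) e2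
  rw [mul_one] at e3
  obtain ⟨f, f1, f2, f3⟩ := glob B B' hI σ σ' (fun w => Φ (X.w0 * w)) h h'
    ⟨fun w => by simpa only [ww'] using hΦ.germ (X.w0 * w),
      fun w i j v hv => by simpa only [mul_assoc, ww'] using hΦ.apt (X.w0 * w) i j v hv,
      fun w i j => by simpa only [mul_assoc, ww'] using hΦ.coh (X.w0 * w) i j⟩
  rw [ww] at f3
  have lf : B.Link B' f (σ 1) ψ (σ X.w0) := ⟨f3.1, fun i j x hx y hy => by
    rw [← e3 ⟨_, _, hy⟩]; exact f3.2 i j x hx y hy⟩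
  have gf : B.Germ B' f (σ 1) := fun i j => ⟨fun x _ y _ => f1 x y, fun y hy =>
    ⟨f.symm y, by rwa [Bld.res, Set.mem_ofPred_eq, ← f1, f.apply_symm_apply], f.apply_symm_apply y⟩⟩
  refine ⟨f, f1, f2, fun x ⟨i, j, hx⟩ => ?_⟩
  have o := fun i => ((cx X).2.2.1 Set.univ i trivial).2.2
  refine l3 ψ f ψ φ _ _ _ _ (X.op Set.univ i) (X.op Set.univ j) gψ gf g (l2 _ _ _ _ lf).1 lk'
    ((ba1 B).2.2.2.1 _ _) (fun _ _ => rfl) ((ba1 B).2.2.2.1 _ _) ?_ (by rwa [o, o])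
  rw [e1, f2]
  exact (ba1 B').2.2.2.1 _ _

end Cfsg.Agent.H69.T3
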