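import Mathlib
import Cfsg.Agent.Lead.T3Defs

/-!
# Project T3: pieces QCE and QC1
-/

set_option autoImplicit false

namespace Cfsg.Agent.H69.T3Q

open Cfsg.Agent.H35 Cfsg.Agent.Lead.T3 Equiv

universe u

/-- Transport of the data along an isomorphism. -/
def qmap {F : Type} [Field F] {Y Y' : Type u} [Group Y] [Group Y'] (d : QD F Y) (e : Y ≃* Y') :
    QD F Y' where
  σ := d.σ
  sm t y := e (d.sm t (e.symm y))
  Q y := d.Q (e.symm y)
  Bf y y' := d.Bf (e.symm y) (e.symm y')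
  z t := e (d.z t)
  sm_mul t y y' := by rw [map_mul, d.sm_mul, map_mul]
  sm_one y := by rw [d.sm_one, e.apply_symm_apply]
  sm_zero y := by rw [d.sm_zero, map_one]
  sm_sm s t y := by rw [e.symm_apply_apply, d.sm_sm]
  sm_add s t y := by rw [d.sm_add, map_mul, map_mul]
  Q_sm t y := by rw [e.symm_apply_apply, d.Q_sm]
  Q_mul y y' := by rw [map_mul, d.Q_mul]
  Q_ne y h := e.symm.map_eq_one_iff.1 (d.Q_ne _ h)
  B_left a b y := by rw [map_mul, d.B_left]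
  B_right y a b := by rw [map_mul, d.B_right]
  B_sml t y y' := by rw [e.symm_apply_apply, d.B_sml]
  B_smr t y y' := by rw [e.symm_apply_apply, d.B_smr]
  B_z y t := by rw [e.symm_apply_apply, d.B_z]
  z_add s t := by rw [d.z_add, map_mul]
  z_comm t y := by
    obtain ⟨y, rfl⟩ := e.surjective y
    rw [← map_mul, d.z_comm, map_mul]
  sm_z s t := by rw [e.symm_apply_apply, d.sm_z]

section Push

variable {Γ : Type u} [Group Γ] {S : Subgroup Γ} (r : S →* Γ)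

/-- `r` maps `U` isomorphically onto `V`. -/
structure Bj (U V : Subgroup Γ) : Prop where
  le : U ≤ S
  mem : ∀ g : S, g.1 ∈ U → r g ∈ V
  inj : ∀ g : S, g.1 ∈ U → r g = 1 → g = 1
  sur : ∀ h ∈ V, ∃ g : S, g.1 ∈ U ∧ r g = h

variable {r}

theorem Bj.eq {U V : Subgroup Γ} (b : Bj r U V) {g h : S} (hg : g.1 ∈ U) (hh : h.1 ∈ U)
    (e : r g = r h) : g.1 = h.1 :=
  congrArg Subtype.val (inv_mul_eq_one.1 (b.inj (g⁻¹ * h) (mul_mem (inv_mem hg) hh)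
    (by rw [map_mul, map_inv, e, inv_mul_cancel])))

theorem Bj.equiv {U V : Subgroup Γ} (b : Bj r U V) :
    ∃ e : U ≃* V, ∀ y : U, (e y : Γ) = r ⟨y, b.le y.2⟩ :=
  ⟨MulEquiv.ofBijective ((r.comp (Subgroup.inclusion b.le)).codRestrict V fun y => b.mem _ y.2)
    ⟨fun y z e => Subtype.ext (b.eq (g := ⟨y, b.le y.2⟩) (h := ⟨z, b.le z.2⟩) y.2 z.2
      (congrArg Subtype.val e)), fun h => by
      obtain ⟨g, hg, e⟩ := b.sur h h.2
      exact ⟨⟨g, hg⟩, Subtype.ext e⟩⟩, fun _ => rfl⟩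

theorem push {F : Type} [Field F] {U1 U2 U3 U4 V1 V2 V3 V4 : Subgroup Γ} {d : QD F U4}
    {x1 x3 : F → Γ} {a : U4 →* Γ} (h : QRel U1 U2 U3 U4 d x1 x3 a) (b1 : Bj r U1 V1)
    (b2 : Bj r U2 V2) (b3 : Bj r U3 V3) (b4 : Bj r U4 V4) :
    ∃ (d' : QD F V4) (y1 y3 : F → Γ) (a' : V4 →* Γ), QRel V1 V2 V3 V4 d' y1 y3 a' ∧
      ∀ s, ∃ g : S, g.1 = x1 s ∧ y1 s = r g := by
  obtain ⟨e, he⟩ := b4.equiv
  have m1 : ∀ s, x1 s ∈ U1 := fun s => (h.mem1 _).2 ⟨s, rfl⟩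
  have m3 : ∀ s, x3 s ∈ U3 := fun s => (h.mem3 _).2 ⟨s, rfl⟩
  have m2 : ∀ y, a y ∈ U2 := fun y => h.mem2.le ⟨y, rfl⟩
  let X1 : F → S := fun s => ⟨x1 s, b1.le (m1 s)⟩
  let X3 : F → S := fun s => ⟨x3 s, b3.le (m3 s)⟩
  let A : U4 →* S := a.codRestrict S fun y => b2.le (m2 y)
  let A' : V4 →* Γ := (r.comp A).comp e.symm.toMonoidHom
  have hA : ∀ y, A' (e y) = r (A y) := fun y => congrArg (fun z => r (A z)) (e.symm_apply_apply y)
  refine ⟨qmap d e, fun s => r (X1 s), fun s => r (X3 s), A', ⟨fun s t => ?_, fun s t k => ?_,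
    fun g => ⟨fun hg => ?_, ?_⟩, fun s t => ?_, fun s t k => ?_, fun g => ⟨fun hg => ?_, ?_⟩,
    fun y z k => ?_, le_antisymm ?_ fun g hg => ?_, fun s y => ?_, fun y t => ?_, fun t y => ?_,
    fun s t => ?_, fun y z => ?_, fun s y => ?_⟩, fun s => ⟨X1 s, rfl, rfl⟩⟩
  · rw [← map_mul]; exact congrArg r (Subtype.ext (h.add1 s t))
  · exact h.inj1 (b1.eq (m1 s) (m1 t) k)
  · obtain ⟨g, k, rfl⟩ := b1.sur g hg
    obtain ⟨t, k'⟩ := (h.mem1 _).1 k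
    exact ⟨t, congrArg r (Subtype.ext k')⟩
  · rintro ⟨t, rfl⟩; exact b1.mem _ (m1 t)
  · rw [← map_mul]; exact congrArg r (Subtype.ext (h.add3 s t))
  · exact h.inj3 (b3.eq (m3 s) (m3 t) k)
  · obtain ⟨g, k, rfl⟩ := b3.sur g hg
    obtain ⟨t, k'⟩ := (h.mem3 _).1 k
    exact ⟨t, congrArg r (Subtype.ext k')⟩
  · rintro ⟨t, rfl⟩; exact b3.mem _ (m3 t)
  · exact e.symm.injective (h.inj2 (b2.eq (m2 _) (m2 _) k))
  · rintro _ ⟨y, rfl⟩; exact b2.mem _ (m2 _)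
  · obtain ⟨g, k, rfl⟩ := b2.sur g hg
    obtain ⟨y, k'⟩ := h.mem2.ge k
    exact ⟨e y, (hA y).trans (congrArg r (Subtype.ext k'))⟩
  · obtain ⟨y, rfl⟩ := e.surjective y
    rw [hA, ← map_mul, ← map_mul]; exact congrArg r (Subtype.ext (h.c12 s y))
  · obtain ⟨y, rfl⟩ := e.surjective y
    rw [hA, ← map_mul, ← map_mul]; exact congrArg r (Subtype.ext (h.c23 y t))
  · obtain ⟨y, rfl⟩ := e.surjective y
    rw [he, ← map_mul, ← map_mul]; exact congrArg r (Subtype.ext (h.c34 t y))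
  · change _ = A' (e _) * _
    rw [hA, ← map_inv, ← map_mul, ← map_mul, ← map_mul]
    exact congrArg r (Subtype.ext (h.r13 s t))
  · obtain ⟨y, rfl⟩ := e.surjective y
    obtain ⟨z, rfl⟩ := e.surjective z
    change _ = _ * r (X3 (d.Bf (e.symm (e y)) (e.symm (e z))))
    rw [hA, he, e.symm_apply_apply, e.symm_apply_apply, ← map_inv, ← map_mul, ← map_mul, ← map_mul]
    exact congrArg r (Subtype.ext (h.r24 y z))
  · obtain ⟨y, rfl⟩ := e.surjective y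
    change _ = A' (e (d.sm s (e.symm (e y)))) * r (X3 (s * d.Q (e.symm (e y)))) * _
    rw [hA, he, e.symm_apply_apply, ← map_inv, ← map_mul, ← map_mul, ← map_mul, ← map_mul]
    exact congrArg r (Subtype.ext (h.r14 s y))

end Push

theorem m_symm {I W : Type} [Group W] (X : Cox I W) (i j : I) : X.m i j = X.m j i := by
  rw [Cox.m, Cox.m, ← orderOf_inv, mul_inv_rev, InvGen.inv_s, InvGen.inv_s]

theorem qceStmt (mou : MouStmt.{u}) (res : ResStmt.{u}) (stp : StpStmt.{u}) (win : WinStmt.{u})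
    (qa : QaStmt.{u}) : QceStmt.{u} := by
  intro I W _ _ X C _ B σ i j k F _ _ κ κ' h tri pc
  have hM := mou B i j k (Or.inr tri) (σ 1)
  obtain ⟨x, hx⟩ := stp B σ {i, j, k} i j F κ κ' h (by simp) (by simp) hM pc
  obtain ⟨x3, x3', hw⟩ := win B σ i j k F κ κ' x h tri hM hx
  obtain ⟨d, a, hq⟩ := qa _ _ _ _ _ _ _ _ _ hw
  have sub : ({j, k} : Set I) ⊆ {i, j, k} := Set.subset_insert _ _
  obtain ⟨S, r, -, r2, r3⟩ := (res B).2 σ {j, k} {i, j, k} h sub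
  have sj : X.s j ∈ X.WJ {j, k} := InvGen.s_mem_closure (by simp)
  have sk : X.s k ∈ X.WJ {j, k} := InvGen.s_mem_closure (by simp)
  have bj : ∀ v ∈ X.WJ {j, k}, ∀ l ∈ ({j, k} : Set I),
      Bj r (B.R σ {i, j, k} v l) (B.R σ {j, k} v l) := fun v hv l hl => by
    obtain ⟨a1, a2, a3⟩ := r3 v hv l hl
    obtain ⟨a4, a5⟩ := a3 hM (by
      rcases hl with rfl | rfl
      · exact ⟨k, by simp, by rw [tri.2.1]; omega⟩
      · exact ⟨j, by simp, by rw [m_symm, tri.2.1]; omega⟩)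
    exact ⟨a1, a2, a4, a5⟩
  obtain ⟨d', y1, y3, a', hq', e⟩ := push hq (bj _ (one_mem _) _ (by simp)) (bj _ sj _ (by simp))
    (bj _ (mul_mem sj sk) _ (by simp)) (bj _ (one_mem _) _ (by simp))
  refine ⟨d', tri.2.1, (res B).1 _ _ _ sub hM, y1, y3, a', hq', fun s => ?_⟩
  obtain ⟨g, e1, e2⟩ := e s
  rw [e2, (r2 g).2 _ (by rwa [Bld.res, Set.mem_ofPred_eq, h, inv_one, one_mul]), e1, hx.kj]

theorem qc1Stmt (cx : CxStmt) (rt : RtStmt) (free : FreeStmt.{u}) : Qc1Stmt.{u} := by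
  intro I W _ _ X C _ B σ j k F _ κ d h ⟨h4, hM, x1, x3, a, q, _⟩
  have h4' : X.m k j = 4 := (m_symm X k j).trans h4
  have mem : ∀ v ∈ X.WJ {j, k}, σ v ∈ B.res {j, k} (σ 1) := fun v hv => by
    rwa [Bld.res, Set.mem_ofPred_eq, h, inv_one, one_mul]
  have sk : X.s k ∈ X.WJ {j, k} := InvGen.s_mem_closure (by simp)
  have pk : σ (X.s k) ∈ B.pan (σ 1) k := by rw [Bld.pan, Set.mem_ofPred_eq, h, inv_one, one_mul]
  have bij : Set.BijOn (fun y : B.R σ {j, k} 1 k => y.1 (σ (X.s k))) Set.univ (B.pan (σ 1) k) := by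
    refine ⟨fun y _ => ?_, fun y _ z _ e => ?_, fun c hc => ?_⟩
    · have h1 := y.2.1.2 _ (mem 1 (one_mem _)) _ (mem _ sk)
      rw [y.2.2.1 1 (one_mem _) ((rt X).1 1 k)] at h1
      exact h1.trans pk
    · exact inv_mul_eq_one.1 (Subtype.ext ((free B σ {j, k} h).1 1 (one_mem _) k (by simp)
        ⟨j, by simp, by omega⟩ _ (y⁻¹ * z).2 _ pk (Perm.inv_eq_iff_eq.2 e.symm)))
    · obtain ⟨g, hg, e⟩ := hM σ h (mem 1 (one_mem _)) 1 (one_mem _) k (by simp) _ pk c hc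
      exact ⟨⟨g, hg⟩, trivial, e⟩
  refine ⟨?_, ?_, ⟨fun H t => q.inj2 ?_, fun H g hg g' hg' => ?_⟩, fun H g hg g' hg' => ?_, bij⟩
  · exact (Nat.card_congr (Equiv.Set.univ _)).symm.trans (Nat.card_congr bij.equiv)
  · obtain ⟨y, z, ne, hy, hz⟩ := B.thick k (σ 1)
    obtain ⟨g, -, rfl⟩ := bij.2.2 hy
    obtain ⟨g', -, rfl⟩ := bij.2.2 hz
    exact ⟨g, g', fun e => ne (e ▸ rfl)⟩
  · have e := q.r13 1 t
    rw [H _ ((q.mem1 _).2 ⟨1, rfl⟩) _ ((q.mem3 _).2 ⟨t, rfl⟩), mul_inv_cancel_right, map_one,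
      one_mul, right_eq_mul] at e
    rw [e, map_one]
  · obtain ⟨s, rfl⟩ := (q.mem1 _).1 hg
    obtain ⟨t, rfl⟩ := (q.mem3 _).1 hg'
    have e := q.r13 s t
    rwa [H, map_one, one_mul, mul_inv_eq_iff_eq_mul] at e
  · have jk : j ≠ k := by
      rintro rfl
      rw [Cox.m, X.s_mul_s, orderOf_one] at h4
      omega
    have l3 := ((cx X).2.2.2.2.2.2.2 j k jk).1 3 (by omega)
    have l4 := ((cx X).2.2.2.2.2.2.2 k j jk.symm).1 4 (by omega)
    have p4 : (X.s j * X.s k) ^ 4 = 1 := h4 ▸ pow_orderOf_eq_one _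
    have e : X.rt (X.s k * X.s j) k = X.rt (X.s j) k := by
      refine (rt X).2.2.2.1 _ _ _ _ ?_ ?_
      · simp only [Cox.rf, mul_inv_rev, InvGen.inv_s]
        have a1 := X.s_mul_s j
        have a2 := X.s_mul_s k
        generalize X.s j = s at *
        generalize X.s k = t at *
        have b1 : s⁻¹ = s := inv_eq_of_mul_eq_one_right a1
        have b2 : t⁻¹ = t := inv_eq_of_mul_eq_one_right a2
        calc s * t * s = (s * t) ^ 4 * (t⁻¹ * s⁻¹ * t⁻¹ * (s⁻¹ * t⁻¹)) := by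
              simp only [pow_succ, pow_zero]; group
          _ = _ := by rw [p4, one_mul, b1, b2]
      · simp only [InvGen.altw, InvGen.wp_cons, InvGen.wp_nil, mul_one] at l3 l4
        rw [Cox.rt, Set.mem_ofPred_eq, InvGen.inv_s, l3, l4]
        omega
    rw [Set.pair_comm k j] at hg hg'
    rw [Bld.R, e] at hg'
    obtain ⟨y, rfl⟩ := q.mem2.ge hg'
    have e0 : x3 0 = 1 := by simpa using q.add3 0 0
    have e1 := q.r24 ⟨g, hg⟩ y
    rwa [H, e0, mul_one, mul_inv_eq_iff_eq_mul] at e1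

end Cfsg.Agent.H69.T3Q
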