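import Cfsg.Agent.H17.TwA
import Cfsg.Agent.S0144

/-!
# The centraliser of the third four group: facts in the model
-/

set_option autoImplicit false
set_option maxRecDepth 100000
set_option exponentiation.threshold 10000

namespace Cfsg.Agent.H69.TwV3

open Equiv Subgroup Cfsg.Agent.H89.TG Cfsg.Agent.H89.Rec Cfsg.Agent.H17.Ya Cfsg.Agent.H17.Tw

/-- The element fixes the last four points. -/
def Fx4 (w : El) : Prop :=
  ap w.val 8 = 8 ∧ ap w.val 9 = 9 ∧ ap w.val 10 = 10 ∧ ap w.val 11 = 11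

theorem fx4_iff {w : El} : Fx4 w ↔ ∀ i : Fin 12, 8 ≤ i.val → pm w i = i := by
  constructor
  · rintro ⟨h1, h2, h3, h4⟩ i hi
    refine Fin.ext ((ap_val w i).symm.trans ?_)
    obtain ⟨i, hi'⟩ := i
    dsimp only at hi ⊢
    interval_cases i <;> assumption
  · intro h
    exact ⟨(ap_val w 8).trans (congrArg Fin.val (h 8 (by decide))),
      (ap_val w 9).trans (congrArg Fin.val (h 9 (by decide))),
      (ap_val w 10).trans (congrArg Fin.val (h 10 (by decide))),
      (ap_val w 11).trans (congrArg Fin.val (h 11 (by decide)))⟩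

/-- The Sylow subgroup of the alternating group on the first eight points. -/
def T1 : Subgroup T where
  carrier := {u | ∀ i : Fin 12, 8 ≤ i.val → pm (u : El) i = i}
  one_mem' := by simp
  mul_mem' := fun {a b} ha hb i hi => by
    rw [coe_mul, map_mul, Perm.mul_apply, hb i hi, ha i hi]
  inv_mem' := fun {a} ha i hi => by
    rw [coe_inv, map_inv, Perm.inv_eq_iff_eq, ha i hi]

theorem mem_T1 {u : T} : u ∈ T1 ↔ Fx4 u := fx4_iff.symm

/-- The third four group. -/
def V3 : Subgroup T where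
  carrier := {u | ∃ i < 4, u = tv (16 * i)}
  one_mem' := ⟨0, by decide, tv0.symm⟩
  mul_mem' := by
    rintro _ _ ⟨a, ha, rfl⟩ ⟨b, hb, rfl⟩
    have : ∀ a < 4, ∀ b < 4, a ^^^ b < 4 ∧ (16 * a) ^^^ (16 * b) = 16 * (a ^^^ b) := by decide
    exact ⟨_, (this a ha b hb).1, (this a ha b hb).2 ▸ tv_mul (by omega) (by omega)⟩
  inv_mem' := by
    rintro _ ⟨a, ha, rfl⟩
    exact ⟨a, ha, inv_eq_of_mul_eq_one_right (tv_sq (by omega))⟩

/-- Decide a closed statement. -/
macro "kdv" : tactic => `(tactic| ((try simp only [Fx4]); kdt))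

/-- Decide a statement about all elements. -/
macro "wdv" : tactic => `(tactic| ((try simp only [Fx4]); wdt))

theorem split0 : ∀ w : El, w ∈ T → Commute w (av 32) → Commute w (av 48) →
    ∃ i < 4, Fx4 (av (16 * i) * w) := by wdv

theorem comm0 : ∀ w : El, Fx4 w → Commute w (av 32) ∧ Commute w (av 48) := by wdv

theorem nrm0 : ∀ w : El, w ∈ T → (w⁻¹ * av 32 * w = av 32 ∧ w⁻¹ * av 48 * w = av 48) ∨
    (w⁻¹ * av 32 * w = av 48 ∧ w⁻¹ * av 48 * w = av 32) := by wdv

theorem disj0 : ∀ i < 4, Fx4 (av (16 * i)) → i = 0 := by kdv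

theorem cen0 : ∀ w : El, w ∈ T → Fx4 w → Commute w (av 2) → Commute w x13 → Commute w sw →
    w = 1 ∨ w = av 5 := by wdv

theorem cen1 : ∀ w : El, w ∈ T → Commute w (av 5) := by wdv

/-- The elements of the Sylow subgroup. -/
noncomputable def el (i : ℕ) : El := av (Nat.mod i 16) * x13 ^ (Nat.mod (Nat.div i 16) 2) * sw ^ (Nat.div i 32)

theorem el_mem : ∀ i < 64, el i ∈ T ∧ Fx4 (el i) := by simp only [el]; kdv

theorem el_inj : ∀ i < 64, ∀ l < 64, el i = el l → i = l := by simp only [el]; kdv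

theorem el_surj : ∀ w : El, w ∈ T → Fx4 w → ∃ i < 64, w = el i := by simp only [el]; wdv

theorem out0 : ∀ w : El, w * av 1 * w⁻¹ = x13 → w * av 6 * w⁻¹ ∉ T := by wdv

theorem exp0 : ∀ w : El, Commute w (av 32) → Commute w (av 48) → w ^ 24 = 1 := by wdv

theorem wt0 : ∀ i < 4, i ≠ 0 → bt mA (5 ^^^ (16 * i)) = true := by decide +kernel

theorem wt1 : bt mA 5 = false := by decide +kernel

theorem card_T1 : Nat.card T1 = 64 := by
  have : Function.Bijective fun i : Fin 64 =>
      (⟨⟨el i, (el_mem i i.2).1⟩, mem_T1.2 (el_mem i i.2).2⟩ : T1) := by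
    refine ⟨fun i l e => Fin.ext (el_inj _ i.2 _ l.2 (congrArg (fun x : T1 => (x.1 : El)) e)),
      fun u => ?_⟩
    obtain ⟨i, hi, e⟩ := el_surj u.1 u.1.2 (mem_T1.1 u.2)
    exact ⟨⟨i, hi⟩, Subtype.ext (Subtype.ext e.symm)⟩
  rw [← Nat.card_eq_of_bijective _ this]; simp

/-- The first eight points. -/
def e8 : Fin 8 ≃ {i : Fin 12 // i.val < 8} where
  toFun i := ⟨⟨i, by omega⟩, i.2⟩
  invFun i := ⟨i.1, i.2⟩
  left_inv _ := rfl
  right_inv _ := rfl

theorem iso8 (P : Sylow 2 (alternatingGroup (Fin 8))) :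
    Nonempty (T1 ≃* (P : Subgroup (alternatingGroup (Fin 8)))) := by
  let φ : alternatingGroup (Fin 8) →* Perm (Fin 12) :=
    (Perm.extendDomainHom e8).comp (alternatingGroup (Fin 8)).subtype
  have hφ : Function.Injective φ := (Perm.extendDomainHom_injective e8).comp Subtype.val_injective
  let ψ : T1 →* Perm (Fin 12) := pm.comp (T.subtype.comp T1.subtype)
  have hψ : Function.Injective ψ := pm_inj.comp (Subtype.val_injective.comp Subtype.val_injective)
  have hle : ψ.range ≤ φ.range := by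
    rintro _ ⟨u, rfl⟩
    obtain ⟨σ, hσ⟩ := (Perm.mem_range_ofSubtype_iff (p := fun i : Fin 12 => i.val < 8)
      (g := ψ u)).2 fun i hi => not_le.1 fun k => Perm.mem_support.1 hi (u.2 i k)
    have e : (e8.symm.permCongr σ).extendDomain e8 = ψ u := by
      rw [← hσ]
      exact congrArg (fun τ => Equiv.subtypeCongr τ (Equiv.refl _))
        (e8.permCongr.apply_symm_apply σ)
    refine ⟨⟨e8.symm.permCongr σ, Perm.mem_alternatingGroup.2 ?_⟩, e⟩
    rw [← Perm.sign_extendDomain _ e8, e]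
    exact sign_pm _
  let e : T1 ≃* ψ.range.comap φ := (MonoidHom.ofInjective hψ).trans
    ((MulEquiv.subgroupCongr (map_comap_eq_self hle).symm).trans
      ((ψ.range.comap φ).equivMapOfInjective φ hφ).symm)
  have hc : Nat.card (ψ.range.comap φ) = 64 := (Nat.card_congr e.toEquiv).symm.trans card_T1
  have hi : (ψ.range.comap φ).index = 315 := by
    have h1 := (ψ.range.comap φ).card_mul_index
    have h2 := two_mul_nat_card_alternatingGroup (α := Fin 8)
    rw [Nat.card_perm, Nat.card_fin, show Nat.factorial 8 = 40320 from rfl] at h2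
    rw [hc] at h1
    omega
  let Q : Sylow 2 (alternatingGroup (Fin 8)) :=
    (IsPGroup.of_card (n := 6) hc).toSylow (by rw [hi]; decide)
  exact ⟨e.trans (Sylow.equiv Q P)⟩

theorem solvD : Group.IsSolvable (centralizer {av 32, av 48} : Subgroup El) := by
  set D : Subgroup El := centralizer {av 32, av 48}
  obtain ⟨a, m, hm, e1⟩ := Nat.exists_eq_pow_mul_and_not_dvd (Nat.card_pos (α := D)).ne' 2 (by decide)
  have m0 : m ≠ 0 := fun k => hm (by simp [k])
  obtain ⟨b, n, hn, e2⟩ := Nat.exists_eq_pow_mul_and_not_dvd m0 3 (by decide)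
  have : n = 1 := Nat.eq_one_iff_not_exists_prime_dvd.2 fun p hp hd => by
    have := Fact.mk hp
    obtain ⟨x, hx⟩ := exists_prime_orderOf_dvd_card' (G := D) p
      (e1 ▸ e2 ▸ (hd.mul_left _).mul_left _)
    have h24 : x ^ 24 = 1 := Subtype.ext (exp0 x (x.2 _ (by simp)).symm (x.2 _ (by simp)).symm)
    have h1 : p ∣ 2 ^ 3 * 3 := hx ▸ orderOf_dvd_of_pow_eq_one h24
    rcases (Nat.Prime.dvd_mul hp).1 h1 with h | h
    · obtain rfl := (Nat.prime_dvd_prime_iff_eq hp Nat.prime_two).1 (hp.dvd_of_dvd_pow h)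
      exact hm (e2 ▸ hd.mul_left _)
    · obtain rfl := (Nat.prime_dvd_prime_iff_eq hp Nat.prime_three).1 h
      exact hn hd
  exact S0144.result 2 3 a b Nat.prime_two Nat.prime_three (by rw [e1, e2, this, mul_one])

end Cfsg.Agent.H69.TwV3
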