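import Cfsg.Agent.H69.VbE1a

/-!
Critical subgroups of the unipotent group of the large Ree group inside `E`, first half.
-/

set_option autoImplicit false
set_option linter.unusedSimpArgs false
set_option linter.unnecessarySeqFocus false

namespace Cfsg.Agent.H69.VbE1

open Cfsg.Agent.H39 Cfsg.Agent.H15.O8 Cfsg.Agent.H96.VB Cfsg.Agent.H92.UL Subgroup
open scoped commutatorElement

universe u

variable {K : Type u} [Field K] [Finite K] {T : Tits K} {P : Subgroup (U T)}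

omit [Finite K] in
theorem exists_k (hQ : ¬ P ≤ Q T) : ∃ k ∈ P, k.b8 = 0 ∧ k.a8 ≠ 0 := by
  obtain ⟨k, hk, hk'⟩ := SetLike.not_le_iff_exists.1 hQ
  by_cases h8 : k.b8 = 0
  · exact ⟨k, hk, h8, fun e => hk' ⟨h8, e⟩⟩
  · refine ⟨k * k, mul_mem hk hk, ?_, fun e => h8 (nrm_eq_zero (T := T) ?_)⟩
    · o8s; o8ring T
    · o8s at e; o8g T

omit [Finite K] in
theorem W_le_z0 (h : Cr P) (hE : P ≤ E T) : W T ≤ z0 P := fun w hw =>
  h.mem_z0 (sqY w (R_le_Y (W_le_R hw))) fun x hx => ((cW x).1 (hE hx) w hw).symm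

omit [Finite K] in
theorem z0_le_O (hE : P ≤ E T) : z0 P ≤ O T := fun _ hg =>
  sq_O (hE hg.1) (hg.2.1 ▸ one_mem _)

omit [Finite K] in
theorem R_le (h : Cr P) (hE : P ≤ E T) : R T ≤ P := fun r hr =>
  h.chain [z0 P] (by simp [ch_z0]) r ⟨fun x hx => W_le_z0 h hE
    ((charR r (O_le_E (Y_le_O (R_le_Y hr)))).1 hr x (hE hx)), fun _ hx =>
      commutatorElement_eq_one_iff_mul_comm.2 (commRO hr (z0_le_O hE hx))⟩

theorem not_le_Te (h : Cr P) (hT : P ≤ Te T) : False := by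
  have hE : P ≤ E T := fun x hx => (hT hx).1
  have hA : A T ≤ P := fun a ha => h.chain [z0 P] (by simp [ch_z0]) a
    ⟨fun x hx => W_le_z0 h hE (Z6_le_W (commATe ha (hT hx))), fun x hx =>
      commutatorElement_eq_one_iff_mul_comm.2 (comm_of_sq sqA ha (invTe (hT hx.1) hx.2.1))⟩
  have cA : Ch P (A T) := Ch.of_iff IvS.inv fun g =>
    ⟨fun hg => ⟨hA hg, sqA g hg⟩, fun hg => invTe (hT hg.1) hg.2⟩
  have key : ∀ {x : K → U T} {p : U T} {b : K}, (∀ c, x c ∈ A T) → p ∈ P → b ≠ 0 →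
      (∀ c, ⁅x c, p⁆ = x6 T (c * b)) → Ch P (Z6 T) := fun {x p b} hx hp hb e => by
    have : ⁅A T, P⁆ = Z6 T := le_antisymm (commutator_le.2 fun a ha k hk => commATe ha (hT hk))
      fun g hg => by
        rw [eq_x6 hg, ← div_mul_cancel₀ g.a6 hb, ← e]
        exact commutator_mem_commutator (hx _) hp
    exact this ▸ cA.commutator Ch.self
  have c6 : Ch P (Z6 T) := by
    by_cases h4 : ∃ p ∈ P, p.b4 ≠ 0
    · obtain ⟨p, hp, h4⟩ := h4
      exact key (x := x7 T) (fun c => by o8s) hp h4 fun c => comm7 c (hT hp)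
    by_cases h8 : ∃ p ∈ P, p.b8 ≠ 0
    · obtain ⟨p, hp, h8⟩ := h8
      exact key (x := x5 T) (fun c => by o8s) hp h8 fun c => comm5 c (hT hp)
    push Not at h4 h8
    refine Ch.of_iff IvS.univ.sqs fun g => ⟨fun hg => ⟨hA (Z6_le_A hg), ?_⟩, ?_⟩
    · obtain ⟨c, hc⟩ := nrm_surj (T := T) g.a6
      exact ⟨y6 T c, h.chain [A T] (by simp [cA]) _ ⟨fun x hx => comm6 c (hT hx) (h4 x hx) (h8 x hx),
        fun x hx => comm6A c hx⟩, trivial, by rw [sq_y6, hc, ← eq_x6 hg]⟩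
    · rintro ⟨-, k, hk, -, rfl⟩
      exact sq6 (hT hk) (h4 k hk) (h8 k hk)
  have h3 : x3 T 1 ∈ P := h.chain [A T, Z6 T] (by simp [cA, c6]) _ ⟨fun x hx => comm3 (hT hx),
    fun x hx => comm3A hx, fun x hx => commutatorElement_eq_one_iff_mul_comm.2
      ((cW _).1 rfl x (Z6_le_W hx))⟩
  exact one_ne_zero (α := K) (hT h3).2.2.2

omit [Finite K] in
theorem le_cent {P' : Subgroup (U T)} {k v : U T} (e : ∀ g, k * g * k⁻¹ ∈ P' ↔ g ∈ P)
    (hv : v ∈ z0 P) : P' ≤ centralizer {k * v * k⁻¹} := fun g hg => by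
  have := hv.2.2 (k⁻¹ * g * k) ((e _).1 (by simpa [mul_assoc] using hg))
  rw [mem_centralizer_singleton_iff]
  calc g * (k * v * k⁻¹) = k * (k⁻¹ * g * k * v) * k⁻¹ := by group
    _ = _ := by rw [← this]; group

omit [Finite K] in
theorem z0_le_R_of_V (hE : P ≤ E T) (hQ : ¬ P ≤ Q T) {v : U T} (hv : v ∈ z0 P) (hV : v ∈ V T) :
    v ∈ R T := by
  obtain ⟨k, hk, h8, h9⟩ := exists_k hQ
  exact mem_R_of_comm hV (hE hk) h8 h9 (hv.2.2 k hk)

theorem z0_le_Y (h : Cr P) (hE : P ≤ E T) (hQ : ¬ P ≤ Q T) : z0 P ≤ Y T := fun v hv => by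
  by_cases hvQ : v ∈ Q T
  · exact (invQ v (hE hv.1) hvQ hv.2.1).elim (fun hV => R_le_Y (z0_le_R_of_V hE hQ hv hV)) id
  · obtain ⟨k, c, h0, hk⟩ := rep8 v hv.2.1 hvQ
    obtain ⟨P', h', e⟩ := h.conj k
    have := le_cent e hv
    rw [hk, c8 _ _ h0] at this
    exact (not_le_Te h' this).elim

theorem Y_le (h : Cr P) (hE : P ≤ E T) (hQ : ¬ P ≤ Q T) : Y T ≤ P := fun y hy => by
  have hY := z0_le_Y h hE hQ
  have c2 := Ch.closure (ch_z0.ivs.sq.inter (ch_z0 (P := P)).ivs.commP)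
  refine h.chain [_, z0 P] (List.forall_mem_cons.2 ⟨c2, by simp [ch_z0]⟩) y ⟨fun x hx => ?_, fun x hx => ?_, fun x hx =>
    commutatorElement_eq_one_iff_mul_comm.2 (comm_of_sq sqY hy (hY hx))⟩
  · have hr := (charY y (O_le_E (Y_le_O hy))).1 hy x (hE hx)
    exact subset_closure ⟨R_le h hE hr, by
      show _ ∈ z0 P
      rw [sqY _ (R_le_Y hr)]; exact one_mem _, fun k hk =>
      W_le_z0 h hE ((charR _ (O_le_E (Y_le_O (R_le_Y hr)))).1 hr k (hE hk))⟩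
  · exact W_le_z0 h hE (commYO hy ((closure_le (O T)).2
      (fun g hg => sq_O (hE hg.1) (hY hg.2.1)) hx))

theorem z0_le_R (h7 : X7Stmt T) (h : Cr P) (hE : P ≤ E T) (hQ : ¬ P ≤ Q T) : z0 P ≤ R T :=
  fun v hv => by
  by_cases hV : v ∈ V T
  · exact z0_le_R_of_V hE hQ hv hV
  have hY := z0_le_Y h hE hQ hv
  obtain ⟨k, hk⟩ := rep7 v hY hV
  obtain ⟨P', h', e⟩ := h.conj k
  have hT := le_cent e hv
  rw [hk, c7 _ fun e => hV ⟨hY.1, hY.2.1, hY.2.2.2.1, hY.2.2.2.2.1, e, hY.2.2.2.2.2⟩] at hT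
  have hE' : P' ≤ E T := fun x hx => (hT hx).1
  have hQ' : ¬ P' ≤ Q T := fun hle => hQ fun g hg => by
    simpa [mul_assoc] using nQ.conj_mem _ (hle ((e g).2 hg)) k⁻¹
  have hY' := Y_le h' hE' hQ'
  exact (h7 P' h' hT (z0_le_Y h' hE' hQ') (fun c p hp => hY' (comm2 c (hT hp)))
    fun p hp => hY' (comm4 (hT hp))).elim

theorem not_le_O (h : Cr P) (hR : z0 P ≤ R T) (hO : P ≤ O T) : False := by
  have hE : P ≤ E T := hO.trans O_le_E
  have e : z0 P = R T := le_antisymm hR fun r hr =>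
    h.mem_z0 (sqY r (R_le_Y hr)) fun x hx => commRO hr (hO hx)
  have cR : Ch P (R T) := e ▸ ch_z0
  have hJ : O T ≤ P := fun g hg => h.chain [R T] (by simp [cR]) g ⟨fun x hx => commOO hg (hO hx),
    fun x hx => commutatorElement_eq_one_iff_mul_comm.2 (commRO hx hg).symm⟩
  have hN : ∀ g ∈ E T, g ∈ normalizer (P : Set (U T)) := fun g hg =>
    mem_normalizer_of_comm fun x hx => hJ (commEE hg (hE hx))
  have hC : ∀ g ∈ centralizer (R T : Set (U T)), g ∈ Tc T := fun g hg => by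
    rw [← c5 1 one_ne_zero, mem_centralizer_singleton_iff]
    exact (hg _ (show x5 T 1 ∈ R T by o8s)).symm
  have hW : ∀ c ∈ U8 T, ∀ w ∈ W T, ⁅c, w⁆ = 1 := fun c hc w hw =>
    commutatorElement_eq_one_iff_mul_comm.2 ((cW c).1 hc.1 w hw)
  obtain ⟨c, hc, hc'⟩ := h.off (R T) (U8 T) K U.a5 (y8 T) (y8 T 1) (y2 T 1) cR
    (e ▸ z0_le_centralizer) (fun x hx => sqY x (R_le_Y hx)) (fun g hg => hN g hg.1)
    (fun c hc d hd x hx => hW d hd _ (by
      rw [← commutatorElement_inv]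
      exact inv_mem ((charR x (O_le_E (Y_le_O (R_le_Y hx)))).1 hx c hc.1)))
    (fun x hx y hy e c hc => hW c hc _ (mem_W_of_a5 hx hy e)) (fun k => by o8s)
    (fun k l e => by
      have := (hC _ e).2
      o8s at this
      o8g T) (by o8s) (hJ (by o8s; o8ring T))
    (fun e => one_ne_zero (α := K) (hC _ e).2) (hN _ rfl) (hJ (by o8s; o8ring T))
    (hJ (commEE rfl rfl)) (fun e => one_ne_zero (α := K) (hO e).2.1)
    (fun e => by
      have := (hO e).2.2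
      o8s at this
      exact one_ne_zero this) (y2 T 1) (hN _ rfl)
  have h2 := (hC _ hc').1
  have := hc.1
  have := hc.2.1
  o8s at h2
  o8g T

theorem e1 (h7 : X7Stmt T) : E1Stmt T := fun P h hE hQ => by
  have hR := z0_le_R h7 h hE hQ
  have hO : ¬ P ≤ O T := not_le_O h hR
  refine ⟨Y_le h hE hQ, ?_, hO⟩
  obtain ⟨p, hp, hp'⟩ := SetLike.not_le_iff_exists.1 hO
  have e : z0 P = W T := le_antisymm
    (fun v hv => mem_W_of_comm (hR hv) (hE hp) hp' (hv.2.2 p hp)) (W_le_z0 h hE)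
  exact e ▸ ch_z0

end Cfsg.Agent.H69.VbE1
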