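import Cfsg.Agent.H96.VbDefs
import Cfsg.Agent.H92.UL2

/-!
Commutators and squares in the subgroup `E` of the unipotent group of the large Ree group.
-/

set_option autoImplicit false
set_option linter.unusedSimpArgs false
set_option linter.unnecessarySeqFocus false
set_option linter.unusedTactic false
set_option linter.unreachableTactic false

namespace Cfsg.Agent.H69.VbE1

open Cfsg.Agent.H39 Cfsg.Agent.H15.O8 Cfsg.Agent.H96.VB Subgroup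
open scoped commutatorElement

variable {K : Type*} [Field K] {T : Tits K}

theorem comm_of_sq {G : Type*} [Group G] {H : Subgroup G} (h : ∀ x ∈ H, x * x = 1) {v w : G}
    (hv : v ∈ H) (hw : w ∈ H) : v * w = w * v := by
  rw [← inv_eq_of_mul_eq_one_right (h _ (mul_mem hv hw)), mul_inv_rev,
    inv_eq_of_mul_eq_one_right (h _ hv), inv_eq_of_mul_eq_one_right (h _ hw)]

theorem sq_O {g : U T} (hg : g ∈ E T) (h : g * g ∈ Y T) : g ∈ O T := by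
  obtain ⟨a1, b2, a2, a3, b4, a4, a5, b6, a6, a7, b8, a8⟩ := g
  obtain rfl : a1 = 0 := hg
  obtain ⟨-, -, h2, -, -, -, h8⟩ := h
  o8s at h2 h8 ⊢
  exact ⟨nrm_eq_zero (T := T) (by o8g T), nrm_eq_zero (T := T) (by o8g T)⟩

theorem commRO {r g : U T} (hr : r ∈ R T) (hg : g ∈ O T) : r * g = g * r := by
  obtain ⟨a1, b2, a2, a3, b4, a4, a5, b6, a6, a7, b8, a8⟩ := r
  obtain ⟨c1, d2, c2, c3, d4, c4, c5, d6, c6, c7, d8, c8⟩ := g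
  obtain ⟨rfl : a1 = 0, rfl : b2 = 0, rfl : a2 = 0, rfl : a3 = 0, rfl : b4 = 0, rfl : b6 = 0,
    rfl : a7 = 0, rfl : b8 = 0, rfl : a8 = 0⟩ := hr
  obtain ⟨rfl : c1 = 0, rfl : d2 = 0, rfl : d8 = 0⟩ := hg
  ext <;> o8s <;> o8ring T

theorem commYO {y g : U T} (hy : y ∈ Y T) (hg : g ∈ O T) : ⁅y, g⁆ ∈ W T := by
  obtain ⟨a1, b2, a2, a3, b4, a4, a5, b6, a6, a7, b8, a8⟩ := y
  obtain ⟨c1, d2, c2, c3, d4, c4, c5, d6, c6, c7, d8, c8⟩ := g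
  obtain ⟨rfl : a1 = 0, rfl : b2 = 0, rfl : a2 = 0, rfl : b4 = 0, rfl : b6 = 0,
    rfl : b8 = 0, rfl : a8 = 0⟩ := hy
  obtain ⟨rfl : c1 = 0, rfl : d2 = 0, rfl : d8 = 0⟩ := hg
  o8s
  (repeat' apply And.intro) <;> o8ring T

theorem commEE {x g : U T} (hx : x ∈ E T) (hg : g ∈ E T) : ⁅x, g⁆ ∈ O T := by
  obtain ⟨a1, b2, a2, a3, b4, a4, a5, b6, a6, a7, b8, a8⟩ := x
  obtain ⟨c1, d2, c2, c3, d4, c4, c5, d6, c6, c7, d8, c8⟩ := g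
  obtain rfl : a1 = 0 := hx
  obtain rfl : c1 = 0 := hg
  o8s
  (repeat' apply And.intro) <;> o8ring T

theorem commOO {x g : U T} (hx : x ∈ O T) (hg : g ∈ O T) : ⁅x, g⁆ ∈ R T := by
  obtain ⟨a1, b2, a2, a3, b4, a4, a5, b6, a6, a7, b8, a8⟩ := x
  obtain ⟨c1, d2, c2, c3, d4, c4, c5, d6, c6, c7, d8, c8⟩ := g
  obtain ⟨rfl : a1 = 0, rfl : b2 = 0, rfl : b8 = 0⟩ := hx
  obtain ⟨rfl : c1 = 0, rfl : d2 = 0, rfl : d8 = 0⟩ := hg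
  o8s
  (repeat' apply And.intro) <;> o8ring T

theorem mem_R_of_comm {v k : U T} (hv : v ∈ V T) (hk : k ∈ E T) (h8 : k.b8 = 0) (h9 : k.a8 ≠ 0)
    (h : v * k = k * v) : v ∈ R T := by
  obtain ⟨a1, b2, a2, a3, b4, a4, a5, b6, a6, a7, b8, a8⟩ := v
  obtain ⟨c1, d2, c2, c3, d4, c4, c5, d6, c6, c7, d8, c8⟩ := k
  obtain ⟨rfl : a1 = 0, rfl : b2 = 0, rfl : b4 = 0, rfl : b6 = 0, rfl : a7 = 0, rfl : b8 = 0,
    rfl : a8 = 0⟩ := hv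
  obtain rfl : c1 = 0 := hk
  obtain rfl : d8 = 0 := h8
  have h5 := congrArg U.a5 h
  have h6 := congrArg U.a6 h
  clear h
  o8s at h5 h6 h9 ⊢
  obtain rfl : a2 = 0 := by o8g T
  o8g T

theorem mem_W_of_comm {v k : U T} (hv : v ∈ R T) (hk : k ∈ E T) (h8 : k ∉ O T)
    (h : v * k = k * v) : v ∈ W T := by
  obtain ⟨a1, b2, a2, a3, b4, a4, a5, b6, a6, a7, b8, a8⟩ := v
  obtain ⟨c1, d2, c2, c3, d4, c4, c5, d6, c6, c7, d8, c8⟩ := k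
  obtain ⟨rfl : a1 = 0, rfl : b2 = 0, rfl : a2 = 0, rfl : a3 = 0, rfl : b4 = 0, rfl : b6 = 0,
    rfl : a7 = 0, rfl : b8 = 0, rfl : a8 = 0⟩ := hv
  obtain rfl : c1 = 0 := hk
  have h4 := congrArg U.a4 h
  have h6 := congrArg U.a6 h
  clear h
  o8s at h4 h6 h8 ⊢
  o8g T

theorem invTe {g : U T} (hg : g ∈ Te T) (h : g * g = 1) : g ∈ A T := by
  obtain ⟨a1, b2, a2, a3, b4, a4, a5, b6, a6, a7, b8, a8⟩ := g
  obtain ⟨rfl : a1 = 0, rfl : b2 = 0, rfl : a2 = 0, rfl : a3 = 0⟩ := hg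
  have h4 := congrArg U.a4 h
  have h6 := congrArg U.a6 h
  have h8 := congrArg U.a8 h
  clear h
  o8s at h4 h6 h8 ⊢
  obtain rfl : b8 = 0 := nrm_eq_zero (T := T) (by o8g T)
  obtain rfl : b4 = 0 := nrm_eq_zero (T := T) (by o8g T)
  obtain rfl : b6 = 0 := nrm_eq_zero (T := T) (by o8g T)
  simp

theorem eq_x6 {g : U T} (hg : g ∈ Z6 T) : g = x6 T g.a6 := by
  obtain ⟨h1, h2, h3, h4, h5, h6, h7, h8, h9, h10, h11⟩ := hg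
  ext <;> first | assumption | rfl

theorem comm7 (c : K) {p : U T} (hp : p ∈ Te T) : ⁅x7 T c, p⁆ = x6 T (c * p.b4) := by
  obtain ⟨c1, d2, c2, c3, d4, c4, c5, d6, c6, c7, d8, c8⟩ := p
  obtain ⟨rfl : c1 = 0, rfl : d2 = 0, rfl : c2 = 0, rfl : c3 = 0⟩ := hp
  ext <;> o8s <;> o8ring T

theorem comm5 (c : K) {p : U T} (hp : p ∈ Te T) : ⁅x5 T c, p⁆ = x6 T (c * p.b8) := by
  obtain ⟨c1, d2, c2, c3, d4, c4, c5, d6, c6, c7, d8, c8⟩ := p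
  obtain ⟨rfl : c1 = 0, rfl : d2 = 0, rfl : c2 = 0, rfl : c3 = 0⟩ := hp
  ext <;> o8s <;> o8ring T

theorem comm6 (c : K) {p : U T} (hp : p ∈ Te T) (h4 : p.b4 = 0) (h8 : p.b8 = 0) :
    ⁅y6 T c, p⁆ ∈ A T := by
  obtain ⟨c1, d2, c2, c3, d4, c4, c5, d6, c6, c7, d8, c8⟩ := p
  obtain ⟨rfl : c1 = 0, rfl : d2 = 0, rfl : c2 = 0, rfl : c3 = 0⟩ := hp
  obtain rfl : d4 = 0 := h4
  obtain rfl : d8 = 0 := h8
  o8s
  (repeat' apply And.intro) <;> o8ring T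

theorem comm6A (c : K) {p : U T} (hp : p ∈ A T) : ⁅y6 T c, p⁆ = 1 := by
  obtain ⟨c1, d2, c2, c3, d4, c4, c5, d6, c6, c7, d8, c8⟩ := p
  obtain ⟨rfl : c1 = 0, rfl : d2 = 0, rfl : c2 = 0, rfl : c3 = 0, rfl : d4 = 0, rfl : d6 = 0,
    rfl : d8 = 0⟩ := hp
  ext <;> o8s <;> o8ring T

theorem sq6 {p : U T} (hp : p ∈ Te T) (h4 : p.b4 = 0) (h8 : p.b8 = 0) : p * p ∈ Z6 T := by
  obtain ⟨c1, d2, c2, c3, d4, c4, c5, d6, c6, c7, d8, c8⟩ := p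
  obtain ⟨rfl : c1 = 0, rfl : d2 = 0, rfl : c2 = 0, rfl : c3 = 0⟩ := hp
  obtain rfl : d4 = 0 := h4
  obtain rfl : d8 = 0 := h8
  o8s
  (repeat' apply And.intro) <;> o8ring T

theorem sq_y6 (c : K) : y6 T c * y6 T c = x6 T (c * T.θ c) := by
  ext <;> o8s <;> o8ring T

theorem comm3 {p : U T} (hp : p ∈ Te T) : ⁅x3 T 1, p⁆ ∈ A T := by
  obtain ⟨c1, d2, c2, c3, d4, c4, c5, d6, c6, c7, d8, c8⟩ := p
  obtain ⟨rfl : c1 = 0, rfl : d2 = 0, rfl : c2 = 0, rfl : c3 = 0⟩ := hp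
  o8s
  (repeat' apply And.intro) <;> o8ring T

theorem comm3A {p : U T} (hp : p ∈ A T) : ⁅x3 T 1, p⁆ ∈ Z6 T := by
  obtain ⟨c1, d2, c2, c3, d4, c4, c5, d6, c6, c7, d8, c8⟩ := p
  obtain ⟨rfl : c1 = 0, rfl : d2 = 0, rfl : c2 = 0, rfl : c3 = 0, rfl : d4 = 0, rfl : d6 = 0,
    rfl : d8 = 0⟩ := hp
  o8s
  (repeat' apply And.intro) <;> o8ring T

theorem comm2 (c : K) {p : U T} (hp : p ∈ Td T) : ⁅x2 T c, p⁆ ∈ Y T := by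
  obtain ⟨c1, d2, c2, c3, d4, c4, c5, d6, c6, c7, d8, c8⟩ := p
  obtain ⟨rfl : c1 = 0, rfl : d2 = 0, rfl : c2 = 0, rfl : d4 = 0⟩ := hp
  o8s
  (repeat' apply And.intro) <;> o8ring T

theorem comm4 {p : U T} (hp : p ∈ Td T) : ⁅y4 T 1, p⁆ ∈ Y T := by
  obtain ⟨c1, d2, c2, c3, d4, c4, c5, d6, c6, c7, d8, c8⟩ := p
  obtain ⟨rfl : c1 = 0, rfl : d2 = 0, rfl : c2 = 0, rfl : d4 = 0⟩ := hp
  o8s
  (repeat' apply And.intro) <;> o8ring T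

theorem mem_W_of_a5 {x y : U T} (hx : x ∈ R T) (hy : y ∈ R T) (h : x.a5 = y.a5) :
    x⁻¹ * y ∈ W T := by
  obtain ⟨a1, b2, a2, a3, b4, a4, a5, b6, a6, a7, b8, a8⟩ := x
  obtain ⟨c1, d2, c2, c3, d4, c4, c5, d6, c6, c7, d8, c8⟩ := y
  obtain ⟨rfl : a1 = 0, rfl : b2 = 0, rfl : a2 = 0, rfl : a3 = 0, rfl : b4 = 0, rfl : b6 = 0,
    rfl : a7 = 0, rfl : b8 = 0, rfl : a8 = 0⟩ := hx
  obtain ⟨rfl : c1 = 0, rfl : d2 = 0, rfl : c2 = 0, rfl : c3 = 0, rfl : d4 = 0, rfl : d6 = 0,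
    rfl : c7 = 0, rfl : d8 = 0, rfl : c8 = 0⟩ := hy
  obtain rfl : a5 = c5 := h
  o8s
  o8ring T

theorem W_le_R : W T ≤ R T := fun _ ⟨h1, h2, h3, h4, h5, _, h7, h8, h9, h10⟩ =>
  ⟨h1, h2, h3, h4, h5, h7, h8, h9, h10⟩

theorem R_le_Y : R T ≤ Y T := fun _ ⟨h1, h2, h3, _, h5, h6, _, h8, h9⟩ => ⟨h1, h2, h3, h5, h6, h8, h9⟩

theorem Y_le_O : Y T ≤ O T := fun _ ⟨h1, h2, _, _, _, h6, _⟩ => ⟨h1, h2, h6⟩

theorem O_le_E : O T ≤ E T := fun _ h => h.1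

theorem Z6_le_W : Z6 T ≤ W T := fun _ ⟨h1, h2, h3, h4, h5, _, h7, h8, h9, h10, h11⟩ =>
  ⟨h1, h2, h3, h4, h5, h7, h8, h9, h10, h11⟩

theorem Z6_le_A : Z6 T ≤ A T := fun _ ⟨h1, h2, h3, h4, h5, _, _, h8, _, h10, _⟩ =>
  ⟨h1, h2, h3, h4, h5, h8, h10⟩

end Cfsg.Agent.H69.VbE1
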