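import Cfsg.Agent.H69.Out2

/-! Large extraspecial subgroups: the structure of perfect pairs. -/

set_option autoImplicit false
set_option linter.unusedSectionVars false

namespace Cfsg.Agent.H69.Out

open Subgroup Cfsg.Agent.H49 Cfsg.Agent.H69.XV Cfsg.Agent.H69.XV.VD Cfsg.Agent.H92.Lx

universe u

variable {G : Type u} [Group G] {V : Type*} [AddCommGroup V] [Module (ZMod 2) V]

theorem four_cases [Finite V] {W : Submodule (ZMod 2) V} (hW : Nat.card W ≤ 4) {a b w : V}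
    (ha : a ∈ W) (hb : b ∈ W) (a0 : a ≠ 0) (b0 : b ≠ 0) (ab : a ≠ b) (hw : w ∈ W) :
    w = 0 ∨ w = a ∨ w = b ∨ w = a + b := by
  by_contra hn
  push Not at hn
  obtain ⟨n1, n2, n3, n4⟩ := hn
  have n5 : a + b ≠ 0 := fun e => ab (XV.add_eq_zero.1 e)
  have := Nat.card_le_card_of_injective (fun i : Fin 5 => (![⟨0, W.zero_mem⟩, ⟨a, ha⟩, ⟨b, hb⟩,
    ⟨a + b, add_mem ha hb⟩, ⟨w, hw⟩] i : W)) (by
      intro i j
      fin_cases i <;> fin_cases j <;> simp [*, n1.symm, n2.symm, n3.symm, n4.symm, n5.symm, a0.symm,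
        b0.symm, ab.symm])
  simp at this
  omega

theorem exists_second {W : Submodule (ZMod 2) V} (hW : 2 < Nat.card W) (a : V) :
    ∃ b ∈ W, b ≠ 0 ∧ a ≠ b := by
  by_contra hn
  push Not at hn
  have := card_le_of_subset_list W [0, a] fun v hv => by
    by_cases e : v = 0
    · simp [e]
    · simp [hn v hv e]
  simp at this
  omega

/-- `c` acts as the Siegel transformation of `a ∧ b` -/
def Rt {Q : Subgroup G} {z : G} (d : VD Q z V) (c : G) (a b : V) : Prop :=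
  ∀ v, d.ρ c v = v + d.B v a • b + d.B v b • a

section

variable {Q : Subgroup G} {z : G} {d : VD Q z V}

theorem Rt.symm {c : G} {a b : V} (h : Rt d c a b) : Rt d c b a := fun v => by
  rw [h v, add_right_comm]

theorem Rt.conj {c g : G} {a b : V} (h : Rt d c a b) (hc : c * z = z * c) (hg : g * z = z * g) :
    Rt d (g * c * g⁻¹) (d.ρ g a) (d.ρ g b) := fun v => by
  rw [ρ_conj hg hc, h, map_add, map_add, map_smul, map_smul, d.ρ_ρ_inv hg, ← d.B_ρ hg _ a,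
    ← d.B_ρ hg _ b, d.ρ_ρ_inv hg]

theorem Rt.com {c : G} {a b : V} (h : Rt d c a b) (v : V) :
    d.ρ c v + v = d.B v a • b + d.B v b • a := by rw [h, add_assoc v, add_comm, add_add_cancel]

theorem comS_conj {c g : G} (hc : c * z = z * c) (hg : g * z = z * g) {w : V} (hw : w ∈ d.comS c) :
    d.ρ g w ∈ d.comS (g * c * g⁻¹) := by
  obtain ⟨v, rfl⟩ := d.mem_comS.1 hw
  rw [map_add, ← ρ_conj' hg hc]
  exact d.com_mem _ _

theorem fixS_conj {c g : G} (hc : c * z = z * c) (hg : g * z = z * g) {w : V} :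
    d.ρ g w ∈ d.fixS (g * c * g⁻¹) ↔ w ∈ d.fixS c := by
  rw [d.mem_fixS, d.mem_fixS, ρ_conj' hg hc]
  exact ⟨d.ρ_inj hg, fun e => by rw [e]⟩

theorem mem_fix_of [Finite G] {c : G} (hc : c * z = z * c) {v : V}
    (h : ∀ w ∈ d.comS c, d.B w v = 0) : v ∈ d.fixS c := d.perp_comS hc ▸ h

theorem mem_com_of [Finite G] {c : G} (hc : c * z = z * c) {v : V}
    (h : ∀ w ∈ d.fixS c, d.B w v = 0) : v ∈ d.comS c := d.perp_fixS hc ▸ h

theorem rt_of [Finite G] {c : G} (hc : c * z = z * c) (h2 : c * c ∈ Q)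
    (hq : ∀ w ∈ d.comS c, d.q w = 0) (h4 : Nat.card (d.comS c) ≤ 4) {a b : V} (ha : a ∈ d.comS c)
    (hb : b ∈ d.comS c) (a0 : a ≠ 0) (b0 : b ≠ 0) (ab : a ≠ b) : Rt d c a b := by
  have := d.finite
  have f := fun w => four_cases h4 ha hb a0 b0 ab (w := w)
  obtain ⟨u, rfl⟩ := d.mem_comS.1 ha
  obtain ⟨u', rfl⟩ := d.mem_comS.1 hb
  have e1 := (q_com hc u).symm.trans (hq _ ha)
  have e2 := (q_com hc u').symm.trans (hq _ hb)
  have e3 : d.B u (d.ρ c u' + u') = 1 := z2_ne fun e => a0 (XV.add_eq_zero.2 (d.mem_fixS.1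
    (mem_fix_of hc fun w hw => by
      rw [d.B_symm]
      rcases f w hw with rfl | rfl | rfl | rfl
      exacts [map_zero _, e1, e, by rw [map_add, e1, e, add_zero]])))
  have e4 : d.B u' (d.ρ c u + u) = 1 := by rw [← B_com_sq hc h2, d.B_symm, e3]
  intro v
  rw [← B_com_sq hc h2 v u, ← B_com_sq hc h2 v u', d.B_symm _ u, d.B_symm _ u', add_assoc v,
    ← XV.add_eq_zero, ← add_assoc, XV.add_eq_zero]
  rcases f _ (d.com_mem c v) with e | e | e | e <;> rw [e]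
  · simp
  · rw [e1, e4]; simp
  · rw [e2, e3]; simp
  · rw [map_add (d.B u), map_add (d.B u'), e1, e2, e3, e4]; simp [add_comm]

end

namespace PF

variable {z t : G} (h : PF z t)
include h

theorem symm [Finite G] : PF t z :=
  ⟨h.toGP.symm, by rw [inf_comm, h.cR], by rw [h.cA, card_O2C h.op.cj], by
    rw [h.cB, card_O2C h.op.cj]⟩

theorem conj (g : G) : PF (g * z * g⁻¹) (g * t * g⁻¹) :=
  ⟨h.toGP.conj g, by rw [card_inf_conj, h.cR], by rw [card_O2C_inf, h.cB, card_O2C ⟨g, rfl⟩], by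
    rw [card_O2C_inf, h.cA, card_O2C ⟨g, rfl⟩]⟩

theorem conjH {c : G} (hc : c * z = z * c) : PF z (c * t * c⁻¹) := by
  have := h.conj c
  rwa [conj_of_comm hc.symm] at this

theorem tz : t * z = z * t := h.op.comm

variable [Finite G]

theorem exists_ne : ∃ r ∈ O2C z ⊓ O2C t, r ≠ 1 := by
  by_contra hn
  push Not at hn
  have := h.cR
  rw [(eq_bot_iff_forall _).2 hn, card_bot] at this
  omega

theorem not_tz : ¬ Cj z (z * t) := fun c => by
  obtain ⟨r, hr, r1⟩ := h.exists_ne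
  obtain ⟨e, he, a⟩ := h.op.exists_gam h.e0 hr r1
  obtain ⟨g, hg⟩ := (h.op.cj.symm.trans c).conj e
  refine r1 (h.op.gam hr.1 hr.2 (hg.trans ?_))
  rw [conj_mul', a, conj_of_comm (h.op.lx.cen e he).symm, ← mul_assoc, ← mul_assoc,
    ← h.op.lx.cen r hr.1, mul_assoc r, h.op.lx.zz, mul_one]

variable (d : VD (O2C z) z V)

theorem exists_R {w : V} (hw : w ∈ d.comS t) : ∃ r ∈ O2C z ⊓ O2C t, d.p r = w := by
  obtain ⟨r, h1, h2, e⟩ := d.mem_sm.1 (h.U_eq d ▸ hw)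
  exact ⟨r, ⟨h2, h1⟩, e⟩

theorem p_mem {r : G} (hr : r ∈ O2C z ⊓ O2C t) : d.p r ∈ d.comS t :=
  h.U_eq d ▸ d.mem_sm.2 ⟨r, hr.2, hr.1, rfl⟩

theorem q_W {w : V} (hw : w ∈ d.comS t) : d.q w = 0 := h.op.q_W d h.e0 hw

theorem W_le : d.comS t ≤ d.fixS t := d.comS_le_fixS h.tz h.op.t2

theorem rt {a b : V} (ha : a ∈ d.comS t) (hb : b ∈ d.comS t) (a0 : a ≠ 0) (b0 : b ≠ 0)
    (ab : a ≠ b) : Rt d t a b :=
  rt_of h.tz h.op.t2 (fun _ => h.q_W d) (h.card_W d).le ha hb a0 b0 ab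

theorem four {a b : V} (ha : a ∈ d.comS t) (hb : b ∈ d.comS t) (a0 : a ≠ 0) (b0 : b ≠ 0)
    (ab : a ≠ b) {w : V} (hw : w ∈ d.comS t) : w = 0 ∨ w = a ∨ w = b ∨ w = a + b :=
  haveI := d.finite
  four_cases (h.card_W d).le ha hb a0 b0 ab hw

theorem second (a : V) : ∃ b ∈ d.comS t, b ≠ 0 ∧ a ≠ b :=
  exists_second (by rw [h.card_W d]; norm_num) a

theorem card_fix : 4 * Nat.card (d.fixS t) = Nat.card V := by
  rw [← d.card_comS_mul_fixS t, h.card_W d]

/-- the fibre over the image of `t` -/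
theorem fib {s : G} (hs : Cj z s) (sz : s * z = z * s) (h0 : ¬ Eps z s)
    (e : ∀ v, d.ρ s v = d.ρ t v) : ∃ x ∈ O2C z, x * t * x⁻¹ = s := by
  have m : s * t ∈ O2C z := d.mem_of_ρ (cmul sz h.tz) fun v => by
    rw [d.ρ_mul sz h.tz, e, d.ρ_sq h.tz h.op.t2]
  obtain ⟨r, hr, a⟩ := h.exists_R d (w := d.p (s * t)) (mem_com_of h.tz fun v hv => by
    obtain ⟨b, hb, rfl⟩ := d.p_surj v
    rw [d.B_eq_zero hb m, ← mul_assoc, d.comm_of_fix sz h0 hb ((e _).trans (d.mem_fixS.1 hv)),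
      mul_assoc, d.comm_of_fix h.tz h.e0 hb (d.mem_fixS.1 hv), mul_assoc])
  have e1 : s = s * t * t := by rw [mul_assoc, h.op.tt, mul_one]
  rcases (d.p_eq_iff m hr.1).1 a.symm with b | b <;> rw [b] at e1
  · obtain ⟨g, hg⟩ := h.op.cj.symm.trans hs
    rw [h.op.gam hr.1 hr.2 (hg.trans e1), one_mul] at e1
    exact ⟨1, one_mem _, by simp [e1]⟩
  · by_cases r1 : r = 1
    · rw [r1, one_mul] at e1
      exact absurd (e1 ▸ hs) h.not_tz
    · exact e1 ▸ h.op.exists_gam h.e0 hr r1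

theorem ρ_norm {c : G} (hc : c * z = z * c) (hW : ∀ w ∈ d.comS t, d.ρ c w ∈ d.comS t) (v : V) :
    d.ρ (c * t * c⁻¹) v = d.ρ t v := by
  obtain ⟨a, ha, a0, -⟩ := h.second d 0
  obtain ⟨b, hb, b0, ab⟩ := h.second d a
  rw [(h.rt d ha hb a0 b0 ab).conj h.tz hc, h.rt d (hW a ha) (hW b hb) (ρ_ne_zero hc a0)
    (ρ_ne_zero hc b0) fun e => ab (d.ρ_inj hc e)]

theorem norm {c : G} (hc : c * z = z * c) (hW : ∀ w ∈ d.comS t, d.ρ c w ∈ d.comS t) :
    ∃ x ∈ O2C z, x * t * x⁻¹ = c * t * c⁻¹ :=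
  h.fib d (h.op.cj.conj c) (cconj hc h.tz) (h.conjH hc).e0 (h.ρ_norm d hc hW)

omit d in
theorem comm_of {c : G} (hc : c * z = z * c) (hR : ∀ r ∈ O2C z ⊓ O2C t, r * c = c * r) :
    c * t = t * c := by
  obtain ⟨d⟩ := exists_VD h.op.lx
  obtain ⟨x, hx, e⟩ := h.norm d hc fun w hw => by
    obtain ⟨r, hr, rfl⟩ := h.exists_R d hw
    rwa [d.ρ_p hc hr.1, conj_of_comm (hR r hr)]
  obtain ⟨r, hr, a⟩ := h.exists_R d (d.com_mem t (d.p x))
  rw [← d.p_comm' h.tz hx, e] at a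
  have m := d.comm_mem h.tz hx
  rw [e] at m
  rcases (d.p_eq_iff m hr.1).1 a.symm with b | b <;> rw [mul_inv_eq_iff_eq_mul] at b
  · rw [h.op.gam hr.1 hr.2 b, one_mul, mul_inv_eq_iff_eq_mul] at b
    exact b
  obtain ⟨w, hw, w0, n⟩ := h.second d (d.p r)
  obtain ⟨r', hr', rfl⟩ := h.exists_R d hw
  obtain ⟨y, hy, a'⟩ := h.op.exists_gam h.e0 hr' fun e => w0 (by rw [e, d.p_one])
  have := h.op.gam (e := c * y) (mul_mem hr'.1 hr.1) (mul_mem hr'.2 hr.2) (by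
    calc _ = c * (y * t * y⁻¹) * c⁻¹ := by group
      _ = r' * (z * r) * z * t := by
        rw [a', conj_mul', conj_mul', b, conj_of_comm (hR r' hr'), conj_of_comm hc.symm]; group
      _ = _ := by rw [← h.op.lx.cen r hr.1, mul_assoc r', mul_assoc r, h.op.lx.zz, mul_one])
  exact absurd (by rw [eq_inv_of_mul_eq_one_right this, d.p_inv hr'.1]) n

theorem fix_W {a : G} (ha : a ∈ O2C t) (az : a * z = z * a) {w : V} (hw : w ∈ d.comS t) :
    d.ρ a w = w := h.op.fix_U d ha az (h.U_eq d ▸ hw)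

theorem com_fix {a : G} (ha : a ∈ O2C t) (az : a * z = z * a) {v : V} (hv : v ∈ d.fixS t) :
    d.ρ a v + v ∈ d.comS t := h.U_eq d ▸ h.op.com_fix d h.e0 ha az hv

theorem com_A {a : G} (ha : a ∈ O2C t) (az : a * z = z * a) (v : V) : d.ρ a v + v ∈ d.fixS t :=
  mem_fix_of h.tz fun u hu => by
    rw [d.B_symm, B_com az, h.fix_W d (inv_mem ha) (cinv az) hu, add_self, map_zero]

variable (hw : WC z)
include hw

omit d in
theorem R_le {x : G} (hx : x ∈ O2C z) (hn : x * t ≠ t * x) :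
    Nat.card ↥(O2C t ⊓ O2C (x * t * x⁻¹)) ≤ 4 := by
  obtain ⟨d⟩ := exists_VD h.op.lx
  exact (good_of hw h.op d hx (fun e => hn (d.comm_of_fix h.tz h.e0 hx e))
    (h.q_W d (d.com_mem _ _))).op.R_le4

theorem ker {a : G} (ha : a ∈ O2C t) (az : a * z = z * a) {v : V} (hv : v ∉ d.fixS t)
    (hm : d.ρ a v + v ∈ d.comS t) : a ∈ O2C z ∨ a * t ∈ O2C z := by
  obtain ⟨x, hx, rfl⟩ := d.p_surj v
  let S : Subgroup G :=
    { carrier := {a | a ∈ O2C t ∧ a * z = z * a ∧ d.ρ a (d.p x) + d.p x ∈ d.comS t}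
      one_mem' := ⟨one_mem _, by simp, by rw [d.ρ_one, add_self]; exact zero_mem _⟩
      mul_mem' := fun {a b} ha hb => ⟨mul_mem ha.1 hb.1, cmul ha.2.1 hb.2.1, by
        have := add_mem ha.2.2 hb.2.2
        rw [← h.fix_W d ha.1 ha.2.1 hb.2.2, map_add, ← d.ρ_mul ha.2.1 hb.2.1] at this
        convert this using 1; ch2⟩
      inv_mem' := fun {a} ha => ⟨inv_mem ha.1, cinv ha.2.1, by
        have := ha.2.2
        rw [← h.fix_W d (inv_mem ha.1) (cinv ha.2.1) this, map_add, d.ρ_inv_ρ ha.2.1,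
          add_comm] at this
        exact this⟩ }
  have c1 := conj_count (t := t) (x := x) (A := S) (M := d.pre (d.comS t)) (R := O2C z ⊓ O2C t)
    (fun a ha => ha.1) (fun r hr => ⟨⟨hr.1, h.p_mem d hr⟩, hr.2⟩)
    fun a ha => ⟨d.comm_mem ha.2.1 hx, by rw [d.p_comm' ha.2.1 hx]; exact ha.2.2⟩
  have c2 := h.R_le hw hx fun e => hv (d.mem_fixS.2 ((d.ρ_fix h.tz hx).2 (Or.inl (conj_of_comm e))))
  obtain ⟨d'⟩ := exists_VD h.op.lxT
  have k : ∀ a ∈ d'.pre (d'.comS z), ∃ r ∈ O2C t ⊓ O2C z, a = r ∨ a = r * t := fun a ha => by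
    obtain ⟨r, hr, e⟩ := h.symm.exists_R d' ha.2
    exact ⟨r, hr, (d'.p_eq_iff ha.1 hr.1).1 e.symm⟩
  have c3 : d'.pre (d'.comS z) = S := eq_of_le_of_card_ge (fun a ha => by
    obtain ⟨r, hr, e⟩ := k a ha
    have m : r ∈ S := ⟨hr.1, h.op.lx.cen r hr.2, by rw [d.ρ_Q hr.2, add_self]; exact zero_mem _⟩
    rcases e with rfl | rfl
    exacts [m, mul_mem m ⟨h.op.lxT.mem, h.tz, d.com_mem _ _⟩]) (by
      rw [d.card_pre, h.card_W d, h.cR] at c1
      rw [d'.card_pre, h.symm.card_W d']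
      omega)
  obtain ⟨r, hr, rfl | rfl⟩ := k a (c3 ▸ ⟨ha, az, hm⟩)
  · exact Or.inl hr.2
  · exact Or.inr (by rw [mul_assoc, h.op.tt, mul_one]; exact hr.2)

theorem ker' {a : G} (ha : a ∈ O2C t) (az : a * z = z * a) {v : V} (hv : v ∉ d.fixS t)
    (hm : d.ρ a v + v ∈ d.comS t) (u : V) : d.ρ a u + u ∈ d.comS t := by
  rcases h.ker d hw ha az hv hm with e | e
  · rw [d.ρ_Q e, add_self]; exact zero_mem _
  · rw [d.ρ_congr h.tz (by rwa [inv_of_sq h.op.tt])]; exact d.com_mem _ _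

theorem surj {v u : V} (hv : v ∉ d.fixS t) (hu : u ∈ d.fixS t) :
    ∃ a ∈ O2C t, a * z = z * a ∧ d.ρ a v + v + u ∈ d.comS t := by
  have := d.finite
  obtain ⟨x, hx, rfl⟩ := d.p_surj v
  let Y : Submodule (ZMod 2) V :=
    { carrier := {u | ∃ a ∈ O2C t, a * z = z * a ∧ d.ρ a (d.p x) + d.p x + u ∈ d.comS t}
      zero_mem' := ⟨1, one_mem _, by simp, by rw [d.ρ_one, add_self, add_zero]; exact zero_mem _⟩
      add_mem' := by
        rintro u u' ⟨a, ha, az, e⟩ ⟨b, hb, bz, e'⟩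
        refine ⟨a * b, mul_mem ha hb, cmul az bz, ?_⟩
        have := add_mem (add_mem e e') (h.com_fix d ha az (h.com_A d hb bz (d.p x)))
        rw [map_add, ← d.ρ_mul az bz] at this
        convert this using 1; ch2
      smul_mem' := by
        rintro c u ⟨a, ha, az, e⟩
        rcases z2 c with rfl | rfl
        · exact ⟨1, one_mem _, by simp, by rw [d.ρ_one, add_self]; simp⟩
        · exact ⟨a, ha, az, by rwa [one_smul]⟩ }
  have c1 := OP.count (t := t) d hx (S := Y) (fun w hw => ⟨1, one_mem _, by simp, by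
    rw [d.ρ_one, add_self, zero_add]; exact h.U_eq d ▸ hw⟩)
    fun a ha az => ⟨a, ha, az, by rw [add_self]; exact zero_mem _⟩
  have c2 := h.R_le hw hx fun e => hv (d.mem_fixS.2 ((d.ρ_fix h.tz hx).2 (Or.inl (conj_of_comm e))))
  have c3 := h.op.card_B d h.e0
  have c4 := h.cA
  have c5 := h.cB
  rw [h.cR] at c1
  have : Y = d.fixS t := sub_eq_of_card (by
    rintro u ⟨a, ha, az, e⟩
    simpa [add_add_cancel] using add_mem (h.com_A d ha az (d.p x)) (h.W_le d e)) (by nlinarith)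
  exact (this ▸ hu : u ∈ Y)

theorem trans {v u : V} (hv : v ∉ d.fixS t) (hu : u ∈ d.fixS t) (hq : d.q (v + u) = d.q v) :
    ∃ a ∈ O2C t, a * z = z * a ∧ d.ρ a v = v + u := by
  obtain ⟨a, ha, az, e⟩ := h.surj d hw hv hu
  have e1 : d.B v (d.ρ a v + v + u) = 0 := by
    have := d.q_add (v + u) (d.ρ a v + v + u)
    rw [show v + u + (d.ρ a v + v + u) = d.ρ a v by ch2, d.q_ρ az, hq, h.q_W d e, B_addl,
      d.B_symm u, d.B_com_fix h.tz e hu, add_zero, add_zero] at this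
    exact left_eq_add.1 this
  by_cases e0 : d.ρ a v + v + u = 0
  · exact ⟨a, ha, az, by linear_combination (norm := ch2) e0⟩
  have n : d.ρ t v + v ≠ 0 := fun e => hv (d.mem_fixS.2 (XV.add_eq_zero.1 e))
  have e2 : d.ρ t v + v = d.ρ a v + v + u := by
    by_contra n'
    refine hv (mem_fix_of h.tz fun w hw => ?_)
    have e3 := (q_com h.tz v).symm.trans (h.q_W d (d.com_mem t v))
    rw [d.B_symm]
    rcases h.four d (d.com_mem t v) e n e0 n' hw with rfl | rfl | rfl | rfl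
    exacts [map_zero _, e3, e1, by rw [map_add, e1, e3, add_zero]]
  refine ⟨t * a, mul_mem h.op.lxT.mem ha, cmul h.tz az, ?_⟩
  have e3 := d.mem_fixS.1 (h.com_A d ha az v)
  rw [map_add] at e3
  rw [d.ρ_mul h.tz az]
  linear_combination (norm := ch2) e2 + e3

/-- no element acts trivially on `W^⊥ / W` and as a transvection on `V / W^⊥` -/
theorem cprime (hn : ¬ d.fixS t ≤ d.comS t) {c : G} (hc : c * z = z * c)
    (hW : ∀ w ∈ d.comS t, d.ρ c w ∈ d.comS t) (hU : ∀ u ∈ d.fixS t, d.ρ c u + u ∈ d.comS t)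
    {v₁ : V} (h1 : v₁ ∉ d.fixS t) (h2 : d.ρ c v₁ + v₁ ∈ d.fixS t) (v : V) :
    d.ρ c v + v ∈ d.fixS t := by
  by_contra hv
  obtain ⟨u, hu, hu'⟩ := SetLike.not_le_iff_exists.1 hn
  obtain ⟨a, ha, az, e⟩ := h.surj d hw hv hu
  obtain ⟨x, hx, ex⟩ := h.norm d hc hW
  have gz := cmul (cinv (h.op.lx.cen x hx)) hc
  have eg : ∀ v, d.ρ (x⁻¹ * c) v = d.ρ c v := fun v => by
    rw [d.ρ_mul (cinv (h.op.lx.cen x hx)) hc, d.ρ_Q (inv_mem hx)]
  have gt : x⁻¹ * c * t = t * (x⁻¹ * c) := by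
    calc _ = x⁻¹ * (c * t * c⁻¹) * c := by group
      _ = _ := by rw [← ex]; group
  generalize x⁻¹ * c = g at *
  have ha' : g⁻¹ * a * g⁻¹⁻¹ ∈ O2C t := h.op.lxT.conj_mem (cinv gt) ha
  have az' := cconj (cinv gz) az
  have k : ∀ v, d.ρ (g⁻¹ * a * g⁻¹⁻¹) v + v + (d.ρ a (d.ρ c v) + d.ρ c v) ∈ d.comS t := fun v => by
    have := hU _ (h.com_A d ha' az' v)
    rw [← eg, map_add, ← d.ρ_mul gz az', show g * (g⁻¹ * a * g⁻¹⁻¹) = a * g by group,
      d.ρ_mul az gz, eg, add_comm] at this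
    exact this
  have k1 := h.ker' d hw (mul_mem (inv_mem ha) ha') (cmul (cinv az) az') h1 (by
    have := add_mem (k v₁) (h.com_fix d ha az h2)
    rw [← h.fix_W d (inv_mem ha) (cinv az) this, map_add (d.ρ a)] at this
    convert this using 1
    rw [d.ρ_mul (cinv az) az', ← d.ρ_inv_ρ az v₁, ← map_add, d.ρ_inv_ρ az v₁]
    congr 1; ch2) v
  rw [← h.fix_W d ha az k1, map_add, ← d.ρ_mul az (cmul (cinv az) az'), mul_inv_cancel_left] at k1
  refine hu' ?_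
  have := add_mem (add_mem e k1) (k v)
  rw [map_add] at this
  convert this using 1; ch2

theorem perp_of_root (hn : ¬ d.fixS t ≤ d.comS t) {c : G} (hc : c * z = z * c) {y w : V}
    (hr : Rt d c y w) (hy : y ∈ d.comS t) (y0 : y ≠ 0) (e : d.B y w = 0) : w ∈ d.fixS t := by
  by_contra hn'
  obtain ⟨v, hv⟩ := exists_B_ne (d := d) y0
  have := h.cprime d hw hn hc (fun u hu => by
    rw [hr, d.B_com_fix h.tz hu (h.W_le d hy), zero_smul, add_zero]
    exact add_mem hu (Submodule.smul_mem _ _ hy)) (fun u hu => by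
      rw [hr.com, d.B_symm, d.B_com_fix h.tz hy hu, zero_smul, zero_add]
      exact Submodule.smul_mem _ _ hy) hn' (by
        rw [hr.com, d.B_symm, e, d.B_self]; simp) v
  rw [hr.com, z2_ne hv, one_smul] at this
  exact hn' ((Submodule.add_mem_iff_left _ (Submodule.smul_mem _ _ (h.W_le d hy))).1 this)

omit hw in
theorem big (h128 : 128 ≤ Nat.card (O2C z)) : ¬ d.fixS t ≤ d.comS t := fun c => by
  have := d.finite
  have c1 := Nat.card_le_card_of_injective _ (Submodule.inclusion_injective c)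
  have c2 := h.card_fix d
  have c3 := d.card_Q
  rw [h.card_W d] at c1
  omega

theorem meet_perp (h128 : 128 ≤ Nat.card (O2C z)) {t' : G} (h' : PF z t') {y : V}
    (hy : y ∈ d.comS t) (hy' : y ∈ d.comS t') (y0 : y ≠ 0) : d.comS t' ≤ d.fixS t := fun w m => by
  by_cases e : w = 0 ∨ y = w
  · rcases e with rfl | rfl
    exacts [zero_mem _, h.W_le d hy]
  rw [not_or] at e
  exact h.perp_of_root d hw (h.big d h128) h'.tz (h'.rt d hy' m y0 e.1 e.2) hy y0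
    (d.B_com_fix h'.tz hy' (h'.W_le d m))

omit hw in
theorem perp_symm {t' : G} (h' : PF z t') (e : d.comS t' ≤ d.fixS t) : d.comS t ≤ d.fixS t' :=
  fun _ hw => mem_fix_of h'.tz fun _ hu => by rw [d.B_symm, d.B_com_fix h.tz hw (e hu)]

theorem exists_out (h128 : 128 ≤ Nat.card (O2C z)) {y : V} (y0 : y ≠ 0) :
    ∃ t', PF z t' ∧ y ∉ d.fixS t' := by
  by_contra hn
  push Not at hn
  let Y : Submodule (ZMod 2) V := ⨅ s : {s // PF z s}, d.fixS s
  have mY : ∀ {v}, v ∈ Y ↔ ∀ s, PF z s → v ∈ d.fixS s := by simp [Y]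
  have iY : Inv d Y := fun c hc v hv => mY.2 fun s hs => by
    obtain ⟨s, rfl⟩ := exists_conj c s
    have hs' := hs.conjH (cinv hc)
    simp only [inv_inv, mul_assoc, inv_mul_cancel, mul_one, inv_mul_cancel_left] at hs'
    exact (fixS_conj hs'.tz hc).2 (mY.1 hv s hs')
  have k1 : ∀ s, PF z s → d.comS s ≤ d.perp Y := fun s hs w hw u hu => by
    rw [d.B_symm, d.B_com_fix hs.tz hw (mY.1 hu s hs)]
  have k2 : ∀ s, PF z s → ¬ d.perp Y ≤ d.fixS s := fun s hs c => hs.op.nm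
    (chain_two iY.perp hs.tz (fun v hv => d.mem_fixS.1 (c hv)) fun v => k1 s hs (d.com_mem _ _))
  have k3 : ∀ s, PF z s → y ∈ d.comS s := fun s hs => mem_com_of hs.tz fun u hu => by
    rw [d.B_symm]
    exact (hs.fix_le hw d iY.perp (k2 s hs)).trans (sup_le inf_le_left (k1 s hs)) hu y (mY.2 hn)
  refine k2 t h fun v hv => mem_fix_of h.tz fun w m => hv w (mY.2 fun s hs => ?_)
  exact hs.meet_perp d hw h128 h (k3 s hs) (k3 t h) y0 m

omit hw in
theorem comm_of_perp {t' : G} (tz' : t' * z = z * t') (h0 : ¬ Eps z t') (e : d.comS t ≤ d.fixS t') :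
    t' * t = t * t' :=
  h.comm_of tz' fun _ hr => d.comm_of_fix tz' h0 hr.1 (d.mem_fixS.1 (e (h.p_mem d hr)))

end PF

/-- opposite perfect partners -/
def Opp {z : G} (d : VD (O2C z) z V) (t t' : G) : Prop := ∀ w ∈ d.comS t, w ∈ d.fixS t' → w = 0

namespace PF

variable [Finite G] {z t t' : G} (h : PF z t) {d : VD (O2C z) z V}
include h

theorem dual (h' : PF z t') (o : Opp d t t') {a b : V} (ha : a ∈ d.comS t) (hb : b ∈ d.comS t)
    (a0 : a ≠ 0) (ab : a ≠ b) : ∃ a' ∈ d.comS t', d.B a a' = 1 ∧ d.B b a' = 0 := by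
  have k : ∀ w ∈ d.comS t, w ≠ 0 → ∃ u ∈ d.comS t', d.B w u = 1 := fun w hw w0 => by
    by_contra hn
    push Not at hn
    exact w0 (o w hw (mem_fix_of h'.tz fun u hu => by
      rw [d.B_symm]; exact (z2 _).resolve_right (hn u hu)))
  obtain ⟨u, hu, e⟩ := k a ha a0
  obtain ⟨u', hu', e'⟩ := k (a + b) (add_mem ha hb) fun e => ab (XV.add_eq_zero.1 e)
  rw [B_addl] at e'
  rcases z2 (d.B b u) with c | c
  · exact ⟨u, hu, e, c⟩
  rcases z2 (d.B b u') with c' | c' <;> rw [c'] at e'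
  · exact ⟨u', hu', by simpa using e', c'⟩
  · exact ⟨u + u', add_mem hu hu', by rw [map_add, e, add_eq_right.1 e']; rfl, by
      rw [map_add, c, c']; rfl⟩

theorem basis (h' : PF z t') (o : Opp d t t') : ∃ a b a' b', a ∈ d.comS t ∧ b ∈ d.comS t ∧
    a' ∈ d.comS t' ∧ b' ∈ d.comS t' ∧ a ≠ 0 ∧ b ≠ 0 ∧ a ≠ b ∧ a' ≠ 0 ∧ b' ≠ 0 ∧ a' ≠ b' ∧
    d.B a a' = 1 ∧ d.B b a' = 0 ∧ d.B a b' = 0 ∧ d.B b b' = 1 := by
  obtain ⟨a, ha, a0, -⟩ := h.second d 0
  obtain ⟨b, hb, b0, ab⟩ := h.second d a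
  obtain ⟨a', ha', e1, e2⟩ := h.dual h' o ha hb a0 ab
  obtain ⟨b', hb', e3, e4⟩ := h.dual h' o hb ha b0 ab.symm
  exact ⟨a, b, a', b', ha, hb, ha', hb', a0, b0, ab, fun e => by simp [e] at e1,
    fun e => by simp [e] at e3, fun e => by simp [e, e4] at e1, e1, e2, e4, e3⟩

theorem opp_symm (h' : PF z t') (o : Opp d t t') : Opp d t' t := fun w hw hf => by
  obtain ⟨a, b, a', b', ha, hb, ha', hb', -, -, -, a0, b0, ab, e1, e2, e3, e4⟩ := h.basis h' o
  have c1 := d.B_com_fix h.tz ha hf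
  have c2 := d.B_com_fix h.tz hb hf
  rcases h'.four d ha' hb' a0 b0 ab hw with rfl | rfl | rfl | rfl
  · rfl
  · simp [e1] at c1
  · simp [e4] at c2
  · simp [e1, e3] at c1

theorem braid (h' : PF z t') (o : Opp d t t') : t * t' * t = t' * t * t' := by
  obtain ⟨a, b, a', b', ha, hb, ha', hb', a0, b0, ab, a0', b0', ab', e1, e2, e3, e4⟩ := h.basis h' o
  have r := h.rt d ha hb a0 b0 ab
  have r' := h'.rt d ha' hb' a0' b0' ab'
  have p1 := h'.conjH h.tz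
  have p2 := h.conjH h'.tz
  have f1 : d.ρ t a' = d.ρ t' b := by
    rw [r, r', d.B_symm a', d.B_symm a', e1, e2, e4]; simp [add_comm]
  have f2 : d.ρ t b' = d.ρ t' a := by
    rw [r, r', d.B_symm b', d.B_symm b', e1, e3, e4]; simp [add_comm]
  obtain ⟨x, hx, e⟩ := p1.fib d p2.op.cj p2.tz p2.e0 fun v => by
    rw [(r'.conj h'.tz h.tz), (r.conj h.tz h'.tz).symm, f1, f2]
  have m := d.comm_mem p1.tz hx
  have w := d.com_mem (t * t' * t⁻¹) (d.p x)
  rw [← d.p_comm' p1.tz hx] at w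
  rw [e] at m w
  have i := inv_of_sq h.op.tt
  have i' := inv_of_sq h'.op.tt
  have f : d.ρ t (d.p (t' * t * t'⁻¹ * (t * t' * t⁻¹)⁻¹)) = d.p (t' * t * t'⁻¹ * (t * t' * t⁻¹)⁻¹) := by
    rw [d.ρ_p h.tz m, ← d.p_inv m]
    congr 1
    simp only [mul_inv_rev, i, i', mul_assoc, h.op.tt, mul_one]
  have w0 : d.p (t' * t * t'⁻¹ * (t * t' * t⁻¹)⁻¹) = 0 := by
    have := comS_conj p1.tz h.tz w
    rw [f, show t * (t * t' * t⁻¹) * t⁻¹ = (t * t) * t' * (t * t)⁻¹ by group, h.op.tt] at this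
    exact h.opp_symm h' o _ (by simpa using this) (d.mem_fixS.2 f)
  rcases (d.p_eq_zero m).1 w0 with c | c <;> rw [mul_inv_eq_iff_eq_mul] at c
  · rw [i, i', one_mul] at c; exact c.symm
  · exact absurd (c ▸ p2.op.cj) p1.not_tz

theorem opp_ne (h' : PF z t') (o : Opp d t t') : t * t' ≠ t' * t := fun c => by
  have := h.braid h' o
  rw [c, mul_assoc, h.op.tt, ← c, mul_assoc, h'.op.tt, mul_one, mul_one] at this
  subst this
  obtain ⟨a, ha, a0, -⟩ := h.second d 0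
  exact a0 (o a ha (h.W_le d ha))

theorem exists_opp (hw : WC z) (h128 : 128 ≤ Nat.card (O2C z)) (d : VD (O2C z) z V) :
    ∃ t', PF z t' ∧ Opp d t t' := by
  obtain ⟨y, hy, y0, -⟩ := h.second d 0
  obtain ⟨s, hs, n⟩ := h.exists_out d hw h128 y0
  by_cases o : Opp d t s
  · exact ⟨s, hs, o⟩
  simp only [Opp, not_forall] at o
  obtain ⟨w, hw', f, w0⟩ := o
  obtain ⟨u, u1, u2⟩ := exists_sep (d := d) (W := d.comS s) (v := w) fun c =>
    n (hs.meet_perp d hw h128 h c hw' w0 hy)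
  obtain ⟨a, ha, az, e⟩ := hs.surj d hw n (mem_fix_of hs.tz u1)
  have e1 : d.B (d.ρ a y + y) w = 1 := by
    have := d.B_com_fix hs.tz e f
    rw [B_addl, XV.add_eq_zero] at this
    rw [this, z2_ne u2]
  have e2 : d.B (d.ρ a w) w = 0 := by
    have := d.B_com_fix hs.tz (hs.com_fix d ha az f) f
    rwa [B_addl, d.B_self, add_zero] at this
  have e3 : d.B (d.ρ a w) y = 1 := by
    have c := hs.com_fix d (inv_mem ha) (cinv az) (hs.com_A d ha az y)
    have := d.B_com_fix hs.tz c f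
    rw [B_addl, e1, map_add, d.ρ_inv_ρ az, B_addl, d.B_com_fix h.tz hy (h.W_le d hw'),
      zero_add, XV.add_eq_zero] at this
    rw [d.B_ρ_left az, d.B_symm, this]
  rw [B_addl, d.B_com_fix h.tz hy (h.W_le d hw'), add_zero] at e1
  refine ⟨_, h.conjH az, fun v hv hf => ?_⟩
  have c1 := d.B_com_fix (h.conjH az).tz (comS_conj h.tz az hy) hf
  have c2 := d.B_com_fix (h.conjH az).tz (comS_conj h.tz az hw') hf
  rcases h.four d hy hw' y0 w0 (fun e => n (e ▸ f)) hv with rfl | rfl | rfl | rfl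
  · rfl
  · simp [e3] at c2
  · simp [e1] at c1
  · simp [e2, e3] at c2

end PF

end Cfsg.Agent.H69.Out
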