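import Cfsg.Agent.H69.WcA

/-! Weakly closed large extraspecial subgroups: trivial pairs and the unitary case. -/

set_option autoImplicit false
set_option linter.unusedSectionVars false

namespace Cfsg.Agent.H69.Out

open Subgroup Cfsg.Agent.H49 Cfsg.Agent.H69.XV Cfsg.Agent.H69.XV.VD Cfsg.Agent.H92.Lx

universe u

variable {G : Type u} [Group G] [Finite G] {V : Type*} [AddCommGroup V] [Module (ZMod 2) V]

theorem iso_sq {Q : Subgroup G} {z : G} (d : VD Q z V) {S : Submodule (ZMod 2) V}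
    (h : ∀ u ∈ S, ∀ v ∈ S, d.B u v = 0) : Nat.card S * Nat.card S ≤ Nat.card V := by
  have := d.finite
  rw [← d.card_perp S]
  exact Nat.mul_le_mul_left _ (Nat.card_le_card_of_injective _
    (Submodule.inclusion_injective (show S ≤ d.perp S from fun v hv u hu => h u hu v hv)))

theorem sub_le_two_mul [Finite V] {A K : Submodule (ZMod 2) V}
    (h : ∀ x ∈ A, ∀ y ∈ A, x ∉ K → y ∉ K → x + y ∈ K) : Nat.card A ≤ 2 * Nat.card K := by
  refine (card_le_two_mul_inf (G := Multiplicative V) (A := A.toAddSubgroup.toSubgroup)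
    (K := K.toAddSubgroup.toSubgroup) fun x hx y hy n1 n2 => ?_).trans
      (Nat.mul_le_mul_left _ (card_le_of_le inf_le_left))
  show x.toAdd + -y.toAdd ∈ K
  rw [neg_eq_of_add_eq_zero_left (add_self y.toAdd)]
  exact h _ hx _ hy n1 n2

theorem card_sup_ge [Finite V] {A K : Submodule (ZMod 2) V} (h : ∀ x ∈ A, x ∈ K → x = 0) :
    Nat.card A * Nat.card K ≤ Nat.card ↥(A ⊔ K) := by
  rw [← Nat.card_prod]
  refine Nat.card_le_card_of_injective (fun p => ⟨p.1 + p.2, Submodule.add_mem_sup p.1.2 p.2.2⟩) ?_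
  rintro ⟨a, b⟩ ⟨a', b'⟩ e
  have e1 : (a : V) + b = a' + b' := congrArg Subtype.val e
  have e2 : (a : V) + a' = b + b' := by linear_combination (norm := ch2) e1
  have e3 := h _ (add_mem a.2 a'.2) (e2 ▸ add_mem b.2 b'.2)
  rw [Subtype.ext (XV.add_eq_zero.1 e3), Subtype.ext (XV.add_eq_zero.1 (e2 ▸ e3) : (b : V) = b')]

/-- an outer pair with `Q_z ∩ Q_s = 1` -/
structure TP (z s : G) : Prop where
  op : OP z s
  tr : ∀ r ∈ O2C z, r ∈ O2C s → r = 1

namespace TP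

variable {z s : G} (h : TP z s)
include h

theorem symm : TP s z := ⟨h.op.symm, fun r a b => h.tr r b a⟩

theorem comm {a b : G} (ha : a ∈ O2C s) (az : a * z = z * a) (hb : b ∈ O2C z) (bt : b * s = s * b) :
    b * a = a * b := by
  have := h.op.AB ha az hb bt
  have := h.tr _ this.1 this.2
  rwa [mul_inv_eq_one, mul_inv_eq_iff_eq_mul] at this

variable (d : VD (O2C z) z V) (h0 : ¬ Eps z s)
include h0

theorem fix {a : G} (ha : a ∈ O2C s) (az : a * z = z * a) {v : V} (hv : v ∈ d.fixS s) :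
    d.ρ a v = v := by
  obtain ⟨b, hb, rfl⟩ := d.p_surj v
  exact (d.ρ_fix az hb).2 (Or.inl (conj_of_comm
    (h.comm ha az hb (d.comm_of_fix h.op.comm h0 hb (d.mem_fixS.1 hv)))))

theorem com {a : G} (ha : a ∈ O2C s) (az : a * z = z * a) (v : V) : d.ρ a v + v ∈ d.comS s :=
  mem_com_of h.op.comm fun u hu => by
    rw [d.B_symm, B_com az, h.fix d h0 (inv_mem ha) (cinv az) hu, add_self, map_zero]

omit d in
theorem sq {a : G} (ha : a ∈ O2C s) (az : a * z = z * a) : a * a = 1 := by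
  obtain ⟨d⟩ := exists_VD h.op.lx
  refine h.tr _ (d.mem_of_ρ (cmul az az) fun v => ?_) (mul_mem ha ha)
  have := h.fix d h0 ha az (d.comS_le_fixS h.op.comm h.op.t2 (h.com d h0 ha az v))
  rw [map_add, ← d.ρ_mul az az] at this
  linear_combination (norm := ch2) this

omit h0 in
theorem half (h0 : ¬ Eps z s) (h1 : ¬ Eps s z) : d.fixS s = d.comS s := by
  refine le_antisymm (fun v hv => mem_com_of h.op.comm fun u hu => B_of_q (fun w hw => ?_) hu hv)
    (d.comS_le_fixS h.op.comm h.op.t2)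
  obtain ⟨b, hb, rfl⟩ := d.p_surj w
  exact (d.q_eq_zero hb).2 (h.symm.sq h1 hb (d.comm_of_fix h.op.comm h0 hb (d.mem_fixS.1 hw)))

theorem card_sq (h1 : ¬ Eps s z) : Nat.card (d.comS s) * Nat.card (d.comS s) = Nat.card V := by
  rw [← d.card_comS_mul_fixS s, h.half d h0 h1]

theorem card_A (h1 : ¬ Eps s z) :
    Nat.card ↥(O2C s ⊓ centralizer {z}) = 2 * Nat.card (d.comS s) := by
  obtain ⟨d'⟩ := exists_VD h.op.lxT
  have c1 := h.symm.card_sq d' h1 h0
  have c2 := d'.card_Q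
  rw [card_O2C h.op.cj, d.card_Q, ← c1, ← h.card_sq d h0 h1] at c2
  rw [h.op.symm.card_B d' h1, h.symm.half d' h1 h0, Nat.mul_self_inj.1 (Nat.eq_of_mul_eq_mul_left two_pos c2)]

theorem exists_R (h1 : ¬ Eps s z) {x : G} (hx : x ∈ O2C z) (hn : d.p x ∉ d.fixS s) :
    ∃ r ∈ O2C s, r ∈ O2C (x * s * x⁻¹) ∧ r ≠ 1 := by
  have := d.finite
  by_contra c
  push Not at c
  obtain ⟨w, hw, n⟩ : ∃ w ∈ d.comS s, d.B w (d.p x) ≠ 0 := by
    by_contra e
    push Not at e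
    exact hn (mem_fix_of h.op.comm e)
  have c1 := OP.count (t := s) d hx (S := d.comS s ⊓ LinearMap.ker (d.B (d.p x)))
    (fun u hu => by
      obtain ⟨r, r1, r2, rfl⟩ := d.mem_sm.1 hu
      rw [h.tr r r2 r1, d.p_one]; exact zero_mem _)
    fun a ha az => ⟨h.com d h0 ha az _, LinearMap.mem_ker.2 (by
      rw [← q_com az]; exact h.op.q_W d h0 (h.com d h0 ha az _))⟩
  have c2 := two_mul_card_le (G := Multiplicative V)
    (H := (d.comS s ⊓ LinearMap.ker (d.B (d.p x))).toAddSubgroup.toSubgroup)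
    (K := (d.comS s).toAddSubgroup.toSubgroup) (fun _ hu => hu.1) (x := Multiplicative.ofAdd w) hw
    fun e => n (by rw [d.B_symm]; exact e.2)
  have c3 : 0 < Nat.card ↥(O2C z ⊓ O2C s) := Nat.card_pos
  have c4 : 0 < Nat.card (d.comS s) := Nat.card_pos
  rw [(eq_bot_iff_forall (O2C s ⊓ O2C (x * s * x⁻¹))).2 fun r hr => c r hr.1 hr.2, card_bot,
    h.card_A d h0 h1] at c1
  change 2 * Nat.card ↥(d.comS s ⊓ LinearMap.ker (d.B (d.p x))) ≤ Nat.card (d.comS s) at c2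
  nlinarith

end TP

theorem four_of_R {z s r : G} (hw : WC z) (h : OP z s) (h0 : ¬ Eps z s) (d : VD (O2C z) z V)
    (r1 : r ∈ O2C z) (r2 : r ∈ O2C s) (n : r ≠ 1) : Nat.card (d.comS s) ≤ 4 := by
  have c1 := hw.W1 h.cj (fun e => h.nm (e ▸ h.lx.mem)) h.comm r1 r2 n
  have c2 := h.card_WB d h0
  have c3 : 0 < Nat.card ↥(O2C z ⊓ centralizer {s}) := Nat.card_pos
  nlinarith

/-- the weakly closed situation, width at least three -/
structure WS (z : G) : Prop where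
  wc : WC z
  big : 128 ≤ Nat.card (O2C z)
  ex : ∃ t, PF z t

namespace WS

variable {z : G} (h : WS z)
include h

theorem of_cj {s : G} (hs : Cj z s) : WS s := by
  obtain ⟨t, ht⟩ := h.ex
  refine ⟨h.wc.of_cj hs, card_O2C hs ▸ h.big, ?_⟩
  obtain ⟨g, rfl⟩ := hs
  exact ⟨_, ht.conj g⟩

variable (d : VD (O2C z) z V)

theorem out {y : V} (y0 : y ≠ 0) : ∃ t, PF z t ∧ y ∉ d.fixS t :=
  let ⟨_, ht⟩ := h.ex; ht.exists_out d h.wc h.big y0

theorem exists_mem {v : V} (v0 : v ≠ 0) (hq : d.q v = 0) : ∃ t, PF z t ∧ v ∈ d.comS t := by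
  obtain ⟨t, ht, n⟩ := h.out d v0
  obtain ⟨t', ht', o⟩ := ht.exists_opp h.wc h.big d
  obtain ⟨a, b, a', b', ha, hb, ha', hb', a0, b0, ab, -, -, -, e1, e2, e3, e4⟩ := ht.basis ht' o
  have m : d.B a v • a' + d.B b v • b' ∈ d.comS t' :=
    add_mem (Submodule.smul_mem _ _ ha') (Submodule.smul_mem _ _ hb')
  have f : d.B a v • a' + d.B b v • b' + v ∈ d.fixS t := mem_fix_of ht.tz fun w hw => by
    have c1 : d.B a (d.B a v • a' + d.B b v • b' + v) = 0 := by simp [e1, e3, add_self]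
    have c2 : d.B b (d.B a v • a' + d.B b v • b' + v) = 0 := by simp [e2, e4, add_self]
    rcases ht.four d ha hb a0 b0 ab hw with rfl | rfl | rfl | rfl
    exacts [by simp, c1, c2, by rw [B_addl, c1, c2, add_zero]]
  generalize d.B a v • a' + d.B b v • b' = v' at *
  obtain ⟨c, hc, cz, e⟩ := ht.trans d h.wc (v := v') (fun c => n (by
    simpa [add_add_cancel] using add_mem c f)) f (by rw [add_add_cancel, hq, ht'.q_W d m])
  rw [add_add_cancel] at e
  exact ⟨_, ht'.conjH cz, e ▸ comS_conj ht'.tz cz m⟩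

end WS

/-- the unitary case: distinct lines of the family are disjoint -/
structure UC (z : G) : Prop extends WS z where
  uc : ∀ t t', PF z t → PF z t' → ∀ r ∈ O2C z, r ∈ O2C t → r ≠ 1 →
    (r ∈ O2C t' ∨ r * z ∈ O2C t') → t * t' ∈ O2C z

namespace UC

variable {z : G} (h : UC z)
include h

theorem of_cj {s : G} (hs : Cj z s) : UC s := by
  refine ⟨h.toWS.of_cj hs, fun t t' ht ht' r r1 r2 n e => ?_⟩
  obtain ⟨g, rfl⟩ := hs.symm
  rw [← mem_O2C_conj (g := g), conj_mul']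
  refine h.uc _ _ (ht.conj g) (ht'.conj g) _ (mem_O2C_conj.2 r1) (mem_O2C_conj.2 r2)
    (by simpa using n) ?_
  rwa [← conj_mul', mem_O2C_conj, mem_O2C_conj]

variable {d : VD (O2C z) z V} {t t' : G}

theorem ρ_eq (ht : PF z t) (ht' : PF z t') {y : V} (hy : y ∈ d.comS t) (hy' : y ∈ d.comS t')
    (y0 : y ≠ 0) : d.ρ t = d.ρ t' := by
  obtain ⟨r, hr, rfl⟩ := ht.exists_R d hy
  obtain ⟨r', hr', e⟩ := ht'.exists_R d hy'
  refine LinearMap.ext (d.ρ_congr ht'.tz ?_)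
  rw [inv_of_sq ht'.op.tt]
  refine h.uc t t' ht ht' r hr.1 hr.2 (fun e => y0 (by rw [e, d.p_one])) ?_
  rcases (d.p_eq_iff hr'.1 hr.1).1 e with rfl | rfl
  exacts [Or.inl hr'.2, Or.inr hr'.2]

theorem com_eq (ht : PF z t) (ht' : PF z t') {y : V} (hy : y ∈ d.comS t) (hy' : y ∈ d.comS t')
    (y0 : y ≠ 0) : d.comS t = d.comS t' := by rw [comS, h.ρ_eq ht ht' hy hy' y0, comS]

theorem norm (ht : PF z t) {c : G} (hc : c * z = z * c) {y : V} (hy : y ∈ d.comS t) (y0 : y ≠ 0)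
    (e : d.ρ c y = y) {w : V} (hw : w ∈ d.comS t) : d.ρ c w ∈ d.comS t :=
  h.com_eq ht (ht.conjH hc) hy (e ▸ comS_conj ht.tz hc hy) y0 ▸ comS_conj ht.tz hc hw

theorem dich (d : VD (O2C z) z V) (ht : PF z t) (ht' : PF z t') :
    d.comS t ≤ d.fixS t' ∨ Opp d t t' := by
  refine or_iff_not_imp_right.2 fun o y hy => ?_
  simp only [Opp, not_forall] at o
  obtain ⟨w, hw, f, w0⟩ := o
  by_contra n
  exact n (ht'.W_le d (h.com_eq ht ht' (add_mem (h.norm ht ht'.tz hw w0 (d.mem_fixS.1 f) hy) hy)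
    (d.com_mem _ _) (fun e => n (d.mem_fixS.2 (XV.add_eq_zero.1 e))) ▸ hy))

theorem perp_of_comm (d : VD (O2C z) z V) (ht : PF z t) (ht' : PF z t') (c : t * t' = t' * t) :
    d.comS t ≤ d.fixS t' := (h.dich d ht ht').resolve_right fun o => ht.opp_ne ht' o c

theorem not_tv (d : VD (O2C z) z V) {s : G} (hs : OP z s) : 2 < Nat.card (d.comS s) := by
  have := d.finite
  by_contra c
  obtain ⟨v, hv⟩ := hs.exists_move d
  have w0 : d.ρ s v + v ≠ 0 := fun e => hv (XV.add_eq_zero.1 e)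
  have k : ∀ u ∈ d.comS s, u = 0 ∨ u = d.ρ s v + v := fun u hu => by
    by_contra n
    rw [not_or] at n
    have := Nat.card_le_card_of_injective (fun i : Fin 3 => (![⟨0, zero_mem _⟩, ⟨u, hu⟩,
      ⟨_, d.com_mem s v⟩] i : d.comS s)) (by
        intro i j
        fin_cases i <;> fin_cases j <;> simp [n.1, n.2, w0, Ne.symm n.1, Ne.symm n.2, w0.symm])
    simp at this
    omega
  have q1 := q_of_rank_one hs.comm (fun u => k _ (d.com_mem s u)) hv
  generalize d.ρ s v + v = w at *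
  obtain ⟨t, ht, n⟩ := h.out d w0
  obtain ⟨y, hy, n'⟩ : ∃ y ∈ d.comS t, d.B y w ≠ 0 := by
    by_contra e
    push Not at e
    exact n (mem_fix_of ht.tz e)
  obtain ⟨y', hy', y0, e⟩ : ∃ y' ∈ d.comS t, y' ≠ 0 ∧ d.B y' w = 0 := by
    obtain ⟨b, hb, b0, n⟩ := ht.second d y
    by_cases e : d.B b w = 0
    · exact ⟨b, hb, b0, e⟩
    · exact ⟨_, add_mem hy hb, fun e => n (XV.add_eq_zero.1 e), by rw [B_addl, ne_add_one n' e]⟩
  have m := add_mem (h.norm ht hs.comm hy' y0 (d.mem_fixS.1 (mem_fix_of hs.comm fun u hu => by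
    rcases k u hu with rfl | rfl
    exacts [by simp, by rw [d.B_symm, e]])) hy) hy
  rcases k _ (d.com_mem s y) with e' | e'
  · obtain ⟨u, hu⟩ : ∃ u, d.ρ s u + u = w := by
      by_contra e
      push Not at e
      exact hv (XV.add_eq_zero.1 ((k _ (d.com_mem s v)).resolve_right (e v)))
    exact n' (by rw [d.B_symm, d.B_com_fix hs.comm (hu ▸ d.com_mem s u)
      (d.mem_fixS.2 (XV.add_eq_zero.1 e'))])
  · rw [e'] at m
    exact zero_ne_one ((ht.q_W d m).symm.trans q1)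

theorem pf_of_R {s r : G} (hs : OP z s) (h0 : ¬ Eps z s) (r1 : r ∈ O2C z) (r2 : r ∈ O2C s)
    (n : r ≠ 1) : PF z s := by
  obtain ⟨d⟩ := exists_VD hs.lx
  have := d.finite
  have c4 := four_of_R h.wc hs h0 d r1 r2 n
  have c2 := h.not_tv d hs
  obtain ⟨v, hv, v0, -⟩ := exists_second c2 0
  obtain ⟨t, ht, m⟩ := h.exists_mem d v0 (hs.q_W d h0 hv)
  obtain ⟨y, hy, y0, n1⟩ := ht.second d v
  have rt := fun {b} hb b0 nb => rt_of hs.comm hs.t2 (fun _ => hs.q_W d h0) c4 hv (b := b) hb v0 b0 nb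
  by_cases c : y ∈ d.comS s
  · obtain ⟨x, hx, rfl⟩ := ht.fib d hs.cj hs.comm h0 fun u => by
      rw [rt c y0 n1, ht.rt d m hy v0 y0 n1]
    exact ht.conjH (hs.lx.cen x hx)
  exfalso
  obtain ⟨v', hv', v0', n2⟩ := exists_second c2 v
  have le := d.comS_le_fixS hs.comm hs.t2
  have f := ht.perp_of_root d h.wc (ht.big d h.big) hs.comm (rt hv' v0' n2) m v0
    (d.B_com_fix hs.comm hv (le hv'))
  have fy : y ∈ d.fixS s := mem_fix_of hs.comm fun w hw => by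
    rw [d.B_symm]
    refine d.B_com_fix ht.tz hy ?_
    rcases four_cases c4 hv hv' v0 v0' n2 hw with rfl | rfl | rfl | rfl
    exacts [zero_mem _, ht.W_le d m, f, add_mem (ht.W_le d m) f]
  obtain ⟨x, x1, x2, x3⟩ : ∃ x ∈ d.fixS s, d.B x y ≠ 0 ∧ d.q x = 0 := by
    obtain ⟨x, x1, x2⟩ := exists_sep (d := d) c
    by_cases e : d.q x = 0
    · exact ⟨x, mem_fix_of hs.comm x1, x2, e⟩
    · exact ⟨x + y, add_mem (mem_fix_of hs.comm x1) fy, by rwa [B_addl, d.B_self, add_zero], by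
        rw [d.q_add, ht.q_W d hy, add_zero, ne_add_one e x2]⟩
  have x0 : x ≠ 0 := fun e => x2 (by simp [e])
  obtain ⟨t', ht', m'⟩ := h.exists_mem d x0 x3
  have o := (h.dich d ht ht').resolve_left fun e => x2 (d.B_com_fix ht'.tz m' (e hy))
  obtain ⟨u, hu, e, -⟩ := ht.dual ht' o m hy v0 n1
  have := ht.opp_symm ht' o _ (add_mem (h.norm ht' hs.comm m' x0 (d.mem_fixS.1 x1) hu) hu) (by
    rw [(rt hv' v0' n2).com]
    exact add_mem (Submodule.smul_mem _ _ f) (Submodule.smul_mem _ _ (ht.W_le d m)))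
  rw [(rt hv' v0' n2).com, d.B_symm, e, one_smul, XV.add_eq_zero] at this
  rcases z2 (d.B u v') with e' | e' <;> rw [e'] at this
  · exact v0' (by simpa using this)
  · exact n2 (by simpa using this.symm)

theorem not_three {t₁ t₂ t₃ : G} (h1 : PF z t₁) (h2 : PF z t₂) (h3 : PF z t₃)
    (c : t₁ * t₂ = t₂ * t₁) (n : t₁ * t₂ ∉ O2C z) (e : t₁ * t₂ * t₃ ∈ O2C z) : False := by
  obtain ⟨d⟩ := exists_VD h.wc.lx
  have k : ∀ {a b}, PF z a → PF z b → a * b = b * a → a * b ∉ O2C z → a * b * t₃ ∈ O2C z →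
      d.ρ a = d.ρ t₃ := fun {a b} ha hb c n e => by
    obtain ⟨y, hy, y0, -⟩ := ha.second d 0
    obtain ⟨v, v1, v2⟩ := exists_sep (d := d) (W := d.comS b) (v := y) fun m => n (by
      refine d.mem_of_ρ (cmul ha.tz hb.tz) fun v => ?_
      rw [d.ρ_mul ha.tz hb.tz, h.ρ_eq ha hb hy m y0, d.ρ_sq hb.tz hb.op.t2])
    refine h.ρ_eq ha h3 (d.com_mem a v) ?_ fun e => v2 ?_
    · have := d.com_mem t₃ v
      rwa [← d.ρ_congr h3.tz (by rwa [inv_of_sq h3.op.tt]), d.ρ_mul ha.tz hb.tz,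
        d.mem_fixS.1 (mem_fix_of hb.tz v1)] at this
    · rw [d.B_symm, d.B_com_fix ha.tz hy (d.mem_fixS.2 (XV.add_eq_zero.1 e))]
  refine n (d.mem_of_ρ (cmul h1.tz h2.tz) fun v => ?_)
  rw [d.ρ_mul h1.tz h2.tz, k h1 h2 c n e, ← k h2 h1 c.symm (c ▸ n) (c ▸ e), d.ρ_sq h2.tz h2.op.t2]

theorem pf_of_gp {s : G} (hs : GP z s) : PF z s := by
  by_cases c : ∀ r ∈ O2C z, r ∈ O2C s → r = 1
  swap
  · push Not at c
    obtain ⟨r, r1, r2, n⟩ := c
    exact h.pf_of_R hs.op hs.e0 r1 r2 n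
  exfalso
  have T : TP z s := ⟨hs.op, c⟩
  obtain ⟨d⟩ := exists_VD h.wc.lx
  have := d.finite
  have k : ∀ x ∈ O2C z, d.p x ∉ d.fixS s → PF s (x * s * x⁻¹) := fun x hx n => by
    obtain ⟨r, r1, r2, n'⟩ := T.exists_R d hs.e0 hs.e1 hx n
    have g := good_of h.wc hs.op d hx (fun e => n (d.mem_fixS.2 e))
      (hs.op.q_W d hs.e0 (d.com_mem _ _))
    exact (h.of_cj hs.op.cj).pf_of_R g.op g.e0 r1 r2 n'
  obtain ⟨v, hv⟩ := hs.op.exists_move d
  obtain ⟨u, u1, u2, u3⟩ : ∃ u, d.B u (d.ρ s v + v) = 0 ∧ u ∉ d.fixS s ∧ v + u ∉ d.fixS s := by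
    by_contra e
    push Not at e
    have c1 := sub_card_le_two_mul ⊤ (d.B (d.ρ s v + v))
    have c2 := sub_le_two_mul (A := ⊤ ⊓ LinearMap.ker (d.B (d.ρ s v + v))) (K := d.fixS s)
      fun x hx y hy n1 n2 => by
        have := add_mem (e x (by rw [d.B_symm]; exact hx.2) n1) (e y (by rw [d.B_symm]; exact hy.2) n2)
        rwa [add_comm4] at this
    have c4 := T.card_sq d hs.e0 hs.e1
    have c5 := h.big
    rw [d.card_Q] at c5
    rw [Nat.card_congr Submodule.topEquiv.toEquiv] at c1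
    rw [T.half d hs.e0 hs.e1] at c2
    nlinarith
  obtain ⟨y, hy, rfl⟩ := d.p_surj v
  obtain ⟨x, hx, rfl⟩ := d.p_surj u
  have p1 := k x hx u2
  have p2 := k y hy fun e => hv (d.mem_fixS.1 e)
  have p3 := k (x * y) (mul_mem hx hy) (by rwa [d.p_mul hx hy, add_comm])
  have m := d.comm_mem hs.op.comm hy
  rw [← d.p_comm' hs.op.comm hy, d.B_eq_zero hx m] at u1
  have i := inv_of_sq hs.op.tt
  have e3 : x * y * s * (x * y)⁻¹ = y * s * y⁻¹ * s * (x * s * x⁻¹) := by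
    calc _ = x * (y * s * y⁻¹ * s⁻¹) * s * x⁻¹ := by group
      _ = _ := by rw [u1, i]; group
  have c12 : y * s * y⁻¹ * (x * s * x⁻¹) = x * s * x⁻¹ * (y * s * y⁻¹) := by
    have := p3.op.tt
    rw [e3, p2.tz, mul_assoc s, ← mul_assoc _ s, mul_assoc s, cmul p2.tz p1.tz, ← mul_assoc s,
      hs.op.tt, one_mul] at this
    rw [← inv_of_sq this, mul_inv_rev, inv_of_sq p1.op.tt, inv_of_sq p2.op.tt]
  refine (h.of_cj hs.op.cj).not_three p2 p1 p3 c12 (fun e => u3 ?_) ?_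
  · have m' := d.comm_mem hs.op.comm (mul_mem hx hy)
    have e4 : x * y * s * (x * y)⁻¹ * s⁻¹ = y * s * y⁻¹ * (x * s * x⁻¹) := by
      rw [e3, mul_assoc, mul_assoc, ← mul_assoc s, ← p1.tz]; group
    rw [d.mem_fixS, ← XV.add_eq_zero, add_comm (d.p y), ← d.p_mul hx hy,
      ← d.p_comm' hs.op.comm (mul_mem hx hy), c _ m' (e4 ▸ e), d.p_one]
  · rw [e3, c12, p2.tz, mul_assoc, mul_assoc s, ← mul_assoc _ s, p2.tz, mul_assoc s,
      ← mul_assoc (y * s * y⁻¹), p2.op.tt, one_mul, ← mul_assoc, p1.tz, mul_assoc, p1.op.tt, mul_one]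
    exact hs.op.lxT.mem

theorem not_eps {s : G} (hs : OP z s) : ¬ Eps z s := fun h1 => by
  obtain ⟨d⟩ := exists_VD h.wc.lx
  have := d.finite
  have c2 := h.not_tv d hs
  have c0 := d.card_comS_mul_fixS s
  have c0' := d.card_Q
  by_cases c : ∀ r ∈ O2C z, r ∈ O2C s → r = 1
  swap
  · push Not at c
    obtain ⟨r, r1, r2, n⟩ := c
    obtain ⟨e, he, a⟩ := h1
    have c1 := h.wc.W1 hs.cj (fun e => hs.nm (e ▸ hs.lx.mem)) hs.comm r1 r2 n
    have c3 := two_mul_card_le (d.inf_le_pre_fixS hs.comm) (x := e) ((d.mem_pre_fixS hs.comm).2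
      ⟨he, Or.inr (by
        rw [mul_inv_eq_iff_eq_mul] at a ⊢
        rw [mul_assoc, ← hs.comm, ← mul_assoc, a, mul_assoc, mul_assoc, hs.lx.cen e he,
          ← mul_assoc z, hs.lx.zz, one_mul])⟩) fun c => hs.lx.toXS.mul_z_ne s (by
        rw [← a, mem_centralizer_singleton_iff.1 c.2, mul_inv_cancel_right])
    have c4 : 0 < Nat.card (d.fixS s) := Nat.card_pos
    rw [d.card_pre] at c3
    nlinarith
  have T : TP z s := ⟨hs, c⟩
  have U := h.of_cj hs.cj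
  have le := d.comS_le_fixS hs.comm hs.t2
  have k : ∀ γ ∈ O2C z, d.p γ ∈ d.comS s → d.p γ ≠ 0 → d.q (d.p γ) = 0 → PF s (γ * s) :=
    fun γ hγ m n q => by
      obtain ⟨x, hx, e⟩ := d.exists_comm' hs.comm hγ m h1
      have e' : d.ρ s (d.p x) + d.p x = d.p γ := by rw [← d.p_comm' hs.comm hx, e, mul_inv_cancel_right]
      exact e ▸ U.pf_of_gp (good_of h.wc hs d hx (fun c => n (e' ▸ XV.add_eq_zero.2 c)) (e' ▸ q))
  have k0 : ∀ {γ}, PF s (γ * s) → γ * s = s * γ := fun {γ} p => by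
    have := p.tz
    rw [mul_assoc, hs.tt, mul_one, ← mul_assoc] at this
    nth_rewrite 1 [this]
    rw [mul_assoc, hs.tt, mul_one]
  have k1 : ∀ {γ γ'}, PF s (γ' * s) → γ * s * (γ' * s) = γ * γ' := fun {γ γ'} p => by
    rw [k0 p, mul_assoc, ← mul_assoc s, hs.tt, one_mul]
  let S : Submodule (ZMod 2) (Vq h.wc.lx.toXS) :=
    { carrier := {w | w ∈ d.comS s ∧ d.q w = 0}
      zero_mem' := ⟨zero_mem _, d.q_zero⟩
      add_mem' := fun {a b} ha hb => ⟨add_mem ha.1 hb.1, by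
        rw [d.q_add, ha.2, hb.2, d.B_com_fix hs.comm ha.1 (le hb.1)]; rfl⟩
      smul_mem' := fun c a ha => by
        rcases z2 c with rfl | rfl
        exacts [by simp [d.q_zero], by simpa using ha] }
  have c3 : Nat.card (d.comS s) ≤ 2 * Nat.card S := sub_le_two_mul fun x hx y hy n1 n2 =>
    ⟨add_mem hx hy, by
      rw [d.q_add, d.B_com_fix hs.comm hx (le hy), add_zero]
      exact ne_add_one (fun e => n1 ⟨hx, e⟩) fun e => n2 ⟨hy, e⟩⟩
  obtain ⟨w, hw, w0⟩ : ∃ w ∈ S, w ≠ 0 := by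
    by_contra e
    push Not at e
    have := card_le_of_subset_list S [0] (by simpa using e)
    simp at this
    omega
  obtain ⟨γ, hγ, rfl⟩ := d.p_surj w
  have p1 := k γ hγ hw.1 w0 hw.2
  have c4 : Nat.card S ≤ 2 := by
    by_contra e
    obtain ⟨w', hw', w0', n⟩ := exists_second (not_le.1 e) (d.p γ)
    obtain ⟨γ', hγ', rfl⟩ := d.p_surj w'
    have n' : d.p (γ * γ') ≠ 0 := by rwa [d.p_mul hγ hγ', Ne, XV.add_eq_zero]
    have m := add_mem hw hw'
    rw [← d.p_mul hγ hγ'] at m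
    have p2 := k γ' hγ' hw'.1 w0' hw'.2
    have p3 := k _ (mul_mem hγ hγ') m.1 n' m.2
    refine U.not_three p1 p2 p3 ?_ (fun e => n' ?_) ?_
    · rw [k1 p2, k1 p1, ← d.B_eq_zero hγ hγ', d.B_com_fix hs.comm hw.1 (le hw'.1)]
    · rw [c _ (mul_mem hγ hγ') (k1 p2 ▸ e), d.p_one]
    · rw [k1 p2, ← mul_assoc, (d.q_eq_zero (mul_mem hγ hγ')).1 m.2, one_mul]
      exact hs.lxT.mem
  have hγz := mul_mem hγ hs.lx.mem
  have p2 := k _ hγz (by rw [d.p_mul_z hγ]; exact hw.1) (by rwa [d.p_mul_z hγ])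
    (by rw [d.p_mul_z hγ]; exact hw.2)
  have ez : γ * s * (γ * z * s) = z := by
    rw [k1 p2, ← mul_assoc, (d.q_eq_zero hγ).1 hw.2, one_mul]
  have cc : γ * s * (γ * z * s) = γ * z * s * (γ * s) := by
    rw [ez, k1 p1, hs.lx.cen γ hγ, mul_assoc, (d.q_eq_zero hγ).1 hw.2, mul_one]
  obtain ⟨d'⟩ := exists_VD hs.lxT
  have := d'.finite
  have pp := U.perp_of_comm d' p1 p2 cc
  have ρz : ∀ v, d'.ρ z v = d'.ρ (γ * s) (d'.ρ (γ * z * s) v) := fun v => by
    rw [← d'.ρ_mul p1.tz p2.tz, ez]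
  have dj : ∀ y ∈ d'.comS (γ * s), y ∈ d'.comS (γ * z * s) → y = 0 := fun y a b => by
    by_contra y0
    refine hs.nm' (d'.mem_of_ρ hs.comm.symm fun v => ?_)
    rw [ρz, U.ρ_eq p1 p2 a b y0, d'.ρ_sq p2.tz p2.op.t2]
  have e1 : ¬ Eps s z := fun ⟨e, he, a⟩ => by
    have f : d'.ρ z (d'.p e) = d'.p e := (d'.ρ_fix hs.comm.symm he).2 (Or.inr (by
      rw [mul_inv_eq_iff_eq_mul] at a ⊢
      rw [mul_assoc, hs.comm, ← mul_assoc, a, mul_assoc, mul_assoc, hs.lxT.cen e he,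
        ← mul_assoc s, hs.tt, one_mul]))
    rw [ρz] at f
    have f1 : d'.ρ (γ * s) (d'.p e) + d'.p e = d'.ρ (γ * z * s) (d'.p e) + d'.p e := by
      rw [← d'.ρ_sq p1.tz p1.op.t2 (d'.ρ (γ * z * s) _), f]
    have f2 := dj _ (d'.com_mem _ (d'.p e)) (by rw [f1]; exact d'.com_mem _ _)
    have a1 := d'.comm_of_fix p1.tz p1.e0 he (XV.add_eq_zero.1 f2)
    have a2 := d'.comm_of_fix p2.tz p2.e0 he (XV.add_eq_zero.1 (f1 ▸ f2))
    rw [← ez, cmul a1.symm a2.symm |>.symm, mul_inv_cancel_right] at a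
    exact hs.lxT.toXS.mul_z_ne _ a.symm
  have c5 := iso_sq d (S := d.sm (O2C z ⊓ centralizer {s})) fun u hu v hv => B_of_q (fun w hw => by
    obtain ⟨b, hb, -, rfl⟩ := d.mem_sm.1 hw
    exact (d.q_eq_zero hb.1).2 (T.symm.sq e1 hb.1 (mem_centralizer_singleton_iff.1 hb.2))) hu hv
  have c6 := d.card_sm (A := O2C z ⊓ centralizer {s}) inf_le_left
    ⟨hs.lx.mem, mem_centralizer_singleton_iff.2 hs.comm.symm⟩
  have c7 := d.card_fixS_le hs.comm
  have c8 := iso_sq d' (S := d'.comS (γ * s) ⊔ d'.comS (γ * z * s)) fun u hu v hv => by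
    obtain ⟨a, ha, b, hb, rfl⟩ := Submodule.mem_sup.1 hu
    obtain ⟨a', ha', b', hb', rfl⟩ := Submodule.mem_sup.1 hv
    rw [B_addl, d'.B_com_fix p1.tz ha (add_mem (p1.W_le d' ha') (p2.perp_symm d' p1 pp hb')),
      d'.B_com_fix p2.tz hb (add_mem (pp ha') (p2.W_le d' hb')), add_zero]
  have c9 := d'.card_Q
  have c10 := card_sup_ge dj
  rw [card_O2C hs.cj] at c9
  rw [p1.card_W d', p2.card_W d'] at c10
  have c11 : 256 ≤ Nat.card (Vq h.wc.lx.toXS) := by nlinarith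
  have c12 : Nat.card (Vq h.wc.lx.toXS) ≤ 8 * Nat.card (d.sm (O2C z ⊓ centralizer {s})) := by
    nlinarith
  nlinarith

theorem pf {s : G} (hs : OP z s) : PF z s :=
  h.pf_of_gp ⟨hs, h.not_eps hs, (h.of_cj hs.cj).not_eps hs.symm⟩

end UC

end Cfsg.Agent.H69.Out
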