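import Cfsg.Agent.H50.U6G

/-! Commuting graphs with lines of five points: the generalized quadrangle case. -/

set_option autoImplicit false

namespace Cfsg.Agent.H69.Wc

open Cfsg Subgroup H50 H50.U6

variable {G : Type*} [Group G]

/-- the local structure without the rank conditions -/
structure LW (D : Set G) : Prop where
  sq : ∀ x ∈ D, x * x = 1
  ne : ∀ x ∈ D, x ≠ 1
  cj : ∀ g : G, ∀ x ∈ D, g * x * g⁻¹ ∈ D
  nbr : ∀ x ∈ D, (Dx D x).Nonempty
  braid : ∀ x ∈ D, ∀ d ∈ Dx D x, ∀ e ∈ Dx D x, ¬ Commute d e → d * e * d = e * d * e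
  line : ∀ x ∈ D, ∀ d ∈ Dx D x, ∃ a b c, Five D x d a b c
  two : ∀ x ∈ D, ∀ d ∈ Dx D x, x * d ∉ D
  three : ∀ x ∈ D, ∀ d ∈ Dx D x, ∀ e ∈ Dx D x, d ≠ e → Commute d e → x * d * e ∉ D
  gq4 : ∀ x ∈ D, ∀ d ∈ Dx D x, ∀ e ∈ Dx D x, ∃ t ∈ Dx D x, ¬ Commute t d ∧ ¬ Commute t e

/-- there are no planes -/
def P3 (D : Set G) : Prop := ∀ x ∈ D, ∀ d ∈ Dx D x, ∃ a b c, Five D x d a b c ∧
  ∀ e ∈ Dx D x, Commute d e → e = d ∨ e = a ∨ e = b ∨ e = c

namespace LW

variable {D : Set G} (h : LW D)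
include h

theorem rl_braid {x y : G} (hx : x ∈ D) (hy : y ∈ D) (h1 : Rl D x y) (c : ¬ Commute x y) :
    x * y * x = y * x * y :=
  let ⟨v, hv, a, b⟩ := h1
  h.braid v hv x ⟨hx, fun e => c (e ▸ b), a⟩ y ⟨hy, fun e => c (e ▸ a.symm), b⟩ c

theorem commute_of_mul {v a b e : G} (hv : v ∈ D) (ha : a ∈ D) (hb : b ∈ Dx D a) (he : e ∈ D)
    (va : Commute v a) (vb : Commute v b) (ve : Commute v e) (c : Commute e (a * b)) :
    Commute e a ∧ Commute e b := by
  have F : IsThreeTranspositionSet {x | x ∈ D ∧ Commute v x} :=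
    tt_of (fun x hx => h.sq x hx.1) (fun x hx => h.ne x hx.1) fun x hx y hy =>
      h.rl_braid hx.1 hy.1 ⟨v, hv, hx.2, hy.2⟩
  exact (tt_commute_mul_iff F ⟨ha, va⟩ ⟨hb.1, vb⟩ ⟨he, ve⟩ hb.2.1.symm hb.2.2).1 c

theorem partner [Finite G] {z d x a : G} (hz : z ∈ D) (hd : d ∈ Dx D z) (hx : x ∈ D)
    (hxu : Commute x (z * d)) (hx' : x * (z * d) ∈ D) (ha : a ∈ Dx D z) (had : Commute d a)
    (hn : a * (z * d) ∉ D) : Commute x (a * z) ∨ Commute x (a * d) := by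
  have u1 : z * d ≠ 1 := fun e => hd.2.1 (by
    rw [eq_inv_of_mul_eq_one_right e, inv_eq_of_mul_self (h.sq z hz)])
  have au : Commute a (z * d) := ha.2.2.symm.mul_right had.symm
  obtain ⟨c, hc, e | ⟨w, hw, w1, w2, wx, wa, ⟨e1, e2⟩ | e⟩⟩ := dihedral (h.sq x hx) (h.sq a ha.1)
  all_goals have cu := commute_of_mem_pair hxu au hc
  · exact absurd (by rw [← e, ← conj_mul_of_commute cu]; exact h.cj c _ hx') hn
  · have wu := commute_of_mem_pair hxu au hw
    refine absurd ?_ (h.three x hx (x * (z * d)) ⟨hx', by simpa using u1,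
      (Commute.refl x).mul_right hxu⟩ (w * x) ⟨e1 ▸ h.cj c x hx, by simpa using w1,
      wx.symm.mul_right (Commute.refl x)⟩ (fun e => hn ?_) ?_)
    · have := h.cj c _ hx'
      rw [conj_mul_of_commute cu, e1] at this
      rwa [mul_mul_cancel_of_mul_self (h.sq x hx), ← (wu.symm.symm.mul_left hxu).eq]
    · rw [wx.eq, mul_right_inj] at e
      rw [e, ← wa.eq, ← e2]
      exact h.cj c a ha.1
    · exact (wx.symm.mul_right (Commute.refl x)).mul_left (wu.symm.mul_right hxu.symm)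
  · have wu := commute_of_mem_pair hxu au hw
    have m1 : w * a ∈ D := e ▸ h.cj c x hx
    have m2 : w * a * (z * d) ∈ D := by rw [← e, ← conj_mul_of_commute cu]; exact h.cj c _ hx'
    obtain ⟨c1, c2⟩ := h.commute_of_mul ha.1 hz hd m1 ha.2.2.symm had.symm
      (wa.symm.mul_right (Commute.refl a)) (wu.mul_left au)
    have k : ∀ {y}, w * a = y → Commute x (a * y) := fun e' => by
      rw [← e', wa.eq, mul_mul_cancel_of_mul_self (h.sq a ha.1)]; exact wx.symm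
    by_cases n1 : w * a = z
    · exact Or.inl (k n1)
    by_cases n2 : w * a = d
    · exact Or.inr (k n2)
    exact absurd ((c1.mul_right c2).eq ▸ m2) (h.three z hz d hd _ ⟨m1, n1, c1.symm⟩ (Ne.symm n2) c2.symm)

/-- the product of two commuting points determines them -/
theorem uniq [Finite G] {z d x : G} (hz : z ∈ D) (hd : d ∈ Dx D z) (hx : x ∈ D)
    (hxu : Commute x (z * d)) (hx' : x * (z * d) ∈ D) : x = z ∨ x = d := by
  obtain ⟨a, b, c, L⟩ := h.line z hz d hd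
  have ab := L.cab hd
  have ac := L.cac hd
  have bc := L.cbc hd
  have ha := h.partner hz hd hx hxu hx' L.ma (L.da hd) (by
    rw [L.prod, mul_assoc a b, mul_mul_cancel_of_mul_self (h.sq a L.ma.1)]
    exact h.two b L.mb.1 c ⟨L.mc.1, L.bc.symm, bc⟩)
  have hb := h.partner hz hd hx hxu hx' L.mb (L.db hd) (by
    rw [L.prod, ab.eq, mul_assoc b a, mul_mul_cancel_of_mul_self (h.sq b L.mb.1)]
    exact h.two a L.ma.1 c ⟨L.mc.1, L.ac.symm, ac⟩)
  have hc := h.partner hz hd hx hxu hx' L.mc (L.dc hd) (by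
    rw [L.prod, (ac.mul_left bc).eq, mul_mul_cancel_of_mul_self (h.sq c L.mc.1)]
    exact h.two a L.ma.1 b ⟨L.mb.1, L.ab.symm, ab⟩)
  have k : ∀ {y}, Commute x (y * z) ∨ Commute x (y * d) → Commute z y → Commute x (y * z) :=
    fun {y} e zy => e.elim id fun e => by
      have := e.mul_right hxu
      rwa [hd.2.2.eq, mul_assoc y, mul_mul_cancel_of_mul_self (h.sq d hd.1)] at this
  have := ((k ha L.ma.2.2).mul_right (k hb L.mb.2.2)).mul_right (k hc L.mc.2.2)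
  have e : a * z * (b * z) * (c * z) = d := by
    have e1 := L.ma.2.2
    have e2 := L.mb.2.2
    have e3 := L.mc.2.2
    calc a * z * (b * z) * (c * z) = a * b * c * z := by
          simp only [mul_assoc]
          rw [e2.left_comm, mul_mul_cancel_of_mul_self (h.sq z hz)]
      _ = d := by rw [← L.prod, hd.2.2.eq, mul_mul_cancel_right_of_mul_self (h.sq z hz)]
  rw [e] at this
  have xz : Commute x z := by
    have := hxu.mul_right this
    rwa [mul_mul_cancel_right_of_mul_self (h.sq d hd.1)] at this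
  by_contra n
  rw [not_or] at n
  exact h.three z hz d hd x ⟨hx, n.1, xz.symm⟩ (Ne.symm n.2) this.symm (hxu.eq ▸ hx')

theorem fixpt [Finite G] (h3 : P3 D) {x d w : G} (hx : x ∈ D) (hd : d ∈ Dx D x) (w2 : w * w = 1)
    (c : Commute w (x * d)) : ∃ a ∈ Dx D x, Commute a d ∧ Commute a w := by
  have i := inv_eq_of_mul_self w2
  have k : ∀ y, w * (w * y * w⁻¹) * w⁻¹ = y := fun y => by
    rw [i, ← mul_assoc, ← mul_assoc, w2, one_mul, mul_mul_cancel_right_of_mul_self w2]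
  have cu : ∀ {y}, Commute y (x * d) → Commute (w * y * w⁻¹) (x * d) := fun e =>
    (c.mul_left e).mul_left c.inv_left
  have xu := (Commute.refl x).mul_right hd.2.2
  have e0 : w * x * w⁻¹ * (x * d) = w * d * w⁻¹ := by
    rw [← conj_mul_of_commute c, mul_mul_cancel_of_mul_self (h.sq x hx)]
  have nm : (w * x * w⁻¹ = x ∧ w * d * w⁻¹ = d) ∨ (w * x * w⁻¹ = d ∧ w * d * w⁻¹ = x) := by
    rcases h.uniq hx hd (h.cj w x hx) (cu xu) (e0 ▸ h.cj w d hd.1) with e | e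
    · exact Or.inl ⟨e, by rw [← e0, e, mul_mul_cancel_of_mul_self (h.sq x hx)]⟩
    · exact Or.inr ⟨e, by rw [← e, k]⟩
  obtain ⟨a, b, c', L, hL⟩ := h3 x hx d hd
  have m : ∀ y ∈ Dx D x, Commute d y → y ≠ d →
      w * y * w⁻¹ = a ∨ w * y * w⁻¹ = b ∨ w * y * w⁻¹ = c' := fun y hy dy n => by
    have c1 := (commute_conj_iff w).2 hy.2.2
    have c2 := (commute_conj_iff w).2 dy
    have n1 : w * y * w⁻¹ ≠ w * x * w⁻¹ := by simpa using hy.2.1
    have n2 : w * y * w⁻¹ ≠ w * d * w⁻¹ := by simpa using n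
    rcases nm with ⟨e1, e2⟩ | ⟨e1, e2⟩ <;> rw [e1] at c1 n1 <;> rw [e2] at c2 n2
    · exact (hL _ ⟨h.cj w y hy.1, n1, c1⟩ c2).resolve_left n2
    · exact (hL _ ⟨h.cj w y hy.1, n2, c2⟩ c1).resolve_left n1
  have f : ∀ {y}, w * y * w⁻¹ = y → Commute y w := fun e => (conj_eq_iff_commute.1 e).symm
  rcases m a L.ma (L.da hd) L.ad with e | e | e
  · exact ⟨a, L.ma, (L.da hd).symm, f e⟩
  · refine ⟨c', L.mc, (L.dc hd).symm, f ?_⟩
    rcases m c' L.mc (L.dc hd) L.cd with e' | e' | e'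
    · exact absurd (by rw [← e, ← e', k]) L.bc
    · exact absurd (by rw [← k a, e, ← e', k]) L.ac
    · exact e'
  · refine ⟨b, L.mb, (L.db hd).symm, f ?_⟩
    rcases m b L.mb (L.db hd) L.bd with e' | e' | e'
    · exact absurd (by rw [← e, ← e', k]) L.bc
    · exact e'
    · exact absurd (by rw [← k a, e, ← e', k]) L.ab

theorem comm_pair [Finite G] (h3 : P3 D) {x d e : G} (hx : x ∈ D) (hd : d ∈ Dx D x) (he : e ∈ D)
    (c : Commute e (x * d)) : Commute e x ∧ Commute e d := by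
  obtain ⟨a, ha, c1, c2⟩ := h.fixpt h3 hx hd (h.sq e he) c
  exact h.commute_of_mul ha.1 hx hd he ha.2.2.symm c1 c2 c

theorem rl_all [Finite G] (h3 : P3 D) : ∀ x ∈ D, ∀ y ∈ D, Rl D x y := fun x hx y hy => by
  obtain ⟨d, hd⟩ := h.nbr x hx
  have u2 : x * d * (x * d) = 1 := by
    rw [mul_assoc, ← hd.2.2.left_comm, mul_mul_cancel_of_mul_self (h.sq x hx), h.sq d hd.1]
  obtain ⟨c, hc, e | ⟨w, hw, w1, w2, wu, wy, ⟨-, e⟩ | e⟩⟩ := dihedral u2 (h.sq y hy)
  · exact absurd (by simpa [← e, mul_assoc] using h.cj c⁻¹ y hy) (h.two x hx d hd)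
  · obtain ⟨a, ha, -, c2⟩ := h.fixpt h3 hx hd w2 wu
    refine ⟨a, ha.1, ha.2.2.symm, (h.comm_pair h3 hy (d := w * y) ⟨e ▸ h.cj c y hy,
      by simpa using w1, wy.symm.mul_right (Commute.refl y)⟩ ha.1 ?_).1⟩
    rwa [wy.eq, mul_mul_cancel_of_mul_self (h.sq y hy)]
  · have cw := commute_of_mem_pair wu.symm wy.symm hc
    have m : w * (x * d) ∈ D := by
      have := h.cj c⁻¹ y hy
      rwa [show y = w * (c * (x * d) * c⁻¹) by rw [e, mul_mul_cancel_of_mul_self w2],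
        show c⁻¹ * (w * (c * (x * d) * c⁻¹)) * c⁻¹⁻¹ = c⁻¹ * w * c * (x * d) by group,
        cw.inv_left.eq, inv_mul_cancel_right] at this
    obtain ⟨c1, c2⟩ := h.comm_pair h3 hx hd m (wu.mul_left (Commute.refl _))
    have k : ∀ {s}, w * (x * d) = s → Commute (s * (x * d)) y := fun e => by
      rwa [← e, mul_mul_cancel_right_of_mul_self u2]
    by_cases n : w * (x * d) = x
    · exact ⟨d, hd.1, hd.2.2.symm, by simpa [mul_mul_cancel_of_mul_self (h.sq x hx)] using k n⟩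
    obtain ⟨a, b, c', L, hL⟩ := h3 x hx d hd
    have ab := L.cab hd
    have ac := L.cac hd
    have bc := L.cbc hd
    rcases hL _ ⟨m, n, c1.symm⟩ c2.symm with e | e | e | e <;> have := (k e).symm
    · rw [hd.2.2.eq, mul_mul_cancel_of_mul_self (h.sq d hd.1)] at this
      exact ⟨x, hx, Commute.refl x, this.symm⟩
    · rw [L.prod, mul_assoc a b, mul_mul_cancel_of_mul_self (h.sq a L.ma.1)] at this
      exact ⟨b, L.mb.1, L.mb.2.2.symm, (h.comm_pair h3 L.mb.1 ⟨L.mc.1, L.bc.symm, bc⟩ hy this).1.symm⟩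
    · rw [L.prod, ab.eq, mul_assoc b a, mul_mul_cancel_of_mul_self (h.sq b L.mb.1)] at this
      exact ⟨a, L.ma.1, L.ma.2.2.symm, (h.comm_pair h3 L.ma.1 ⟨L.mc.1, L.ac.symm, ac⟩ hy this).1.symm⟩
    · rw [L.prod, (ac.mul_left bc).eq, mul_mul_cancel_of_mul_self (h.sq c' L.mc.1)] at this
      exact ⟨a, L.ma.1, L.ma.2.2.symm, (h.comm_pair h3 L.ma.1 ⟨L.mb.1, L.ab.symm, ab⟩ hy this).1.symm⟩

theorem rp (hr : ∀ x ∈ D, ∀ y ∈ D, Rl D x y) (hne : D.Nonempty) : RP D := by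
  refine ⟨⟨⟨h.sq, h.ne, fun a ha b hb => h.rl_braid ha hb (hr a ha b hb), fun a ha b hb => by
    simpa only [inv_eq_of_mul_self (h.sq a ha)] using h.cj a b hb⟩, fun a ha b hb => ?_⟩,
    fun a ha b hb => ?_, fun a ha b hb t => ?_, fun a ha b hb t => ?_, ?_⟩
  · by_cases e : b = a
    · exact e ▸ Relation.ReflTransGen.refl
    by_cases c : Commute a b
    · have mb : b ∈ Dx D a := ⟨hb, e, c⟩
      obtain ⟨x, _, _, L⟩ := h.line a ha b mb
      obtain ⟨t, ht, n1, n2⟩ := h.gq4 x L.ma.1 a ⟨ha, L.ma.2.1.symm, L.ma.2.2.symm⟩ b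
        ⟨hb, L.ad.symm, (L.da mb).symm⟩
      exact (Relation.ReflTransGen.single ⟨ha, ht.1, fun c => n1 c.symm⟩).tail ⟨ht.1, hb, n2⟩
    · exact Relation.ReflTransGen.single ⟨ha, hb, c⟩
  · obtain ⟨w, hw, c1, c2⟩ := hr a ha b hb
    exact (Relation.ReflTransGen.single ⟨ha, hw, c1.symm⟩).tail ⟨hw, hb, c2⟩
  · by_contra e
    have mb : b ∈ Dx D a := ⟨hb, Ne.symm e, (t b hb).2 (Commute.refl b)⟩
    obtain ⟨w, hw, n, -⟩ := h.gq4 a ha b mb b mb
    exact n ((t w hw.1).1 hw.2.2).symm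
  · by_contra e
    have n : ¬ Commute a b := fun c => ((t b hb).1 ⟨Ne.symm e, c⟩).1 rfl
    obtain ⟨d, hd⟩ := h.nbr a ha
    obtain ⟨x, y, w, L⟩ := h.line a ha d hd
    have k : ∀ {v}, v ∈ Dx D a → Commute b v := fun hv => ((t _ hv.1).1 hv.2).2
    refine n ?_
    rw [show a = x * y * w * d by rw [← L.prod, mul_mul_cancel_right_of_mul_self (h.sq d hd.1)]]
    exact ((((k L.ma).mul_right (k L.mb)).mul_right (k L.mc)).mul_right (k hd)).symm
  · obtain ⟨a, ha⟩ := hne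
    obtain ⟨d, hd⟩ := h.nbr a ha
    exact ⟨d, hd.1, a, ha, hd.2.1⟩

theorem not_sp (F : FS D) (hne : D.Nonempty) {n : ℕ} : ¬ IsSp D n := by
  rintro ⟨V, _, _, _, B, -, al, nd, p, hp⟩
  obtain ⟨x, hx⟩ := hne
  obtain ⟨d, hd⟩ := h.nbr x hx
  obtain ⟨a, b, c, L⟩ := h.line x hx d hd
  obtain ⟨v, v0, rfl⟩ := hp.surj x hx
  obtain ⟨w, w0, rfl⟩ := hp.surj d hd.1
  have z2 : ∀ a : ZMod 2, a = 0 ∨ a = 1 := by decide
  have cm : ∀ {u y : V}, u ≠ 0 → y ≠ 0 → (Commute (p u) (p y) ↔ B u y = 0) := fun hu hy => by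
    rw [hp.commute_iff F hu hy]; simp [hu]
  obtain ⟨y₀, e₀⟩ : ∃ y, B v y = 1 := by
    by_contra e
    exact v0 (nd.1 v fun y => (z2 _).resolve_right fun c => e ⟨y, c⟩)
  have k : ∀ a ∈ Dx D (p v), a ≠ p w → Th (Dx D (p v)) (p w) a → a = p (w - v) := fun a ha n t => by
    obtain ⟨u, u0, rfl⟩ := hp.surj a ha.1
    have k1 : ∀ y, B v y = 0 → B (w - u) y = 0 := fun y e => by
      rw [map_sub, LinearMap.sub_apply, sub_eq_zero]
      by_cases y0 : y = 0
      · simp [y0]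
      by_cases yv : y = v
      · rw [yv, (cm w0 v0).1 hd.2.2.symm, (cm u0 v0).1 ha.2.2.symm]
      have := t (p y) ⟨hp.mem y y0, fun c => yv ((hp.eq_iff y y0 v v0).1 c), (cm v0 y0).2 e⟩
      rw [cm w0 y0, cm u0 y0] at this
      rcases z2 (B w y) with c | c <;> rcases z2 (B u y) with c' | c' <;> simp_all
    have k2 := nd.1 (w - u - B (w - u) y₀ • v) fun y => by
      have := k1 (y - B v y • y₀) (by simp [e₀])
      rw [map_sub, map_smul, smul_eq_mul] at this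
      rw [map_sub, map_smul, LinearMap.sub_apply, LinearMap.smul_apply, smul_eq_mul, mul_comm, this]
    rcases z2 (B (w - u) y₀) with c | c <;> rw [c] at k2
    · exact absurd (by rw [show u = w from (sub_eq_zero.1 (by simpa using k2)).symm]) n
    · rw [one_smul, sub_right_comm, sub_eq_zero] at k2
      rw [k2]
  exact L.ab ((k a L.ma L.ad L.ta).trans (k b L.mb L.bd L.tb).symm)

theorem isU [Finite G] (hr : ∀ x ∈ D, ∀ y ∈ D, Rl D x y) (hne : D.Nonempty) :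
    ∃ n, 4 ≤ n ∧ IsU D n := by
  obtain ⟨a, ha⟩ := id hne
  obtain ⟨d, hd⟩ := h.nbr a ha
  obtain ⟨x, y, w, L⟩ := h.line a ha d hd
  rcases (h.rp hr hne).sp_or_u ⟨a, ha, fun t => L.ad (t d hd x L.ma L.ta).symm⟩ with k | k
  · obtain ⟨-, n, -, k⟩ := k
    exact absurd k (h.not_sp (h.rp hr hne).fs hne)
  · exact k.2

end LW

end Cfsg.Agent.H69.Wc
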