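import Cfsg.Agent.H69.WcB
import Cfsg.Agent.H69.WcC

/-! Weakly closed large extraspecial subgroups: the unitary case gives 3-transpositions. -/

set_option autoImplicit false
set_option linter.unusedSectionVars false

namespace Cfsg.Agent.H69.Out

open Subgroup Cfsg.Agent.H49 Cfsg.Agent.H69.XV Cfsg.Agent.H69.XV.VD Cfsg.Agent.H92.Lx
open H50 H50.U6 H69.Wc
open scoped H28

universe u

variable {G : Type u} [Group G] [Finite G] {V : Type*} [AddCommGroup V] [Module (ZMod 2) V]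

theorem card_sup_le [Finite V] (A K : Submodule (ZMod 2) V) :
    Nat.card ↥(A ⊔ K) ≤ Nat.card A * Nat.card K := by
  rw [← Nat.card_prod]
  refine Nat.card_le_card_of_surjective (fun p => ⟨p.1 + p.2, Submodule.add_mem_sup p.1.2 p.2.2⟩) ?_
  rintro ⟨v, hv⟩
  obtain ⟨a, ha, b, hb, rfl⟩ := Submodule.mem_sup.1 hv
  exact ⟨(⟨a, ha⟩, ⟨b, hb⟩), rfl⟩

theorem exists_sing_of_card {Q : Subgroup G} {z : G} (d : VD Q z V) {S : Submodule (ZMod 2) V}
    (h : 4 < Nat.card S) : ∃ v ∈ S, v ≠ 0 ∧ d.q v = 0 := by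
  by_contra hn
  push Not at hn
  have k : ∀ u ∈ S, ∀ v ∈ S, u ≠ 0 → v ≠ 0 → u ≠ v → d.B u v = 1 := fun u hu v hv u0 v0 n => by
    have := hn _ (add_mem hu hv) fun e => n (XV.add_eq_zero.1 e)
    rw [d.q_add, ne_add_one (hn u hu u0) (hn v hv v0), zero_add] at this
    exact z2_ne this
  obtain ⟨a, ha, a0, -⟩ := exists_second (W := S) (by omega) 0
  obtain ⟨b, hb, b0, ab⟩ := exists_second (W := S) (by omega) a
  have := card_le_of_subset_list S [0, a, b, a + b] fun v hv => by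
    by_contra e
    simp only [List.mem_cons, List.not_mem_nil, or_false, not_or] at e
    have := k _ hv _ (add_mem ha hb) e.1 (fun e => ab (XV.add_eq_zero.1 e)) e.2.2.2
    rw [map_add, k v hv a ha e.1 a0 e.2.1, k v hv b hb e.1 b0 e.2.2.1] at this
    exact absurd this (by decide)
  simp at this
  omega

namespace PF

variable {z t : G} (h : PF z t)
include h

theorem R_sq {r : G} (hr : r ∈ O2C z ⊓ O2C t) : r * r = 1 :=
  h.op.lx.toXS.sq_of_z_not_mem inf_le_left (fun e => h.op.nm' e.2) hr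

theorem exists_R2 : ∃ r₁ ∈ O2C z ⊓ O2C t, ∃ r₂ ∈ O2C z ⊓ O2C t, r₁ ≠ 1 ∧ r₂ ≠ 1 ∧ r₁ ≠ r₂ ∧
    ∀ r ∈ O2C z ⊓ O2C t, r = 1 ∨ r = r₁ ∨ r = r₂ ∨ r = r₁ * r₂ := by
  obtain ⟨d⟩ := exists_VD h.op.lx
  obtain ⟨a, ha, a0, -⟩ := h.second d 0
  obtain ⟨b, hb, b0, ab⟩ := h.second d a
  obtain ⟨r, hr, rfl⟩ := h.exists_R d ha
  obtain ⟨r', hr', rfl⟩ := h.exists_R d hb
  have k : ∀ x ∈ O2C z ⊓ O2C t, ∀ y ∈ O2C z ⊓ O2C t, d.p x = d.p y → x = y := fun x hx y hy e =>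
    ((d.p_eq_iff hx.1 hy.1).1 e).resolve_right fun e =>
      h.op.nm' (by simpa [e] using (O2C t).mul_mem ((O2C t).inv_mem hy.2) hx.2)
  refine ⟨r, hr, r', hr', fun e => a0 (by rw [e, d.p_one]), fun e => b0 (by rw [e, d.p_one]),
    fun e => ab (by rw [e]), fun s hs => ?_⟩
  rcases h.four d ha hb a0 b0 ab (h.p_mem d hs) with e | e | e | e
  · exact Or.inl (h.op.p_inj d hs e)
  · exact Or.inr (Or.inl (k _ hs _ hr e))
  · exact Or.inr (Or.inr (Or.inl (k _ hs _ hr' e)))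
  · exact Or.inr (Or.inr (Or.inr (k _ hs _ (mul_mem hr hr') (by rw [e, d.p_mul hr.1 hr'.1]))))

theorem fib_cases {x : G} (hx : x ∈ O2C z) :
    x * t * x⁻¹ = t ∨ ∃ r ∈ O2C z ⊓ O2C t, r ≠ 1 ∧ x * t * x⁻¹ = r * (z * t) := by
  obtain ⟨d⟩ := exists_VD h.op.lx
  obtain ⟨r, hr, a⟩ := h.exists_R d (d.com_mem t (d.p x))
  rw [← d.p_comm' h.tz hx] at a
  rcases (d.p_eq_iff (d.comm_mem h.tz hx) hr.1).1 a.symm with b | b <;>
    rw [mul_inv_eq_iff_eq_mul] at b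
  · rw [h.op.gam hr.1 hr.2 b, one_mul] at b
    exact Or.inl b
  · refine Or.inr ⟨r, hr, fun e => h.not_tz ?_, by rw [b, mul_assoc]⟩
    rw [e, one_mul] at b
    exact b ▸ h.op.cj.conj x

theorem pf_R {r : G} (hr : r ∈ O2C z ⊓ O2C t) (n : r ≠ 1) : PF z (r * (z * t)) := by
  obtain ⟨e, he, a⟩ := h.op.exists_gam h.e0 hr n
  rw [← mul_assoc, ← a]
  exact h.conjH (h.op.lx.cen e he)

end PF

namespace UC

variable {z : G} (h : UC z)
include h

theorem comm_iff (d : VD (O2C z) z V) {t t' : G} (ht : PF z t) (ht' : PF z t') :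
    Commute t t' ↔ d.comS t ≤ d.fixS t' :=
  ⟨h.perp_of_comm d ht ht', fun e => (ht.comm_of_perp d ht'.tz ht'.e0 e).symm⟩

theorem at_pt {x : G} (hx : x ∈ Cl z) : UC x := h.of_cj (isConj_iff.1 hx)

theorem pf_pt {x d : G} (hx : x ∈ Cl z) (hd : d ∈ Dx (Cl z) x) : PF x d :=
  (h.at_pt hx).pf (op_of_wc (h.at_pt hx).wc (isConj_iff.1 (hx.symm.trans hd.1)) hd.2.1 hd.2.2.symm)

omit h in
theorem mem_pt {x d : G} (hx : x ∈ Cl z) (hd : PF x d) : d ∈ Dx (Cl z) x :=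
  ⟨hx.trans (isConj_iff.2 hd.op.cj), fun e => hd.op.nm (e ▸ hd.op.lx.mem), hd.tz.symm⟩

theorem five {x t : G} (hx : x ∈ Cl z) (hd : t ∈ Dx (Cl z) x) : ∃ a b c, Five (Cl z) x t a b c ∧
    ∀ e ∈ Dx (Cl z) x, e * t ∈ O2C x → e = t ∨ e = a ∨ e = b ∨ e = c := by
  have ht := h.pf_pt hx hd
  have U := h.at_pt hx
  obtain ⟨d⟩ := exists_VD ht.op.lx
  obtain ⟨r, hr, r', hr', n, n', nn, all⟩ := ht.exists_R2
  have hr'' := mul_mem hr hr'
  have n'' : r * r' ≠ 1 := fun e => nn (by rw [eq_inv_of_mul_eq_one_left e, inv_of_sq (ht.R_sq hr')])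
  have k1 : ∀ s ∈ O2C x ⊓ O2C t, s * (x * t) ≠ t := fun s hs e => ht.op.nm' (by
    rw [← mul_assoc, mul_eq_right] at e
    rw [eq_inv_of_mul_eq_one_right e]; exact inv_mem hs.2)
  have k2 : ∀ s ∈ O2C x ⊓ O2C t, s ≠ 1 → Th (Dx (Cl z) x) t (s * (x * t)) := fun s hs n e he => by
    have : d.ρ (s * (x * t)) = d.ρ t := LinearMap.ext (d.ρ_congr ht.tz (by
      rw [← mul_assoc, mul_inv_cancel_right]; exact mul_mem hs.1 ht.op.lx.mem))
    rw [U.comm_iff d ht (h.pf_pt hx he), U.comm_iff d (ht.pf_R hs n) (h.pf_pt hx he), comS, comS, this]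
  have k3 : ∀ s ∈ O2C x ⊓ O2C t, Commute s (x * t) := fun s hs =>
    Commute.mul_right (ht.op.lx.cen s hs.1) (ht.op.lxT.cen s hs.2)
  refine ⟨_, _, _, ⟨mem_pt hx (ht.pf_R hr n), mem_pt hx (ht.pf_R hr' n'), mem_pt hx (ht.pf_R hr'' n''),
    k1 r hr, k1 r' hr', k1 _ hr'', by simpa using nn, by simpa using n', by simpa using n, ?_,
    k2 r hr n, k2 r' hr' n', k2 _ hr'' n''⟩, fun e he m => ?_⟩
  · have u2 : x * t * (x * t) = 1 := by
      rw [mul_assoc, ← mul_assoc t, ht.tz, mul_assoc, ht.op.tt, mul_one, ht.op.lx.zz]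
    rw [mul_assoc r, ← mul_assoc (x * t), ← (k3 r' hr').eq, mul_assoc r', u2, mul_one, ← mul_assoc,
      ht.R_sq hr'', one_mul]
  · have pe := h.pf_pt hx he
    obtain ⟨y, hy, rfl⟩ := ht.fib d pe.op.cj pe.tz pe.e0
      (d.ρ_congr ht.tz (by rwa [inv_of_sq ht.op.tt]))
    rcases ht.fib_cases hy with e | ⟨s, hs, s1, e⟩
    · exact Or.inl e
    · rcases all s hs with rfl | rfl | rfl | rfl
      exacts [absurd rfl s1, Or.inr (Or.inl e), Or.inr (Or.inr (Or.inl e)), Or.inr (Or.inr (Or.inr e))]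

theorem exists_nc {t t' : G} (ht : PF z t) (ht' : PF z t') :
    ∃ s, PF z s ∧ ¬ Commute s t ∧ ¬ Commute s t' := by
  obtain ⟨d⟩ := exists_VD ht.op.lx
  obtain ⟨y, hy, y0, -⟩ := ht.second d 0
  obtain ⟨y', hy', y0', -⟩ := ht'.second d 0
  obtain ⟨x, x1, x2⟩ : ∃ x, d.B x y ≠ 0 ∧ d.B x y' ≠ 0 := by
    by_cases e : y = y'
    · obtain ⟨x, hx⟩ := exists_B_ne (d := d) y0
      exact ⟨x, hx, e ▸ hx⟩
    obtain ⟨u, u1, u2⟩ := exists_sep_one (d := d) y0 e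
    obtain ⟨v, v1, v2⟩ := exists_sep_one (d := d) y0' (Ne.symm e)
    exact ⟨u + v, by rwa [B_addl, v1, add_zero], by rwa [B_addl, u1, zero_add]⟩
  have k0 : ∀ {w}, w ∈ d.comS t → x + w ∉ d.fixS t := fun hw m => x1 (by
    rw [d.B_symm]
    exact d.B_com_fix ht.tz hy ((Submodule.add_mem_iff_left _ (ht.W_le d hw)).1 m))
  obtain ⟨u, u1, u2, u3⟩ : ∃ u, d.q u = 0 ∧ u ∉ d.fixS t ∧ u ∉ d.fixS t' := by
    have x3 : x ∉ d.fixS t' := fun m => x2 (by rw [d.B_symm, d.B_com_fix ht'.tz hy' m])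
    by_cases e : d.q x = 0
    · exact ⟨x, e, by simpa using k0 (zero_mem _), x3⟩
    have k1 : ∀ {w}, w ∈ d.comS t → d.B x w ≠ 0 → d.q (x + w) = 0 := fun hw n => by
      rw [d.q_add, ht.q_W d hw, add_zero, ne_add_one e n]
    by_cases c : x + y ∈ d.fixS t'
    swap
    · exact ⟨_, k1 hy x1, k0 hy, c⟩
    obtain ⟨w, hw, n1, n2⟩ : ∃ w ∈ d.comS t, y ≠ w ∧ d.B x w ≠ 0 := by
      obtain ⟨b, hb, b0, n⟩ := ht.second d y
      by_cases e : d.B x b = 0
      · exact ⟨_, add_mem hy hb, by simpa using b0, by rwa [map_add, e, add_zero]⟩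
      · exact ⟨b, hb, n, e⟩
    refine ⟨_, k1 hw n2, k0 hw, fun m => x3 ?_⟩
    have := add_mem c m
    rw [add_comm4] at this
    exact (Submodule.add_mem_iff_left _ ((h.dich d ht ht').resolve_right (fun o =>
      n1 (XV.add_eq_zero.1 (o _ (add_mem hy hw) this))) hy)).1 c
  obtain ⟨s, hs, m⟩ := h.exists_mem d (v := u) (fun e => u2 (e ▸ zero_mem _)) u1
  exact ⟨s, hs, fun c => u2 ((h.comm_iff d hs ht).1 c m), fun c => u3 ((h.comm_iff d hs ht').1 c m)⟩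

theorem lw : LW (Cl z) := by
  refine ⟨fun x hx => (h.at_pt hx).wc.lx.zz, fun x hx => (h.at_pt hx).wc.lx.ne,
    fun g x => conj_mem_Cl g, fun x hx => ?_, fun x hx a ha b hb c => ?_, fun x hx a ha => ?_,
    fun x hx a ha c => (h.pf_pt hx ha).not_tz (isConj_iff.1 (hx.symm.trans c)),
    fun x hx a ha b hb n c m => ?_, fun x hx a ha b hb => ?_⟩
  · obtain ⟨t, ht⟩ := (h.at_pt hx).ex
    exact ⟨t, mem_pt hx ht⟩
  · obtain ⟨d⟩ := exists_VD (h.at_pt hx).wc.lx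
    have pa := h.pf_pt hx ha
    have pb := h.pf_pt hx hb
    exact pa.braid pb (((h.at_pt hx).dich d pa pb).resolve_left fun e =>
      c (((h.at_pt hx).comm_iff d pa pb).2 e))
  · obtain ⟨a, b, c, L, -⟩ := h.five hx ha
    exact ⟨a, b, c, L⟩
  · have pa := h.pf_pt hx ha
    have pb := h.pf_pt hx hb
    have U := h.at_pt hx
    have n' : x * a * b ≠ x := fun e => n (by
      rw [mul_assoc, mul_eq_left] at e
      rw [eq_inv_of_mul_eq_one_left e, inv_of_sq pb.op.tt])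
    have c' := ((Commute.refl x).mul_right ha.2.2).mul_right hb.2.2
    refine U.not_three pa pb (h.pf_pt hx ⟨m, n', c'⟩) c (fun e => n' ?_) ?_
    · exact U.wc.eq (isConj_iff.1 (hx.symm.trans m)) (mul_assoc x a b ▸ mul_mem U.wc.lx.mem e)
    · rw [mul_assoc x, ← mul_assoc, ← (ha.2.2.mul_right hb.2.2).eq, mul_assoc, mul_assoc a,
        ← c.left_comm, ← mul_assoc a a, pa.op.tt, one_mul, pb.op.tt, mul_one]
      exact U.wc.lx.mem
  · obtain ⟨s, hs, c⟩ := (h.at_pt hx).exists_nc (h.pf_pt hx ha) (h.pf_pt hx hb)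
    exact ⟨s, mem_pt hx hs, c⟩

theorem p3 (h5 : Nat.card (O2C z) < 512) : P3 (Cl z) := fun x hx t ht => by
  obtain ⟨a, b, c, L, hL⟩ := h.five hx ht
  refine ⟨a, b, c, L, fun e he c => hL e he ?_⟩
  have U := h.at_pt hx
  have p1 := h.pf_pt hx ht
  have p2 := h.pf_pt hx he
  obtain ⟨d⟩ := exists_VD U.wc.lx
  have := d.finite
  have pp := (U.comm_iff d p1 p2).1 c
  by_contra n
  have c1 := card_sup_ge (A := d.comS t) (K := d.comS e) fun y a b => by
    by_contra y0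
    refine n (d.mem_of_ρ (cmul p2.tz p1.tz) fun v => ?_)
    rw [d.ρ_mul p2.tz p1.tz, U.ρ_eq p1 p2 a b y0, d.ρ_sq p2.tz p2.op.t2]
  have c2 := iso_sq d (S := d.comS t ⊔ d.comS e) fun u hu v hv => by
    obtain ⟨a, ha, b, hb, rfl⟩ := Submodule.mem_sup.1 hu
    obtain ⟨a', ha', b', hb', rfl⟩ := Submodule.mem_sup.1 hv
    rw [B_addl, d.B_com_fix p1.tz ha (add_mem (p1.W_le d ha') (p2.perp_symm d p1 pp hb')),
      d.B_com_fix p2.tz hb (add_mem (pp ha') (p2.W_le d hb')), add_zero]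
  have c3 := d.card_Q
  rw [p1.card_W d, p2.card_W d] at c1
  rw [card_O2C (isConj_iff.1 hx)] at c3
  nlinarith

theorem gq1 (h5 : 512 ≤ Nat.card (O2C z)) {t t' : G} (ht : PF z t) (ht' : PF z t') :
    ∃ s, PF z s ∧ Commute s t ∧ Commute s t' := by
  obtain ⟨d⟩ := exists_VD h.wc.lx
  have := d.finite
  have c1 := d.card_perp (d.comS t ⊔ d.comS t')
  have c2 := card_sup_le (d.comS t) (d.comS t')
  have c3 := d.card_Q
  rw [ht.card_W d, ht'.card_W d] at c2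
  obtain ⟨v, hv, v0, q⟩ := exists_sing_of_card d (S := d.perp (d.comS t ⊔ d.comS t')) (by nlinarith)
  obtain ⟨s, hs, m⟩ := h.exists_mem d v0 q
  have k : ∀ {a}, PF z a → d.comS a ≤ d.comS t ⊔ d.comS t' → Commute s a := fun ha le =>
    (h.comm_iff d hs ha).2 ((h.dich d hs ha).resolve_right fun o =>
      v0 (o v m (mem_fix_of ha.tz fun w hw => hv w (le hw))))
  exact ⟨s, hs, k ht le_sup_left, k ht' le_sup_right⟩

theorem gq3 {a b c e f t : G} (ha : PF z a) (hb : PF z b) (hc : PF z c) (he : PF z e) (hf : PF z f)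
    (ht : PF z t) (hp : ([a, b, c, e, f] : List G).Pairwise Commute) (h1 : a * b * c * e * f = 1) :
    Commute t a ∨ Commute t b ∨ Commute t c ∨ Commute t e ∨ Commute t f := by
  by_contra hn
  simp only [not_or] at hn
  simp only [List.pairwise_cons, List.mem_cons, List.not_mem_nil, or_false, forall_eq_or_imp,
    forall_eq, IsEmpty.forall_iff, implies_true, List.Pairwise.nil, and_true] at hp
  obtain ⟨⟨ab, ac, ae, af⟩, ⟨bc, be, bf⟩, ⟨ce, cf⟩, ef⟩ := hp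
  obtain ⟨d⟩ := exists_VD h.wc.lx
  obtain ⟨v, hv, v0, -⟩ := ht.second d 0
  obtain ⟨u, hu, u0, n⟩ := ht.second d v
  have k : ∀ {s}, PF z s → ¬ Commute t s → d.B u (d.ρ s v + v) = 1 := fun {s} hs n' => by
    have o := (h.dich d ht hs).resolve_left fun e => n' ((h.comm_iff d ht hs).2 e)
    refine z2_ne fun e => v0 (o v hv (d.mem_fixS.2 (XV.add_eq_zero.1
      (ht.opp_symm hs o _ (d.com_mem s v) (mem_fix_of ht.tz fun w hw => ?_)))))
    have e' := (q_com hs.tz v).symm.trans (hs.q_W d (d.com_mem s v))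
    rcases ht.four d hv hu v0 u0 n hw with rfl | rfl | rfl | rfl
    exacts [by simp, e', e, by rw [B_addl, e, e', add_zero]]
  have m : ∀ {x y}, PF z x → PF z y → Commute x y → d.ρ x (d.ρ y v + v) = d.ρ y v + v :=
    fun hx hy c => d.mem_fixS.1 ((h.comm_iff d hy hx).1 c.symm (d.com_mem _ _))
  have e0 := d.ρ_one v
  rw [← h1, d.ρ_mul (cmul (cmul (cmul ha.tz hb.tz) hc.tz) he.tz) hf.tz,
    d.ρ_mul (cmul (cmul ha.tz hb.tz) hc.tz) he.tz, d.ρ_mul (cmul ha.tz hb.tz) hc.tz,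
    d.ρ_mul ha.tz hb.tz] at e0
  have e1 : d.ρ e (d.ρ f v) = d.ρ e v + (d.ρ f v + v) := by
    rw [← m he hf ef, ← map_add]; congr 1; ch2
  have e2 : d.ρ c (d.ρ e v + (d.ρ f v + v)) = d.ρ c v + (d.ρ e v + v) + (d.ρ f v + v) := by
    rw [← m hc he ce, ← m hc hf cf, ← map_add, ← map_add, m hc hf cf]; congr 1; ch2
  have e3 : d.ρ b (d.ρ c v + (d.ρ e v + v) + (d.ρ f v + v)) =
      d.ρ b v + (d.ρ c v + v) + (d.ρ e v + v) + (d.ρ f v + v) := by
    rw [map_add, map_add, m hb he be, m hb hf bf, ← m hb hc bc, ← map_add]; congr 3; ch2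
  have e4 : d.ρ a (d.ρ b v + (d.ρ c v + v) + (d.ρ e v + v) + (d.ρ f v + v)) =
      d.ρ a v + (d.ρ b v + v) + (d.ρ c v + v) + (d.ρ e v + v) + (d.ρ f v + v) := by
    rw [map_add, map_add, map_add, m ha he ae, m ha hf af, m ha hc ac, ← m ha hb ab, ← map_add]
    congr 4; ch2
  rw [e1, e2, e3, e4] at e0
  have e5 : d.ρ a v + v + (d.ρ b v + v) + (d.ρ c v + v) + (d.ρ e v + v) + (d.ρ f v + v) = 0 := by
    linear_combination (norm := ch2) e0
  have := congrArg (d.B u) e5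
  rw [map_add, map_add, map_add, map_add, k ha hn.1, k hb hn.2.1, k hc hn.2.2.1, k he hn.2.2.2.1,
    k hf hn.2.2.2.2, map_zero] at this
  exact absurd this (by decide)

theorem ag : ∃ a b c, PF z a ∧ PF z b ∧ PF z c ∧ AGt a b c := by
  obtain ⟨d⟩ := exists_VD h.wc.lx
  have := d.finite
  obtain ⟨t, ht⟩ := h.ex
  obtain ⟨t', ht', o⟩ := ht.exists_opp h.wc h.big d
  obtain ⟨a, b, a', b', ha, hb, ha', hb', a0, b0, ab, -, -, -, e1, e2, e3, e4⟩ := ht.basis ht' o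
  have c1 := d.card_perp (d.comS t ⊔ d.comS t')
  have c2 := card_sup_le (d.comS t) (d.comS t')
  have c3 := d.card_Q
  have c4 := h.big
  rw [ht.card_W d, ht'.card_W d] at c2
  obtain ⟨u, hu, q⟩ : ∃ u ∈ d.perp (d.comS t ⊔ d.comS t'), d.q u ≠ 0 := by
    by_contra e
    push Not at e
    obtain ⟨y, hy, y0, -⟩ := exists_second (W := d.perp (d.comS t ⊔ d.comS t')) (by nlinarith) 0
    obtain ⟨w, hw, w', hw', rfl⟩ := Submodule.mem_sup.1
      (d.perp_perp (d.comS t ⊔ d.comS t') ▸ fun v hv => B_of_q e hv hy : y ∈ d.comS t ⊔ d.comS t')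
    have f := mem_fix_of ht.tz fun v hv => hy v (Submodule.mem_sup_left hv)
    have f' := mem_fix_of ht'.tz fun v hv => hy v (Submodule.mem_sup_right hv)
    rw [o w hw ((Submodule.add_mem_iff_left _ (ht'.W_le d hw')).1 f'), ht.opp_symm ht' o w' hw'
      ((Submodule.add_mem_iff_right _ (ht.W_le d hw)).1 f), add_zero] at y0
    exact y0 rfl
  have u1 := hu a (Submodule.mem_sup_left ha)
  have u2 := hu b (Submodule.mem_sup_left hb)
  have u3 := hu a' (Submodule.mem_sup_right ha')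
  have f1 : d.B a (a' + u + a) = 1 := by simp [e1, u1, d.B_self]
  have f2 : d.B a' (a' + u + a) = 1 := by simp [u3, d.B_self, d.B_symm a' a, e1]
  have f3 : d.B b (a' + u + a) = 0 := by simp [e2, u2, d.B_com_fix ht.tz hb (ht.W_le d ha)]
  obtain ⟨s, hs, m⟩ := h.exists_mem d (v := a' + u + a) (fun e => by simp [e] at f1) (by
    rw [d.q_add, d.q_add, ht'.q_W d ha', ht.q_W d ha, u3, B_addl, d.B_symm a', d.B_symm u, e1, u1,
      z2_ne q]; rfl)
  refine ⟨t, t', s, ht, ht', hs, ht.opp_ne ht' o, fun c => ?_, fun c => ?_, fun c => ?_⟩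
  · exact zero_ne_one ((d.B_com_fix ht.tz ha ((h.comm_iff d hs ht).1 c.symm m)).symm.trans f1)
  · exact zero_ne_one ((d.B_com_fix ht'.tz ha' ((h.comm_iff d hs ht').1 c.symm m)).symm.trans f2)
  · have := d.B_com_fix ht'.tz ha' ((h.comm_iff d (hs.conjH ht.tz) ht').1
      (by rw [inv_of_sq ht.op.tt]; exact c.symm) (comS_conj hs.tz ht.tz m))
    rw [ht.rt d ha hb a0 b0 ab, d.B_symm _ a, d.B_symm _ b, f1, f3, map_add, map_add, f2] at this
    simp [d.B_symm a' b, e2] at this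

theorem lg (h5 : 512 ≤ Nat.card (O2C z)) : LG (Cl z) := by
  have L := h.lw
  refine ⟨L.sq, L.ne, L.cj, L.nbr, L.braid, L.line, L.two, L.three, fun x hx a ha b hb => ?_,
    fun x hx a ha b hb c hc d hd e he t ht => (h.at_pt hx).gq3 (h.pf_pt hx ha) (h.pf_pt hx hb)
      (h.pf_pt hx hc) (h.pf_pt hx hd) (h.pf_pt hx he) (h.pf_pt hx ht), L.gq4, fun x hx => ?_⟩
  · obtain ⟨s, hs, c⟩ := (h.at_pt hx).gq1 (card_O2C (isConj_iff.1 hx) ▸ h5) (h.pf_pt hx ha)
      (h.pf_pt hx hb)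
    exact ⟨s, mem_pt hx hs, c⟩
  · obtain ⟨a, b, c, ha, hb, hc, A⟩ := h.ag
    exact ⟨a, isConj_iff.2 ha.op.cj, b, isConj_iff.2 hb.op.cj, c, isConj_iff.2 hc.op.cj, A⟩

end UC

theorem WS.Q_le {z : G} (h : WS z) {K : Subgroup G} (hK : ∀ x ∈ Cl z, x ∈ K) : O2C z ≤ K := by
  obtain ⟨d⟩ := exists_VD h.wc.lx
  have hz := hK z (self_mem_Cl z)
  have : d.sm K = ⊤ := by
    rw [← d.perp_perp (d.sm K), eq_top_iff]
    intro v _ y hy
    by_contra n
    obtain ⟨t, ht, m⟩ := h.out d (y := y) fun e => n (by simp [e])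
    refine m (mem_fix_of ht.tz fun w hw => hy w ?_)
    obtain ⟨u, rfl⟩ := d.mem_comS.1 hw
    obtain ⟨x, hx, rfl⟩ := d.p_surj u
    rw [← d.p_comm' ht.tz hx, d.p_mem_sm hz (d.comm_mem ht.tz hx)]
    exact mul_mem (hK _ (isConj_iff.2 (ht.op.cj.conj x))) (inv_mem (hK _ (isConj_iff.2 ht.op.cj)))
  exact fun q hq => (d.p_mem_sm hz hq).1 (this ▸ Submodule.mem_top)

theorem WS.cent {z : G} (h : WS z) {u : G} (hu : ∀ x ∈ Cl z, Commute u x) : u = 1 ∨ u = z :=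
  h.wc.lx.toXS.mem_Z.1 (h.wc.lx.centralizer_eq ▸ fun _ hq => mem_centralizer_singleton_iff.1
    (h.Q_le (K := centralizer {u}) (fun x hx => mem_centralizer_singleton_iff.2 (hu x hx).symm) hq))

namespace UC

variable {z : G} (h : UC z)
include h

theorem rl_all (hO : pPrimeCore 2 G = ⊥) : ∀ x ∈ Cl z, ∀ y ∈ Cl z, Rl (Cl z) x y := by
  by_cases h5 : Nat.card (O2C z) < 512
  · exact h.lw.rl_all (h.p3 h5)
  have L := h.lg (not_lt.1 h5)
  have hz := self_mem_Cl z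
  have top : L.stab hz = ⊤ := by
    by_contra hM
    have Z := L.zd hz (fun g => conj_mem_Cl g hz) (two_central h.wc.lx) hM
    have se := Z.se_of_odd H86.zd_core fun u _ h2 hu => by
      rcases h.cent (u := u) (fun d hd => by
        have := Z.comm_core hd hu
        rw [hO, mem_bot, mul_inv_eq_one, mul_inv_eq_iff_eq_mul] at this
        exact this.symm) with e | e
      · exact ne_one_of_orderOf_two h2 e
      · exact Z.not_mem_core (Z.exists_fix (IsConj.refl z)) (e ▸ hu)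
    obtain ⟨d, hd⟩ := L.nbr z hz
    have := H10.SE.isConj_involutions se (a := ⟨z, mem_K hz⟩)
      (b := ⟨z * d, mul_mem (mem_K hz) (mem_K hd.1)⟩)
      (by rw [← orderOf_coe]; exact h.wc.lx.toXS.orderOf_z) (by
        rw [← orderOf_coe]
        refine orderOf_two_of ?_ fun e => hd.2.1 ?_
        · rw [mul_assoc, ← hd.2.2.left_comm, mul_mul_cancel_of_mul_self (L.sq z hz), L.sq d hd.1]
        · rw [eq_inv_of_mul_eq_one_right e, h.wc.lx.toXS.inv_z])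
    exact L.two z hz d hd ((normalClosure ({z} : Set G)).subtype.map_isConj this)
  have k : ∀ x ∈ Cl z, Rl (Cl z) z x := fun x hx => by
    obtain ⟨g, rfl⟩ := isConj_iff.1 hx
    exact (L.mem_stab hz).1 (top ▸ mem_top g)
  exact fun x hx y hy => L.rl_trans hx hz hy (k x hx).symm (k y hy)

theorem rp (hO : pPrimeCore 2 G = ⊥) : RP (Cl z) := h.lw.rp (h.rl_all hO) ⟨z, self_mem_Cl z⟩

theorem cent_K (hO : pPrimeCore 2 G = ⊥) :
    centralizer (normalClosure ({z} : Set G) : Set G) = ⊥ := eq_bot_iff.2 fun u hu => by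
  have c : ∀ d ∈ Cl z, Commute u d := fun d hd => (hu d (mem_K hd)).symm
  rcases h.cent c with e | e
  · exact e
  · obtain ⟨d, hd, n⟩ := (h.rp hO).exists_not_commute' (self_mem_Cl z)
    exact absurd (e ▸ c d hd) n

theorem iso (hO : pPrimeCore 2 G = ⊥) : ∃ n, 4 ≤ n ∧ IsU (Cl z) n ∧
    Nonempty (normalClosure ({z} : Set G) ≃* PSU n H28.K4 2) := by
  obtain ⟨n, hn, W, i1, i2, i3, B, e1, e2, p, hp⟩ := h.lw.isU (h.rl_all hO) ⟨z, self_mem_Cl z⟩
  obtain ⟨q, -, hq⟩ := hp.sub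
  obtain ⟨e, -⟩ := H84.isU_equiv (n := n) ⟨W, i1, i2, i3, B, e1, e2, q, hq⟩ (h.rp hO).fs.sub
    (closure_sub _) (eq_bot_iff.2 fun u hu => by
      have : (u : G) ∈ centralizer (normalClosure ({z} : Set G) : Set G) := fun k hk =>
        congrArg Subtype.val (mem_center_iff.1 hu ⟨k, K_eq z ▸ hk⟩)
      rw [h.cent_K hO] at this
      exact Subtype.ext this) hn
  rw [← K_eq] at e
  exact ⟨n, hn, ⟨W, i1, i2, i3, B, e1, e2, p, hp⟩, ⟨e⟩⟩

end UC

end Cfsg.Agent.H69.Out
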