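import Cfsg.Agent.H69.WcD
import Cfsg.Agent.H70.CoWC2
import Cfsg.Agent.S1614

/-! Weakly closed large extraspecial subgroups: two lines of the family meet only in width four;
the simple groups of width three. -/

set_option autoImplicit false
set_option linter.unusedSectionVars false

namespace Cfsg.Agent.H69.Out

open Subgroup Cfsg.Agent.H49 Cfsg.Agent.H69.XV Cfsg.Agent.H69.XV.VD Cfsg.Agent.H92.Lx
open H50 H50.U6 H69.Wc
open scoped H28

universe u

variable {G : Type u} [Group G] [Finite G] {V : Type*} [AddCommGroup V] [Module (ZMod 2) V]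

/-- two perfect partners whose lines meet -/
structure CT (z t s η : G) : Prop where
  ws : WS z
  pt : PF z t
  ps : PF z s
  m : η ∈ O2C z
  mt : η ∈ O2C t
  ms : η * z ∈ O2C s
  ne : η ≠ 1
  n : t * s ∉ O2C z

theorem exists_CT {z : G} (h : WS z) (hn : ¬ UC z) : ∃ t s η, CT z t s η := by
  by_contra e
  push Not at e
  refine hn ⟨h, fun t t' ht ht' r r1 r2 n c => ?_⟩
  by_contra n'
  rcases c with c | c
  · obtain ⟨x, hx, a⟩ := h.wc.lx.toXS.exists_conj_eq_mul_z r1 n fun e => ht.op.nm' (e ▸ r2)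
    have xz := h.wc.lx.cen x hx
    refine e t _ r ⟨h, ht, ht'.conjH xz, r1, r2, a ▸ mem_O2C_conj.2 c, n, fun m => n' ?_⟩
    have := mul_mem (mul_mem (inv_mem (h.wc.lx.conj_mem ht.tz hx)) m) hx
    convert this using 1
    group
  · exact e t t' r ⟨h, ht, ht', r1, r2, c, n, n'⟩

namespace CT

variable {z t s η : G} (h : CT z t s η)
include h

theorem lx : LX (O2C z) z := h.ws.wc.lx

theorem zz : η * z * z = η := by rw [mul_assoc, h.lx.zz, mul_one]

theorem nz : η * z ≠ 1 := fun e => h.pt.op.nm' (eq_inv_of_mul_eq_one_right e ▸ inv_mem h.mt)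

theorem comm : s * t = t * s := by
  obtain ⟨d⟩ := exists_VD h.lx
  refine h.pt.comm_of_perp d h.ps.tz h.ps.e0 (h.ps.meet_perp d h.ws.wc h.ws.big h.pt (y := d.p η)
    ?_ (h.pt.p_mem d ⟨h.m, h.mt⟩) fun e => h.ne (h.pt.op.p_inj d ⟨h.m, h.mt⟩ e))
  rw [← d.p_mul_z h.m]
  exact h.ps.p_mem d ⟨mul_mem h.m h.lx.mem, h.ms⟩

theorem symm : CT z s t (η * z) :=
  ⟨h.ws, h.ps, h.pt, mul_mem h.m h.lx.mem, h.ms, h.zz.symm ▸ h.mt, h.nz, h.comm ▸ h.n⟩

theorem cj : Cj t s := h.pt.op.cj.symm.trans h.ps.op.cj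

theorem op : OP t s := op_of_wc (h.ws.wc.of_cj h.pt.op.cj) h.cj
  (fun e => h.n (by rw [e, h.pt.op.tt]; exact one_mem _)) h.comm

section

variable (d : VD (O2C z) z V)

theorem yt : d.p η ∈ d.comS t := h.pt.p_mem d ⟨h.m, h.mt⟩

theorem ys : d.p η ∈ d.comS s := d.p_mul_z h.m ▸ h.symm.yt d

theorem y0 : d.p η ≠ 0 := fun e => h.ne (h.pt.op.p_inj d ⟨h.m, h.mt⟩ e)

theorem perp : d.comS s ≤ d.fixS t :=
  h.pt.meet_perp d h.ws.wc h.ws.big h.ps (h.yt d) (h.ys d) (h.y0 d)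

theorem exists_w : ∃ w ∈ d.comS s, w ∉ d.comS t ∧ Rt d s (d.p η) w := by
  obtain ⟨w, hw, w0, n⟩ := h.ps.second d (d.p η)
  have r := h.ps.rt d (h.ys d) hw (h.y0 d) w0 n
  refine ⟨w, hw, fun c => h.n (d.mem_of_ρ (cmul h.pt.tz h.ps.tz) fun v => ?_), r⟩
  rw [d.ρ_mul h.pt.tz h.ps.tz, r, ← h.pt.rt d (h.yt d) c (h.y0 d) w0 n, d.ρ_sq h.pt.tz h.pt.op.t2]

theorem com_fix {u : V} (hu : u ∈ d.fixS t) : d.ρ s u + u = 0 ∨ d.ρ s u + u = d.p η := by
  obtain ⟨w, -, -, r⟩ := h.exists_w d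
  rw [r.com, d.B_symm, d.B_com_fix h.pt.tz (h.yt d) hu]
  rcases z2 (d.B u w) with e | e <;> simp [e]

end

theorem conj_B {b : G} (hb : b ∈ O2C z) (bt : b * t = t * b) :
    b * s * b⁻¹ = s ∨ b * s * b⁻¹ = η * s := by
  obtain ⟨d⟩ := exists_VD h.lx
  refine (h.ps.fib_cases hb).imp_right fun ⟨r, hr, r1, e⟩ => ?_
  have e1 : d.ρ s (d.p b) + d.p b = d.p r := by
    rw [← d.p_comm' h.ps.tz hb, e, ← mul_assoc, mul_inv_cancel_right, d.p_mul_z hr.1]
  have := (h.com_fix d (d.mem_fixS.2 ((d.ρ_fix h.pt.tz hb).2 (Or.inl (conj_of_comm bt))))).resolve_left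
    fun c => r1 (h.ps.op.p_inj d hr (e1 ▸ c))
  rcases (d.p_eq_iff hr.1 h.m).1 (e1 ▸ this) with c | c
  · exact absurd (by simpa [c] using (O2C s).mul_mem ((O2C s).inv_mem hr.2) h.ms) h.ps.op.nm'
  · rw [e, c, ← mul_assoc, h.zz]

theorem exists_b : ∃ b ∈ O2C z, b * t = t * b ∧ b * s * b⁻¹ = η * s := by
  obtain ⟨d⟩ := exists_VD h.lx
  obtain ⟨w, hw, n, -⟩ := h.exists_w d
  obtain ⟨u, u1, u2⟩ := exists_sep (d := d) n
  obtain ⟨b, hb, rfl⟩ := d.p_surj u
  have bt := d.comm_of_fix h.pt.tz h.pt.e0 hb (d.mem_fixS.1 (mem_fix_of h.pt.tz u1))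
  refine ⟨b, hb, bt, (h.conj_B hb bt).resolve_left fun e => u2 ?_⟩
  rw [d.B_symm]
  exact d.B_com_fix h.ps.tz hw (d.mem_fixS.2 ((d.ρ_fix h.ps.tz hb).2
    (Or.inl (conj_of_comm (mul_inv_eq_iff_eq_mul.1 e)))))

theorem not_pf : ¬ PF z (s * t) := fun p => by
  obtain ⟨b, hb, bt, e⟩ := h.exists_b
  obtain ⟨b', hb', bs, e'⟩ := h.symm.exists_b
  refine p.e0 ⟨b * b', mul_mem hb hb', ?_⟩
  have c1 := h.ps.op.lxT.cen _ h.ms
  have c2 := h.pt.op.R_comm hb bt h.m h.mt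
  calc _ = b * (b' * s * b'⁻¹ * (b' * t * b'⁻¹)) * b⁻¹ := by group
    _ = b * s * b⁻¹ * (b * η * b⁻¹) * (b * z * b⁻¹) * (b * t * b⁻¹) := by
      rw [e', conj_of_comm bs.symm]; group
    _ = η * (s * (η * z)) * t := by
      rw [e, conj_of_comm c2.symm, conj_of_comm (h.lx.cen b hb).symm, conj_of_comm bt.symm]; group
    _ = _ := by
      rw [← c1, ← mul_assoc, ← mul_assoc, h.pt.R_sq ⟨h.m, h.mt⟩, one_mul, ← h.ps.tz, mul_assoc,
        ← h.pt.tz, mul_assoc]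

variable (d : VD (O2C t) t V)

theorem W_fix : d.comS z ≤ d.fixS s := fun w hw => by
  obtain ⟨r, hr, rfl⟩ := h.pt.symm.exists_R d hw
  obtain ⟨d'⟩ := exists_VD h.lx
  exact d.mem_fixS.2 ((d.ρ_fix h.comm hr.1).2 (Or.inl (conj_of_comm (d'.comm_of_fix h.ps.tz h.ps.e0
    hr.2 (d'.mem_fixS.1 (h.symm.perp d' (h.pt.p_mem d' ⟨hr.2, hr.1⟩)))))))

theorem fix_le : d.fixS s ≤ d.fixS z := fun v hv => by
  have := d.finite
  by_contra n
  have p := h.pt.symm
  have le : d.fixS z ≤ d.fixS s := fun u hu => by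
    obtain ⟨b, hb, bt, e⟩ := p.surj d (h.ws.wc.of_cj h.pt.op.cj) n hu
    have m : d.ρ b v ∈ d.fixS s := by
      have := (fixS_conj h.comm bt).2 hv
      rcases h.conj_B hb bt with c | c <;> rw [c] at this
      · exact this
      · rwa [d.mem_fixS, d.ρ_mul (h.op.lx.cen _ h.mt) h.comm, d.ρ_Q h.mt, ← d.mem_fixS] at this
    exact (Submodule.add_mem_iff_right _ (add_mem m hv)).1 (h.W_fix d e)
  have le' : d.comS s ≤ d.comS z := by
    rw [← d.perp_fixS h.comm, ← d.perp_fixS p.tz]; exact perp_anti le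
  obtain ⟨u, hu⟩ := h.op.exists_move d
  have u0 : d.ρ s u + u ≠ 0 := fun e => hu (XV.add_eq_zero.1 e)
  refine zero_ne_one ((p.q_W d (le' (d.com_mem s u))).symm.trans
    (q_of_rank_one h.comm (fun x => ?_) hu))
  by_contra c
  rw [not_or] at c
  refine n (mem_fix_of p.tz fun w hw => d.B_com_fix h.comm ?_ hv)
  rcases p.four d (le' (d.com_mem s x)) (le' (d.com_mem s u)) c.1 u0 c.2 hw with rfl | rfl | rfl | rfl
  exacts [zero_mem _, d.com_mem _ _, d.com_mem _ _, add_mem (d.com_mem _ _) (d.com_mem _ _)]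

omit d in
theorem B_le {b : G} (hb : b ∈ O2C t) (bs : b * s = s * b ∨ b * s * b⁻¹ = s * t) :
    b * z = z * b := by
  obtain ⟨d⟩ := exists_VD h.op.lx
  refine d.comm_of_fix h.pt.tz.symm h.pt.e1 hb (d.mem_fixS.1 (h.fix_le d (d.mem_fixS.2
    ((d.ρ_fix h.comm hb).2 (bs.imp conj_of_comm fun a => ?_)))))
  rw [mul_inv_eq_iff_eq_mul] at a ⊢
  rw [mul_assoc, ← h.comm, ← mul_assoc, a, mul_assoc, mul_assoc, h.op.lx.cen b hb,
    ← mul_assoc t, h.pt.op.tt, one_mul]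

omit d in
theorem not_eps : ¬ Eps t s := fun ⟨_, he, a⟩ =>
  h.not_pf (a ▸ h.ps.conjH (h.B_le he (Or.inr a)))

omit d in
theorem tp : TP t s := ⟨h.op, fun r r1 r2 => by
  by_contra n
  obtain ⟨d⟩ := exists_VD h.op.lx
  have := d.finite
  have p := h.pt.symm
  have c4 := four_of_R (h.ws.wc.of_cj h.pt.op.cj) h.op h.not_eps d r1 r2 n
  have le : d.comS z ≤ d.comS s := by
    rw [← d.perp_fixS h.comm, ← d.perp_fixS p.tz]; exact perp_anti (h.fix_le d)
  obtain ⟨a, ha, a0, -⟩ := p.second d 0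
  obtain ⟨b, hb, b0, ab⟩ := p.second d a
  have m : s * z ∈ O2C t := d.mem_of_ρ (cmul h.comm p.tz) fun v => by
    rw [d.ρ_mul h.comm p.tz, rt_of h.comm h.op.t2 (fun _ => h.op.q_W d h.not_eps) c4 (le ha) (le hb)
      a0 b0 ab, ← p.rt d ha hb a0 b0 ab, d.ρ_sq p.tz p.op.t2]
  obtain ⟨d'⟩ := exists_VD h.lx
  obtain ⟨w, hw, w0, n'⟩ := h.pt.second d' (d'.p η)
  obtain ⟨v, v1, v2⟩ := exists_sep_one (d := d') w0 n'.symm
  obtain ⟨w', -, -, r⟩ := h.exists_w d'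
  rcases h.pt.ker d' h.ws.wc m (cmul h.ps.tz rfl) (v := v)
    (fun c => v2 (by rw [d'.B_symm, d'.B_com_fix h.pt.tz hw c])) (by
      rw [d'.ρ_mul h.ps.tz rfl, d'.ρ_Q h.lx.mem, r.com, v1, zero_smul, zero_add]
      exact Submodule.smul_mem _ _ (h.yt d')) with c | c
  · exact h.ps.op.nm (by simpa using (O2C z).mul_mem c ((O2C z).inv_mem h.lx.mem))
  · rw [mul_assoc, ← h.pt.tz, ← mul_assoc, h.comm] at c
    exact h.n (by simpa using (O2C z).mul_mem c ((O2C z).inv_mem h.lx.mem))⟩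

theorem com_A {u : V} (hu : u ∈ d.fixS z) : d.ρ s u + u ∈ d.comS z := by
  obtain ⟨a, ha, rfl⟩ := d.p_surj u
  have p := h.pt.symm
  have az := d.comm_of_fix p.tz p.e0 ha (d.mem_fixS.1 hu)
  obtain ⟨d'⟩ := exists_VD h.lx
  obtain ⟨v, hv⟩ := h.pt.op.exists_move d'
  have ha' := h.op.lx.conj_mem h.comm ha
  have az' := cconj h.ps.tz az
  have k : ∀ u ∈ d'.fixS t, d'.ρ s u + u ∈ d'.comS t := fun u hu => by
    rcases h.com_fix d' hu with e | e <;> rw [e]
    exacts [zero_mem _, h.yt d']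
  have m := h.pt.ker d' h.ws.wc (mul_mem (inv_mem ha) ha') (cmul (cinv az) az') (v := v)
    (fun c => hv (d'.mem_fixS.1 c)) (by
      have c1 := k _ (h.pt.com_A d' ha az (d'.ρ s v))
      have c2 := h.pt.com_fix d' ha az (h.perp d' (d'.com_mem s v))
      have := add_mem c1 c2
      rw [← h.pt.fix_W d' (inv_mem ha) (cinv az) this] at this
      convert this using 1
      rw [d'.ρ_mul (cinv az) az', ρ_conj h.ps.tz az, ρ_inv_sq h.ps.tz h.ps.op.t2,
        ← d'.ρ_inv_ρ az v, ← map_add, d'.ρ_inv_ρ az v, map_add (d'.ρ s), map_add (d'.ρ a),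
        d'.ρ_sq h.ps.tz h.ps.op.t2]
      congr 1; ch2)
  have m' := mul_mem (inv_mem ha) ha'
  rw [d.ρ_p h.comm ha, add_comm, ← d.p_inv ha, ← d.p_mul (inv_mem ha) ha']
  rcases m with c | c
  · exact p.p_mem d ⟨m', c⟩
  · rw [← d.p_mul_z m']
    exact p.p_mem d (mem_inf.2 ⟨mul_mem m' h.op.lx.mem, c⟩)

omit d in
theorem card : Nat.card (O2C z) = 512 := by
  obtain ⟨d⟩ := exists_VD h.op.lx
  have := d.finite
  have p := h.pt.symm
  have c1 := card_range_mul_ker ((d.ρ s + LinearMap.id).domRestrict (d.fixS z))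
  have c2 : Nat.card (LinearMap.range ((d.ρ s + LinearMap.id).domRestrict (d.fixS z))) ≤ 4 := by
    rw [← p.card_W d]
    refine Nat.card_le_card_of_injective _ (Submodule.inclusion_injective ?_)
    rintro _ ⟨u, rfl⟩
    exact h.com_A d u.2
  have c3 : Nat.card (LinearMap.ker ((d.ρ s + LinearMap.id).domRestrict (d.fixS z))) ≤
      Nat.card (d.fixS s) := Nat.card_le_card_of_injective (fun u => ⟨u.1.1, u.2⟩)
    fun u v e => Subtype.ext (Subtype.ext (congrArg (fun x : d.fixS s => x.1) e))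
  have c4 := p.card_fix d
  have c5 := h.tp.card_sq d h.not_eps h.symm.not_eps
  have c6 := H70.WC.parity d h.op.tt h.comm fun v => h.op.q_W d h.not_eps (d.com_mem s v)
  have c7 := d.card_Q
  have c8 := h.ws.big
  rw [h.tp.half d h.not_eps h.symm.not_eps] at c3
  rw [card_O2C h.pt.op.cj] at c7
  have c9 := Module.natCard_eq_pow_finrank (K := ZMod 2) (V := d.comS s)
  rw [Nat.card_zmod] at c9
  generalize Module.finrank (ZMod 2) (d.comS s) = k at c9
  have c10 : Nat.card (d.comS s) ≤ 16 := by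
    have : 0 < Nat.card (d.comS s) := Nat.card_pos
    nlinarith
  rw [c7, ← c5, c9]
  rw [← c5] at c7
  rw [c9] at c6 c7 c10
  have : k < 5 := (Nat.pow_lt_pow_iff_right one_lt_two).1 (by omega)
  interval_cases k <;> omega

end CT

theorem ws_of {z : G} (hw : WC z) (h128 : 128 ≤ Nat.card (O2C z)) (hO : pPrimeCore 2 G = ⊥)
    (hz : z ∉ center G) : WS z := by
  rcases exists_conj_comm hw.lx with ⟨N, hN, ho, h⟩ | ⟨s, s1, s2, s3⟩
  · refine absurd (mem_center_iff.2 fun g => ?_) hz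
    have := H3.le_pPrimeCore (p := 2) (Nat.coprime_two_right.2 ho) (h g)
    rw [hO, mem_bot, mul_inv_eq_one, mul_inv_eq_iff_eq_mul] at this
    exact this.symm
  · exact ⟨hw, h128, exists_perfect hw h128 (op_of_wc hw s1 s2 s3)⟩

theorem WS.uc {z : G} (h : WS z) (h5 : Nat.card (O2C z) ≠ 512) : UC z := by
  by_contra hn
  obtain ⟨t, s, η, c⟩ := exists_CT h hn
  exact h5 c.card

theorem UC.lt_six {z : G} (h : UC z) (h5 : Nat.card (O2C z) < 512) (F : FS (Cl z)) {n : ℕ}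
    (hU : IsU (Cl z) n) : n < 6 := by
  by_contra hn
  obtain ⟨x, hx, a, ha, b, hb, c, hc, e, he, n1, n2, n3, c1, c2, c3⟩ :=
    S1614.str_u hU F (not_lt.1 hn)
  obtain ⟨p, q, r, L, hL⟩ := h.p3 h5 x hx e he
  have k : ∀ y ∈ Dx (Cl z) x, Commute y e → Th (Dx (Cl z) x) e y := fun y hy c => by
    rcases hL y hy c.symm with rfl | rfl | rfl | rfl
    exacts [fun _ _ => Iff.rfl, L.ta, L.tb, L.tc]
  exact n1 ((k a ha c2 b hb).1 c3.symm)

theorem center_bot_of_wc [IsSimpleGroup G] {z : G} (h : LX (O2C z) z) :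
    pPrimeCore 2 G = ⊥ ∧ z ∉ center G ∧ normalClosure ({z} : Set G) = ⊤ := by
  obtain ⟨s, ⟨g, rfl⟩, s2, -⟩ := exists_conj_comm_simple h
  refine ⟨(IsSimpleGroup.eq_bot_or_eq_top_of_normal _ inferInstance).resolve_right fun e => ?_,
    fun c => s2 (by rw [mem_center_iff.1 c, mul_inv_cancel_right]),
    (IsSimpleGroup.eq_bot_or_eq_top_of_normal _ inferInstance).resolve_left fun e =>
      h.ne (mem_bot.1 (e ▸ mem_K (self_mem_Cl z)))⟩
  have := H3.pPrimeCore_coprime 2 G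
  rw [e, card_top] at this
  exact absurd (this.symm.coprime_dvd_right (h.toXS.orderOf_z ▸ orderOf_dvd_natCard z)) (by norm_num)

/-- the weakly closed case of width three -/
theorem wc3 [IsSimpleGroup G] {z : G} (hw : WC z) (h : Nat.card (O2C z) = 128) :
    ∃ (F : Type) (_ : Field F) (_ : Fintype F), Fintype.card F = 4 ∧ Nonempty (G ≃* PSU 5 F 2) := by
  obtain ⟨hO, hz, ht⟩ := center_bot_of_wc hw.lx
  have U := (ws_of hw h.ge hO hz).uc (by omega)
  obtain ⟨n, hn, hU, ⟨e⟩⟩ := U.iso hO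
  have e' := topEquiv.symm.trans ((MulEquiv.subgroupCongr ht.symm).trans e)
  have h6 := U.lt_six (by omega) (U.rp hO).fs hU
  obtain rfl : n = 5 := by
    by_contra c
    obtain rfl : n = 4 := by omega
    have c1 := S0280.result (F := H28.K4) (q := 2) H28.card_K4 4 (by norm_num)
    have c2 := card_subgroup_dvd_card (O2C z)
    rw [h, Nat.card_congr e'.toEquiv] at c2
    simp [Finset.prod_range_succ, Nat.even_iff] at c1
    omega
  exact ⟨_, _, _, H28.card_K4, ⟨e'⟩⟩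

end Cfsg.Agent.H69.Out
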