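import Cfsg.Agent.H69.WcE

/-! Weakly closed large extraspecial subgroups of order `2 ^ 9`: trivial pairs and their root
elements. -/

set_option autoImplicit false
set_option linter.unusedSectionVars false

namespace Cfsg.Agent.H69.Out

open Subgroup Cfsg.Agent.H49 Cfsg.Agent.H69.XV Cfsg.Agent.H69.XV.VD Cfsg.Agent.H92.Lx

universe u

variable {G : Type u} [Group G] [Finite G] {V : Type*} [AddCommGroup V] [Module (ZMod 2) V]

theorem GP.pf {z t : G} (hw : WC z) (h : GP z t) (h4 : 4 ≤ Nat.card ↥(O2C z ⊓ O2C t)) :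
    PF z t := by
  have k : ∀ {a b : G}, WC a → GP a b → 4 ≤ Nat.card ↥(O2C a ⊓ O2C b) →
      Nat.card ↥(O2C a ⊓ O2C b) = 4 ∧
        4 * Nat.card ↥(O2C a ⊓ centralizer {b}) = Nat.card (O2C a) := fun {a b} hw h h4 => by
    obtain ⟨d⟩ := exists_VD h.op.lx
    have := d.finite
    obtain ⟨r, hr, n⟩ : ∃ r ∈ O2C a ⊓ O2C b, r ≠ 1 := by
      by_contra c
      push Not at c
      rw [(eq_bot_iff_forall _).2 c, card_bot] at h4
      omega
    refine h.of_le d (sub_eq_of_card (h.op.U_le_W d h.e0) ?_).ge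
    rw [h.op.card_U d]
    exact (four_of_R hw h.op h.e0 d hr.1 hr.2 n).trans h4
  obtain ⟨a, b⟩ := k hw h h4
  exact ⟨h, a, b, (k (hw.of_cj h.op.cj) h.symm (inf_comm (O2C z) _ ▸ h4)).2.trans
    (card_O2C h.op.cj)⟩

theorem ρ_mul_z {Q : Subgroup G} {z a : G} (d : VD Q z V) (az : a * z = z * a) :
    d.ρ (a * z) = d.ρ a := LinearMap.ext fun v => by rw [d.ρ_mul az rfl, d.ρ_Q d.lx.mem]

theorem comS_mul_z {Q : Subgroup G} {z a : G} (d : VD Q z V) (az : a * z = z * a) :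
    d.comS (a * z) = d.comS a := by rw [comS, ρ_mul_z d az, comS]

theorem fixS_mul_z {Q : Subgroup G} {z a : G} (d : VD Q z V) (az : a * z = z * a) :
    d.fixS (a * z) = d.fixS a := by rw [fixS, ρ_mul_z d az, fixS]

/-- a trivial pair in width four -/
structure CB (z s : G) : Prop where
  ws : WS z
  tp : TP z s
  e0 : ¬ Eps z s
  e1 : ¬ Eps s z
  c9 : Nat.card (O2C z) = 512

/-- `a z` is conjugate to `z` under `Q_s` -/
def RTy (z s a : G) : Prop := ∃ e ∈ O2C s, e * z * e⁻¹ = a * z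

theorem CB.conj {z s : G} (h : CB z s) (g : G) : CB (g * z * g⁻¹) (g * s * g⁻¹) :=
  ⟨h.ws.of_cj ⟨g, rfl⟩, ⟨h.tp.op.conj g, fun r r1 r2 => by
    obtain ⟨r, rfl⟩ := exists_conj g r
    rw [h.tp.tr r (mem_O2C_conj.1 r1) (mem_O2C_conj.1 r2), mul_one, mul_inv_cancel]⟩,
    fun e => h.e0 e.of_conj, fun e => h.e1 e.of_conj, (card_O2C ⟨g, rfl⟩).trans h.c9⟩

theorem exists_CB {z : G} (h : WS z) (hn : ¬ UC z) : ∃ s, CB z s := by
  obtain ⟨t, s, η, c⟩ := exists_CT h hn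
  have k : CB t s := ⟨h.of_cj c.pt.op.cj, c.tp, c.not_eps, c.symm.not_eps,
    (card_O2C c.pt.op.cj).trans c.card⟩
  obtain ⟨g, rfl⟩ := c.pt.op.cj.symm
  exact ⟨_, k.conj g⟩

namespace CB

variable {z s : G} (h : CB z s)
include h

theorem op : OP z s := h.tp.op

theorem lx : LX (O2C z) z := h.op.lx

theorem sz : s * z = z * s := h.op.comm

theorem symm : CB s z :=
  ⟨h.ws.of_cj h.op.cj, h.tp.symm, h.e1, h.e0, (card_O2C h.op.cj).trans h.c9⟩

theorem conjH {c : G} (hc : c * z = z * c) : CB z (c * s * c⁻¹) := by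
  have := h.conj c
  rwa [conj_of_comm hc.symm] at this

section

variable (d : VD (O2C z) z V)

theorem half : d.fixS s = d.comS s := h.tp.half d h.e0 h.e1

include d in
theorem cV : Nat.card V = 256 := by have := d.card_Q; have := h.c9; omega

theorem cT : Nat.card (d.comS s) = 16 :=
  Nat.mul_self_inj.1 ((h.tp.card_sq d h.e0 h.e1).trans (h.cV d))

theorem BT {u v : V} (hu : u ∈ d.comS s) (hv : v ∈ d.comS s) : d.B u v = 0 :=
  d.B_com_fix h.sz hu (h.half d ▸ hv)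

theorem mem_T {v : V} (hv : ∀ w ∈ d.comS s, d.B w v = 0) : v ∈ d.comS s :=
  h.half d ▸ mem_fix_of h.sz hv

theorem f_eq_zero {v : V} : d.ρ s v + v = 0 ↔ v ∈ d.comS s := by
  rw [XV.add_eq_zero, ← d.mem_fixS, h.half d]

theorem Bf (u v : V) : d.B (d.ρ s u + u) v = d.B u (d.ρ s v + v) := B_com_sq h.sz h.op.t2 u v

theorem fixA {a : G} (ha : a ∈ O2C s) (az : a * z = z * a) {v : V} (hv : v ∈ d.comS s) :
    d.ρ a v = v := h.tp.fix d h.e0 ha az (h.half d ▸ hv)

theorem comA {a : G} (ha : a ∈ O2C s) (az : a * z = z * a) (v : V) : d.ρ a v + v ∈ d.comS s :=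
  h.tp.com d h.e0 ha az v

theorem B_self_com {a : G} (ha : a ∈ O2C s) (az : a * z = z * a) (v : V) :
    d.B v (d.ρ a v + v) = 0 := by
  rw [← q_com az]; exact h.op.q_W d h.e0 (h.comA d ha az v)

theorem card_K {v : V} (hv : v ∉ d.comS s) :
    Nat.card ↥(d.comS s ⊓ LinearMap.ker (d.B v)) ≤ 8 := by
  have := d.finite
  obtain ⟨w, hw, n⟩ : ∃ w ∈ d.comS s, d.B w v ≠ 0 := by
    by_contra e
    push Not at e
    exact hv (h.mem_T d e)
  have := sub_two_mul_le (inf_le_left : d.comS s ⊓ LinearMap.ker (d.B v) ≤ _) hw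
    fun e => n (by rw [d.B_symm]; exact e.2)
  have := h.cT d
  omega

end

theorem cA : Nat.card ↥(O2C s ⊓ centralizer {z}) = 32 := by
  obtain ⟨d⟩ := exists_VD h.lx
  rw [h.tp.card_A d h.e0 h.e1, h.cT d]

theorem cls {a : G} (ha : a ∈ O2C s) (az : a * z = z * a) : RTy z s a ∨ RTy z s (a * s) := by
  obtain ⟨d⟩ := exists_VD h.op.lxT
  obtain ⟨e, he, c⟩ := d.exists_comm h.sz.symm ha (h.symm.half d ▸ d.mem_fixS.2
    ((d.ρ_fix h.sz.symm ha).2 (Or.inl (conj_of_comm az))))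
  exact c.imp (fun c => ⟨e, he, c⟩) fun c => ⟨e, he, c⟩

variable {a : G} (r : RTy z s a)
include r

theorem r_mem : a ∈ O2C s := by
  obtain ⟨e, he, c⟩ := r
  obtain ⟨d⟩ := exists_VD h.op.lxT
  have := d.comm_mem h.sz.symm he
  rwa [c, mul_inv_cancel_right] at this

theorem r_comm : a * z = z * a := by
  obtain ⟨e, he, c⟩ := r
  have := h.op.symm.gam_comm h.e1 he
  rw [c, ← mul_assoc z] at this
  exact mul_right_cancel this

theorem r_gp (n : a ≠ 1) : GP z (a * z) := by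
  obtain ⟨e, he, c⟩ := r
  obtain ⟨d⟩ := exists_VD h.op.lxT
  refine c ▸ good_of h.symm.ws.wc h.op.symm d he (fun m => n ?_)
    (h.op.symm.q_W d h.e1 (d.com_mem _ _))
  rw [d.comm_of_fix h.sz.symm h.e1 he m, mul_inv_cancel_right] at c
  exact (mul_right_cancel ((one_mul z).trans c)).symm

theorem cen (d : VD (O2C z) z V) {x : G} (hx : x ∈ O2C z) (e : d.ρ a (d.p x) = d.p x) :
    x * a = a * x := by
  by_cases n : a = 1
  · rw [n, mul_one, one_mul]
  have p := h.r_gp r n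
  have := d.comm_of_fix p.op.comm p.e0 hx (by rwa [ρ_mul_z d (h.r_comm r)])
  rw [mul_assoc, ← h.lx.cen x hx, ← mul_assoc, ← mul_assoc] at this
  exact mul_right_cancel this

theorem four (d : VD (O2C z) z V) (n : a ≠ 1) : Nat.card (d.comS a) ≤ 4 := by
  have p := h.r_gp r n
  have az := h.r_comm r
  obtain ⟨e, he, c⟩ := r
  obtain ⟨d'⟩ := exists_VD h.op.lxT
  obtain ⟨x, x1, x2, x3⟩ := h.tp.symm.exists_R d' h.e1 h.e0 he fun m => n (by
    rw [d'.comm_of_fix h.sz.symm h.e1 he (d'.mem_fixS.1 m), mul_inv_cancel_right] at c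
    exact (mul_right_cancel ((one_mul z).trans c)).symm)
  rw [← comS_mul_z d az]
  exact four_of_R h.ws.wc p.op p.e0 d x1 (c ▸ x2) x3

theorem z0 (d : VD (O2C z) z V) (n : a ≠ 1) {v v' : V} (hv : d.ρ a v = v) (hv' : d.ρ a v' = v') :
    d.B v (d.ρ s v' + v') = 0 := by
  by_contra c
  obtain ⟨x, hx, rfl⟩ := d.p_surj v
  obtain ⟨y, hy, rfl⟩ := d.p_surj v'
  obtain ⟨d'⟩ := exists_VD h.op.lxT
  have ha := h.r_mem r
  let P : G → Prop := fun g => g * s = s * g ∧
    ∀ u, d'.B u (d'.p a) = 0 → d'.ρ g u + u = 0 ∨ d'.ρ g u + u = d'.p a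
  have pm : ∀ {g g'}, P g → P g' → P (g * g') := fun {g g'} hg hg' =>
    ⟨cmul hg.1 hg'.1, fun u hu => by
      rw [d'.ρ_mul hg.1 hg'.1]
      rcases hg'.2 u hu with e | e
      · rw [XV.add_eq_zero.1 e]; exact hg.2 u hu
      · have e' : d'.ρ g' u = u + d'.p a := by linear_combination (norm := ch2) e
        rcases hg.2 (u + d'.p a) (by rw [B_addl, hu, d'.B_self, add_zero]) with e1 | e1
        · exact Or.inr (by rw [e']; linear_combination (norm := ch2) e1)
        · exact Or.inl (by rw [e']; linear_combination (norm := ch2) e1)⟩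
  have pg : ∀ g ∈ O2C z, d.ρ a (d.p g) = d.p g → d.ρ s (d.p g) + d.p g ≠ 0 → P (g * s * g⁻¹) :=
    fun g hg e n' => by
      have p := good_of h.ws.wc h.op d hg (fun e => n' (XV.add_eq_zero.2 e))
        (h.op.q_W d h.e0 (d.com_mem _ _))
      exact ⟨p.op.comm, fun u hu => h.symm.ws.wc.K2 p.op.cj p.op.comm ha
        (conj_of_comm (h.cen r d hg e).symm ▸ mem_O2C_conj.2 ha) n d' hu
        (p.op.q_W d' p.e0 (d'.com_mem _ _))⟩
  have s0 := fun v => h.B_self_com d h.op.lxT.mem h.sz v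
  have p1 := pg x hx hv fun e => c (by rw [← h.Bf, e, map_zero, LinearMap.zero_apply])
  have p2 := pg y hy hv' fun e => c (by rw [e, map_zero])
  have p3 := pg _ (mul_mem hx hy) (by rw [d.p_mul hx hy, map_add, hv, hv']) fun e => c (by
    rw [d.p_mul hx hy, map_add] at e
    rw [show d.ρ s (d.p y) + d.p y = d.ρ s (d.p x) + d.p x by
      linear_combination (norm := ch2) e, s0])
  have p0 : P s := ⟨rfl, fun u _ => Or.inl (by rw [d'.ρ_Q h.op.lxT.mem, add_self])⟩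
  have hγ := d.comm_mem h.sz hy
  have e1 : x * (y * s * y⁻¹ * s⁻¹) = y * s * y⁻¹ * s⁻¹ * x * z :=
    (h.lx.toXS.comm _ hx _ hγ).resolve_left fun e => c (by
      rw [← d.p_comm' h.sz hy]; exact (d.B_eq_zero hx hγ).2 e)
  have pz : P z := by
    have := pm (pm (pm p0 p2) p3) p1
    have sx := Cj.sq ⟨x, rfl⟩ h.op.tt
    have sy := Cj.sq ⟨y, rfl⟩ h.op.tt
    have e2 : x * y * s * (x * y)⁻¹ = y * s * y⁻¹ * s⁻¹ * z * (x * s * x⁻¹) := by
      calc _ = x * (y * s * y⁻¹ * s⁻¹) * s * x⁻¹ := by group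
        _ = y * s * y⁻¹ * s⁻¹ * (x * z) * s * x⁻¹ := by rw [e1]; group
        _ = _ := by rw [h.lx.cen x hx]; group
    rwa [e2, mul_assoc, mul_assoc _ (x * s * x⁻¹), sx, mul_one, mul_assoc s, mul_assoc _ s⁻¹,
      ← mul_assoc (y * s * y⁻¹), sy, one_mul, mul_inv_cancel_left] at this
  have a0 : d'.p a ≠ 0 := fun e => ((d'.p_eq_zero ha).1 e).elim n fun e => by
    obtain ⟨g, hg, c⟩ := r
    exact h.e1 ⟨g, hg, by rw [c, e, h.sz]⟩
  obtain ⟨u, hu⟩ := exists_B_ne (d := d') a0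
  have := card_le_of_subset_list (d'.comS z) [0, d'.p a, d'.ρ z u + u, d'.ρ z u + u + d'.p a]
    fun w hw => by
      obtain ⟨w, rfl⟩ := d'.mem_comS.1 hw
      by_cases e : d'.B w (d'.p a) = 0
      · rcases pz.2 w e with e | e <;> simp [e]
      · rcases pz.2 (w + u) (by rw [B_addl, ne_add_one e hu]) with e | e <;> rw [map_add] at e
        · simp [show d'.ρ z w + w = d'.ρ z u + u by linear_combination (norm := ch2) e]
        · simp [show d'.ρ z w + w = d'.ρ z u + u + d'.p a by linear_combination (norm := ch2) e]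
  rw [h.symm.cT d'] at this
  simp at this

theorem f_mem (d : VD (O2C z) z V) (n : a ≠ 1) {v : V} (hv : d.ρ a v = v) :
    d.ρ s v + v ∈ d.comS a :=
  mem_com_of (h.r_comm r) fun _ hw => h.z0 r d n (d.mem_fixS.1 hw) hv

theorem fix_of_f (d : VD (O2C z) z V) (n : a ≠ 1) {v : V} (hv : d.ρ s v + v ∈ d.comS a) :
    d.ρ a v = v := by
  have := d.finite
  let C := (d.comS a).comap (d.ρ s + LinearMap.id)
  have c1 := card_range_mul_ker ((d.ρ s + LinearMap.id).domRestrict C)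
  have c2 : Nat.card (LinearMap.range ((d.ρ s + LinearMap.id).domRestrict C)) ≤
      Nat.card (d.comS a) := by
    refine Nat.card_le_card_of_injective _ (Submodule.inclusion_injective ?_)
    rintro _ ⟨u, rfl⟩
    exact u.2
  have c3 : Nat.card (LinearMap.ker ((d.ρ s + LinearMap.id).domRestrict C)) ≤
      Nat.card (d.fixS s) := Nat.card_le_card_of_injective (fun u => ⟨u.1.1, u.2⟩)
    fun u v e => Subtype.ext (Subtype.ext (congrArg (fun x : d.fixS s => x.1) e))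
  have c4 := h.four r d n
  have c5 := d.card_comS_mul_fixS a
  rw [h.half d, h.cT d] at c3
  rw [h.cV d] at c5
  have : d.fixS a = C := sub_eq_of_card (fun u hu => h.f_mem r d n (d.mem_fixS.1 hu)) (by
    have : Nat.card C ≤ 4 * 16 := c1 ▸ Nat.mul_le_mul (c2.trans c4) c3
    nlinarith)
  exact d.mem_fixS.1 (this ▸ (hv : v ∈ C))

omit r in
theorem rty_of_fix (d : VD (O2C z) z V) (ha : a ∈ O2C s) (az : a * z = z * a) {v : V}
    (hv : v ∉ d.comS s) (e : d.ρ a v = v) : RTy z s a := (h.cls ha az).resolve_right fun r => by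
  have e1 : d.ρ (a * s) v + v = d.ρ s v + v := by
    have := h.fixA d ha az (d.com_mem s v)
    rw [map_add, e] at this
    rw [d.ρ_mul az h.sz, this]
  refine hv ((h.f_eq_zero d).1 ?_)
  by_cases n : a * s = 1
  · rw [← e1, n, d.ρ_one, add_self]
  · rw [← e1, h.fix_of_f r d n (e1 ▸ d.com_mem _ _), add_self]

omit r in
theorem four_le (d : VD (O2C z) z V) {x : G} (hx : x ∈ O2C z) (hv : d.p x ∉ d.comS s) :
    4 ≤ Nat.card ↥(centralizer {x} ⊓ (O2C s ⊓ centralizer {z})) := by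
  have := d.finite
  have c := fun {k} => mem_centralizer_singleton_iff (G := G) (g := z) (k := k)
  have := card_le_mul_of_fibre (K := centralizer {x})
    (fun a : ↥(O2C s ⊓ centralizer {z}) => (⟨d.ρ a (d.p x) + d.p x, h.comA d a.2.1 (c.1 a.2.2) _,
      h.B_self_com d a.2.1 (c.1 a.2.2) _⟩ : ↥(d.comS s ⊓ LinearMap.ker (d.B (d.p x)))))
    fun a b e => by
      have m := mul_mem (inv_mem b.2) a.2
      have e' : d.ρ ((b : G)⁻¹ * a) (d.p x) = d.p x := by
        rw [d.ρ_mul (cinv (c.1 b.2.2)) (c.1 a.2.2),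
          add_right_cancel (congrArg Subtype.val e), d.ρ_inv_ρ (c.1 b.2.2)]
      exact mem_centralizer_singleton_iff.2
        (h.cen (h.rty_of_fix d m.1 (c.1 m.2) hv e') d hx e').symm
  have := h.card_K d hv
  rw [h.cA] at *
  nlinarith

theorem pf (n : a ≠ 1) : PF z (a * z) := by
  refine (h.r_gp r n).pf h.ws.wc ?_
  obtain ⟨e, he, c⟩ := r
  obtain ⟨d'⟩ := exists_VD h.op.lxT
  refine (h.symm.four_le d' he fun m => n ?_).trans (card_le_of_le fun b hb => ⟨hb.2.1, ?_⟩)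
  · rw [d'.comm_of_fix h.sz.symm h.e1 he (d'.mem_fixS.1 (h.symm.half d' ▸ m)),
      mul_inv_cancel_right] at c
    exact (mul_right_cancel ((one_mul z).trans c)).symm
  · exact c ▸ conj_of_comm (mem_centralizer_singleton_iff.1 hb.1) ▸ mem_O2C_conj.2 hb.2.1

omit r in
/-- the root elements of `A` -/
theorem root (d : VD (O2C z) z V) {v w : V} (hw : w ∈ d.comS s) (e : d.B v w = 0) (w0 : w ≠ 0)
    (y0 : d.ρ s v + v ≠ 0) (n : w ≠ d.ρ s v + v) :
    ∃ a, RTy z s a ∧ a ≠ 1 ∧ d.ρ s v + v ∈ d.comS a ∧ w ∈ d.comS a := by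
  have := d.finite
  obtain ⟨x, hx, rfl⟩ := d.p_surj v
  have hv := fun m => y0 ((h.f_eq_zero d).2 m)
  obtain ⟨u, hu⟩ := exists_B_ne (d := d) y0
  have c := fun {k} => mem_centralizer_singleton_iff (G := G) (g := z) (k := k)
  have fx : ∀ a ∈ centralizer {x} ⊓ (O2C s ⊓ centralizer {z}), d.ρ a (d.p x) = d.p x :=
    fun a ha => (d.ρ_fix (c.1 ha.2.2) hx).2
      (Or.inl (conj_of_comm (mem_centralizer_singleton_iff.1 ha.1).symm))
  have rt := fun a ha => h.rty_of_fix d (ha.2.1 : a ∈ O2C s) (c.1 ha.2.2) hv (fx a ha)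
  let φ : ↥(centralizer {x} ⊓ (O2C s ⊓ centralizer {z})) →
      ↥(d.comS s ⊓ LinearMap.ker (d.B (d.p x)) ⊓ LinearMap.ker (d.B u)) := fun a =>
    ⟨d.ρ a u + u, ⟨h.comA d a.2.2.1 (c.1 a.2.2.2) _, LinearMap.mem_ker.2 (by
      rw [d.B_symm]
      exact d.B_com_fix (c.1 a.2.2.2) (d.com_mem _ _) (d.mem_fixS.2 (fx _ a.2)))⟩,
      h.B_self_com d a.2.2.1 (c.1 a.2.2.2) _⟩
  have s0 := h.B_self_com d h.op.lxT.mem h.sz (d.p x)
  have hφ : Function.Injective φ := fun a b e => by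
    have m := mul_mem (inv_mem b.2) a.2
    have e' : d.ρ ((b : G)⁻¹ * a) u = u := by
      rw [d.ρ_mul (cinv (c.1 b.2.2.2)) (c.1 a.2.2.2),
        add_right_cancel (congrArg Subtype.val e), d.ρ_inv_ρ (c.1 b.2.2.2)]
    refine Subtype.ext (inv_mul_eq_one.1 (by_contra fun n => hu ?_)).symm
    exact h.z0 (rt _ m) d n e' (fx _ m)
  have c1 := sub_two_mul_le (inf_le_left : d.comS s ⊓ LinearMap.ker (d.B (d.p x)) ⊓
    LinearMap.ker (d.B u) ≤ _) ⟨d.com_mem s _, s0⟩ fun e => hu e.2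
  have c2 := h.card_K d hv
  have c3 := h.four_le d hx hv
  obtain ⟨a, ha⟩ := (hφ.bijective_of_nat_card_le (by omega)).2
    ⟨w + d.B u w • (d.ρ s (d.p x) + d.p x), ⟨add_mem hw (Submodule.smul_mem _ _ (d.com_mem _ _)),
      LinearMap.mem_ker.2 (by rw [map_add, map_smul, e, s0, smul_zero, add_zero])⟩,
      LinearMap.mem_ker.2 (by rw [map_add, map_smul, z2_ne hu, smul_eq_mul, mul_one, add_self])⟩
  have ea : d.ρ a u + u = w + d.B u w • (d.ρ s (d.p x) + d.p x) := congrArg Subtype.val ha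
  have a1 : (a : G) ≠ 1 := fun e => by
    rw [e, d.ρ_one, add_self, eq_comm, XV.add_eq_zero] at ea
    rcases z2 (d.B u w) with e | e <;> rw [e] at ea
    exacts [w0 (by simpa using ea), n (by simpa using ea)]
  have m := h.f_mem (rt _ a.2) d a1 (fx _ a.2)
  exact ⟨a, rt _ a.2, a1, m, (Submodule.add_mem_iff_left _ (Submodule.smul_mem _ _ m)).1
    (ea ▸ d.com_mem _ _)⟩

end CB

end Cfsg.Agent.H69.Out
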