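import Cfsg.Agent.H69.WcF

/-! Weakly closed large extraspecial subgroups of order `2 ^ 9`: the Clifford relations. -/

set_option autoImplicit false
set_option linter.unusedSectionVars false

namespace Cfsg.Agent.H69.Out

open Subgroup Cfsg.Agent.H49 Cfsg.Agent.H69.XV Cfsg.Agent.H69.XV.VD Cfsg.Agent.H92.Lx

universe u

variable {G : Type u} [Group G] [Finite G] {V : Type*} [AddCommGroup V] [Module (ZMod 2) V]

/-- the root element of `a, b` is induced by the centraliser -/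
def RT {Q : Subgroup G} {z : G} (d : VD Q z V) (a b : V) : Prop :=
  ∃ c, c * z = z * c ∧ Rt d c a b

theorem RT.symm {Q : Subgroup G} {z : G} {d : VD Q z V} {a b : V} (h : RT d a b) : RT d b a :=
  let ⟨c, h1, h2⟩ := h; ⟨c, h1, h2.symm⟩

theorem RT.add {Q : Subgroup G} {z : G} {d : VD Q z V} {a a' b : V} (h : RT d a b)
    (h' : RT d a' b) (e1 : d.B a' a = 0) (e2 : d.B a' b = 0) (e3 : d.B b a = 0) :
    RT d (a + a') b := by
  obtain ⟨c, h1, h2⟩ := h
  obtain ⟨c', h1', h2'⟩ := h'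
  refine ⟨c * c', cmul h1 h1', fun v => ?_⟩
  rw [d.ρ_mul h1 h1', h2, h2']
  simp only [map_add, map_smul, LinearMap.add_apply, LinearMap.smul_apply, e1, e2, e3, d.B_self]
  module

theorem PF.rT {z t : G} (h : PF z t) (d : VD (O2C z) z V) {a b : V} (ha : a ∈ d.comS t)
    (hb : b ∈ d.comS t) : RT d a b := by
  by_cases c : a = 0 ∨ b = 0 ∨ a = b
  · refine ⟨1, by simp, fun v => ?_⟩
    rcases c with rfl | rfl | rfl <;> simp [d.ρ_one, add_assoc, add_self]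
  · push Not at c
    exact ⟨t, h.tz, h.rt d ha hb c.1 c.2.1 c.2.2⟩

namespace CB

variable {z s : G} (h : CB z s) (d : VD (O2C z) z V)
include h

theorem K_perp {v u : V} (e : ∀ w ∈ d.comS s, d.B v w = 0 → d.B w u = 0) :
    d.ρ s u + u = 0 ∨ d.ρ s u + u = d.ρ s v + v :=
  eq_of_perp_one (d := d) fun u' hu => by
    rw [← h.Bf]
    exact e _ (d.com_mem _ _) (by rw [← h.Bf, d.B_symm, hu])

theorem line {v w : V} (hw : w ∈ d.comS s) (e : d.B v w = 0) (y0 : d.ρ s v + v ≠ 0) :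
    ∃ t, PF z t ∧ d.ρ s v + v ∈ d.comS t ∧ w ∈ d.comS t := by
  by_cases c : w = 0 ∨ w = d.ρ s v + v
  · obtain ⟨t, ht, m⟩ := h.ws.exists_mem d y0 (h.op.q_W d h.e0 (d.com_mem _ _))
    rcases c with rfl | rfl
    exacts [⟨t, ht, m, zero_mem _⟩, ⟨t, ht, m, m⟩]
  · rw [not_or] at c
    obtain ⟨a, r, n, m⟩ := h.root d hw e c.1 y0 c.2
    exact ⟨_, h.pf r n, by rwa [comS_mul_z d (h.r_comm r)]⟩

theorem rT {v w : V} (hw : w ∈ d.comS s) (e : d.B v w = 0) : RT d (d.ρ s v + v) w := by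
  by_cases y0 : d.ρ s v + v = 0
  · exact ⟨1, by simp, fun u => by simp [y0, d.ρ_one]⟩
  · obtain ⟨t, ht, m, m'⟩ := h.line d hw e y0
    exact ht.rT d m m'

variable {s' : G} (h' : CB z s')
include h'

theorem f_le {y : V} (hy : y ∈ d.comS s) (hy' : y ∈ d.comS s') (y0 : y ≠ 0) {u : V}
    (hu : u ∈ d.comS s') : d.ρ s u + u ∈ d.comS s' := by
  obtain ⟨v, hv⟩ := d.mem_comS.1 hy
  obtain ⟨v', hv'⟩ := d.mem_comS.1 hy'
  have k : ∀ u ∈ d.comS s', d.B v' u = 0 → ∀ u' ∈ d.comS s', d.B u' (d.ρ s u + u) = 0 :=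
    fun u hu e u' hu' => by
      rcases h.K_perp d (v := v) (u := u) fun w hw e' => by
        obtain ⟨t, ht, m1, m2⟩ := h.line d hw e' (hv ▸ y0)
        obtain ⟨t', ht', m1', m2'⟩ := h'.line d hu e (hv' ▸ y0)
        exact d.B_com_fix ht.tz m2
          (ht.meet_perp d h.ws.wc h.ws.big ht' (hv ▸ m1) (hv' ▸ m1') y0 m2') with c | c <;> rw [c]
      exacts [map_zero _, h'.BT d hu' (hv ▸ hy')]
  refine h'.mem_T d fun w hw => ?_
  by_cases c : d.B v' u = 0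
  · exact k u hu c w hw
  by_cases c' : d.B v' w = 0
  · rw [← h.Bf, d.B_symm]; exact k w hw c' u hu
  · have := k _ (add_mem hu hw) (by rw [B_addr, ne_add_one c c']) u hu
    rwa [← h.Bf, B_addr, d.B_symm, h.B_self_com d h.op.lxT.mem h.sz, zero_add, d.B_symm] at this

theorem rT_all (e : d.comS s = d.comS s') (n : d.ρ s ≠ d.ρ s') {y w : V} (hy : y ∈ d.comS s)
    (hw : w ∈ d.comS s) : RT d y w := by
  have k : ∀ v, d.ρ s v ≠ d.ρ s' v → RT d (d.ρ s v + v) w := fun v n => by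
    obtain ⟨v', hv'⟩ := d.mem_comS.1 (e ▸ d.com_mem s v)
    have k1 := fun w hw => h.rT d (v := v) (w := w) hw
    have k2 := fun w (hw : w ∈ d.comS s) c => hv' ▸ h'.rT d (v := v') (w := w) (e ▸ hw) c
    have ad : ∀ {w w'}, w ∈ d.comS s → w' ∈ d.comS s → RT d (d.ρ s v + v) (w + w') →
        RT d (d.ρ s v + v) w' → RT d (d.ρ s v + v) w := fun {w w'} hw hw' a b => by
      have := a.symm.add b.symm (h.BT d hw' (add_mem hw hw')) (h.BT d hw' (d.com_mem _ _))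
        (h.BT d (d.com_mem _ _) (add_mem hw hw'))
      rw [add_add_cancel'] at this
      exact this.symm
    by_cases c1 : d.B v w = 0
    · exact k1 w hw c1
    by_cases c2 : d.B v' w = 0
    · exact k2 w hw c2
    obtain ⟨w', hw', c3⟩ : ∃ w' ∈ d.comS s, d.B w' (v + v') ≠ 0 := by
      by_contra c
      push Not at c
      have := (h'.f_eq_zero d).2 (e ▸ h.mem_T d c)
      rw [map_add] at this
      exact n (by linear_combination (norm := ch2) this + hv')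
    rw [B_addr, d.B_symm w', d.B_symm w'] at c3
    by_cases c4 : d.B v w' = 0
    · rw [c4, zero_add] at c3
      exact ad hw hw' (k2 _ (add_mem hw hw') (by rw [B_addr, ne_add_one c2 c3])) (k1 _ hw' c4)
    · exact ad hw hw' (k1 _ (add_mem hw hw') (by rw [B_addr, ne_add_one c1 c4]))
        (k2 _ hw' (by_contra fun c5 => c3 (ne_add_one c4 c5)))
  obtain ⟨v, rfl⟩ := d.mem_comS.1 hy
  by_cases c : d.ρ s v = d.ρ s' v
  swap
  · exact k v c
  obtain ⟨v', c'⟩ : ∃ v', d.ρ s v' ≠ d.ρ s' v' := by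
    by_contra c
    push Not at c
    exact n (LinearMap.ext c)
  have := (k (v + v') fun e => c' (by
    rw [map_add, map_add, c] at e; exact add_left_cancel e)).add (k v' c')
    (h.BT d (d.com_mem _ _) (d.com_mem _ _)) (h.BT d (d.com_mem _ _) hw)
    (h.BT d hw (d.com_mem _ _))
  convert this using 1
  rw [map_add]; ch2

theorem uniq (e : d.comS s = d.comS s') : d.ρ s = d.ρ s' := by
  have := d.finite
  by_contra n
  have k : ∀ t, PF z t → ∀ y ∈ d.comS t, y ∈ d.comS s → y ≠ 0 → d.comS s ≤ d.fixS t :=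
    fun t ht y hy hy' y0 w hw => by
      obtain ⟨c, hc, r⟩ := h.rT_all d h' e n hy' hw
      exact ht.perp_of_root d h.ws.wc (ht.big d h.ws.big) hc r hy y0 (h.BT d hy' hw)
  have k' : ∀ t, PF z t → ∀ y ∈ d.comS t, y ∈ d.comS s → y ≠ 0 → d.comS t ≤ d.comS s :=
    fun t ht y hy hy' y0 w hw => h.mem_T d fun u hu => by
      rw [d.B_symm]; exact d.B_com_fix ht.tz hw (k t ht y hy hy' y0 hu)
  obtain ⟨y, hy, y0, -⟩ := exists_second (W := d.comS s) (by rw [h.cT d]; omega) 0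
  obtain ⟨t, ht, m⟩ := h.ws.out d y0
  have z0 : ∀ u ∈ d.comS t, u ∈ d.comS s → u = 0 := fun u hu hu' =>
    by_contra fun u0 => m (k t ht u hu hu' u0 hy)
  obtain ⟨l, l1, l2, l0⟩ : ∃ l ∈ d.comS s, l ∈ d.fixS t ∧ l ≠ 0 := by
    by_contra c
    push Not at c
    have c1 := (card_sup_ge c).trans (Nat.card_le_card_of_injective _ Subtype.val_injective)
    have c2 := ht.card_fix d
    rw [h.cT d, h.cV d] at *
    omega
  obtain ⟨v, rfl⟩ := d.mem_comS.1 l1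
  have k2 : ∀ u ∈ d.comS t, u ≠ 0 → d.ρ s u + u = d.ρ s v + v := fun u hu u0 => by
    refine (h.K_perp d fun w hw c => ?_).resolve_left fun c => u0 (z0 u hu ((h.f_eq_zero d).1 c))
    obtain ⟨t', ht', m1, m2⟩ := h.line d hw c l0
    have := k' _ (ht'.conjH ht.tz) _ (d.mem_fixS.1 l2 ▸ comS_conj ht'.tz ht.tz m1) l1 l0
      (comS_conj ht'.tz ht.tz m2)
    rw [d.B_symm]
    exact d.B_com_fix ht.tz hu (d.mem_fixS.2 (XV.add_eq_zero.1
      (z0 _ (d.com_mem _ _) (add_mem this hw))))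
  obtain ⟨a, ha, a0, -⟩ := ht.second d 0
  obtain ⟨b, hb, b0, ab⟩ := ht.second d a
  refine ab (XV.add_eq_zero.1 (z0 _ (add_mem ha hb) ((h.f_eq_zero d).1 ?_)))
  rw [map_add]
  linear_combination (norm := ch2) k2 a ha a0 + k2 b hb b0

theorem comm {y : V} (hy : y ∈ d.comS s) (hy' : y ∈ d.comS s') (y0 : y ≠ 0) (v : V) :
    d.ρ s (d.ρ s' v) = d.ρ s' (d.ρ s v) := by
  have := d.finite
  have p := h'.conjH h.sz
  rw [← ρ_conj' h.sz h'.sz, h'.uniq d p (sub_eq_of_card (fun w hw => ?_)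
    (by rw [h'.cT d, p.cT d]))]
  have := comS_conj h'.sz h.sz ((Submodule.add_mem_iff_left _ hw).1 (h.f_le d h' hy hy' y0 hw))
  rwa [d.ρ_sq h.sz h.op.t2] at this

variable (o : ∀ y ∈ d.comS s, y ∈ d.comS s' → y = 0)
include o

theorem split (v : V) : ∃ a ∈ d.comS s, ∃ b ∈ d.comS s', a + b = v := by
  have := d.finite
  have c := card_sup_ge o
  rw [h.cT d, h'.cT d] at c
  refine Submodule.mem_sup.1 ((sub_eq_of_card le_top ?_).ge Submodule.mem_top)
  rw [Nat.card_congr (Submodule.topEquiv.toEquiv), h.cV d]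
  exact c

theorem ff {y : V} (hy : y ∈ d.comS s) : d.ρ s (d.ρ s' y + y) + (d.ρ s' y + y) = y := by
  by_cases y0 : y = 0
  · simp [y0]
  obtain ⟨v, hv, rfl⟩ : ∃ v ∈ d.comS s', d.ρ s v + v = y := by
    obtain ⟨v, rfl⟩ := d.mem_comS.1 hy
    obtain ⟨a, ha, b, hb, rfl⟩ := h.split d h' o v
    exact ⟨b, hb, by rw [map_add, h.fixA d h.op.lxT.mem h.sz ha]; ch2⟩
  refine (h.K_perp d fun w hw e => ?_).resolve_left fun c =>
    y0 (o _ hy ((h'.f_eq_zero d).1 (o _ ((h.f_eq_zero d).1 c) (d.com_mem _ _))))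
  by_cases c : w = 0 ∨ w = d.ρ s v + v
  · rcases c with rfl | rfl
    exacts [by simp, h'.B_self_com d h'.op.lxT.mem h'.sz _]
  rw [not_or] at c
  obtain ⟨a, r, n, m1, m2⟩ := h.root d hw e c.1 y0 c.2
  have az := h.r_comm r
  have ha := h.r_mem r
  have p := h'.conjH az
  have k : ∀ u ∈ d.comS a, ∃ b ∈ d.comS s', d.ρ a b + b = u := fun u hu => by
    obtain ⟨u, rfl⟩ := d.mem_comS.1 hu
    obtain ⟨a', ha', b, hb, rfl⟩ := h.split d h' o u
    exact ⟨b, hb, by rw [map_add, h.fixA d ha az ha']; ch2⟩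
  have fv : d.ρ a v = v := h.fix_of_f r d n m1
  obtain ⟨b, hb, e1⟩ := k _ m1
  obtain ⟨b', hb', e2⟩ := k _ m2
  have := p.BT d (comS_conj h'.sz az hb') (h'.f_le d p hv (fv ▸ comS_conj h'.sz az hv)
    (fun e => y0 (by simp [e])) (comS_conj h'.sz az hb))
  have e3 : d.ρ s' (d.ρ a b) + d.ρ a b = d.ρ s' (d.ρ s v + v) + (d.ρ s v + v) := by
    rw [← e1, map_add, h'.fixA d h'.op.lxT.mem h'.sz hb]; ch2
  rw [e3] at this
  rw [← e2, B_addl, this, h'.BT d hb' (d.com_mem _ _), add_zero]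

theorem anti (v : V) : d.ρ s (d.ρ s' v + v) + (d.ρ s' v + v) +
    (d.ρ s' (d.ρ s v + v) + (d.ρ s v + v)) = v := by
  obtain ⟨a, ha, b, hb, rfl⟩ := h.split d h' o v
  have e1 := h.ff d h' o ha
  have e2 := h'.ff d h (fun y a b => o y b a) hb
  have e3 := h.fixA d h.op.lxT.mem h.sz ha
  have e4 := h'.fixA d h'.op.lxT.mem h'.sz hb
  simp only [map_add, e3, e4] at e1 e2 ⊢
  linear_combination (norm := ch2) e1 + e2

end CB

theorem CB.exists_opp {z s : G} (h : CB z s) (d : VD (O2C z) z V) :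
    ∃ c, c * z = z * c ∧ ∀ y ∈ d.comS s, y ∈ d.comS (c * s * c⁻¹) → y = 0 := by
  by_contra n
  push Not at n
  let K : Subgroup G :=
    { carrier := {x | x * z = z * x ∧ ∀ c, c * z = z * c → ∀ v,
        d.ρ x (d.ρ (c * s * c⁻¹) v) = d.ρ (c * s * c⁻¹) (d.ρ x v)}
      one_mem' := ⟨by simp, fun c _ v => by rw [d.ρ_one, d.ρ_one]⟩
      mul_mem' := fun {x y} hx hy => ⟨cmul hx.1 hy.1, fun c hc v => by
        rw [d.ρ_mul hx.1 hy.1, d.ρ_mul hx.1 hy.1, hy.2 c hc, hx.2 c hc]⟩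
      inv_mem' := fun {x} hx => ⟨cinv hx.1, fun c hc v => d.ρ_inj hx.1 (by
        rw [d.ρ_ρ_inv hx.1, hx.2 c hc, d.ρ_ρ_inv hx.1])⟩ }
  have Kn : ∀ g, g * z = z * g → ∀ x ∈ K, g * x * g⁻¹ ∈ K := fun g hg x hx =>
    ⟨cconj hg hx.1, fun c hc v => by
      have := hx.2 _ (cmul (cinv hg) hc) (d.ρ g⁻¹ v)
      rw [show g⁻¹ * c * s * (g⁻¹ * c)⁻¹ = g⁻¹ * (c * s * c⁻¹) * g⁻¹⁻¹ by group,
        ρ_conj' (cinv hg) (cconj hc h.sz), ρ_conj (cinv hg) (cconj hc h.sz), inv_inv] at this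
      rw [ρ_conj hg hx.1, ρ_conj hg hx.1, this, d.ρ_ρ_inv hg]⟩
  let N : Subgroup G :=
    { carrier := {x | x ∈ K ∧ (∀ y ∈ K, ∀ v, d.ρ x (d.ρ y v) = d.ρ y (d.ρ x v)) ∧
        ∀ v, d.ρ x (d.ρ x v) = v}
      one_mem' := ⟨K.one_mem, fun y _ v => by rw [d.ρ_one, d.ρ_one], fun v => by
        rw [d.ρ_one, d.ρ_one]⟩
      mul_mem' := fun {x y} hx hy => ⟨K.mul_mem hx.1 hy.1, fun c hc v => by
        rw [d.ρ_mul hx.1.1 hy.1.1, d.ρ_mul hx.1.1 hy.1.1, hy.2.1 c hc, hx.2.1 c hc], fun v => by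
        rw [d.ρ_mul hx.1.1 hy.1.1, d.ρ_mul hx.1.1 hy.1.1, hy.2.1 x hx.1, hx.2.2, hy.2.2]⟩
      inv_mem' := fun {x} hx => ⟨K.inv_mem hx.1, fun c hc v => d.ρ_inj hx.1.1 (by
        rw [d.ρ_ρ_inv hx.1.1, hx.2.1 c hc, d.ρ_ρ_inv hx.1.1]), fun v => d.ρ_inj hx.1.1 (by
        rw [d.ρ_ρ_inv hx.1.1, ← hx.2.2 (d.ρ x⁻¹ v), d.ρ_ρ_inv hx.1.1])⟩ }
  have Nn : ∀ g, g * z = z * g → ∀ x ∈ N, g * x * g⁻¹ ∈ N := fun g hg x hx =>
    ⟨Kn g hg x hx.1, fun y hy v => by
      have := hx.2.1 _ (Kn _ (cinv hg) y hy) (d.ρ g⁻¹ v)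
      rw [ρ_conj' (cinv hg) hy.1, ρ_conj (cinv hg) hy.1, inv_inv] at this
      rw [ρ_conj hg hx.1.1, ρ_conj hg hx.1.1, this, d.ρ_ρ_inv hg], fun v => by
      rw [ρ_conj hg hx.1.1 v, ρ_conj' hg hx.1.1, hx.2.2, d.ρ_ρ_inv hg]⟩
  refine h.op.nm (le_O2C (K := centralizer {z}) (N := N) le_rfl
    (fun c hc k hk => mem_centralizer_singleton_iff.2
      (cconj hc (mem_centralizer_singleton_iff.1 hk)))
    (fun x hx => mem_centralizer_singleton_iff.2 hx.1.1)
    (fun c hc => Nn c (mem_centralizer_singleton_iff.1 hc))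
    (isPGroup_of_pow4 d fun x hx => ?_) ⟨⟨h.sz, fun c hc v => ?_⟩, fun y hy v => ?_,
      d.ρ_sq h.sz h.op.t2⟩)
  · have : x * x ∈ O2C z := d.mem_of_ρ (cmul hx.1.1 hx.1.1) fun v => by
      rw [d.ρ_mul hx.1.1 hx.1.1, hx.2.2]
    exact mul_mem this this
  · obtain ⟨y, y1, y2, y0⟩ := n c hc
    exact h.comm d (h.conjH hc) y1 y2 y0 v
  · simpa using (hy.2 1 (by simp) v).symm

/-- the commutant of the class consists of scalars -/
theorem CB.scalar {z s : G} (h : CB z s) (d : VD (O2C z) z V) (x : V →ₗ[ZMod 2] V)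
    (hx : ∀ c, c * z = z * c → ∀ v, x (d.ρ (c * s * c⁻¹) v) = d.ρ (c * s * c⁻¹) (x v)) :
    x = 0 ∨ x = 1 := by
  have := d.finite
  obtain ⟨c, hc, o⟩ := h.exists_opp d
  have h' := h.conjH hc
  have x1 : ∀ v, x (d.ρ s v) = d.ρ s (x v) := by simpa using hx 1 (by simp)
  have x2 := hx c hc
  have xT : ∀ u ∈ d.comS s, x u ∈ d.comS s := fun u hu => (h.f_eq_zero d).1 (by
    rw [← x1, ← map_add, (h.f_eq_zero d).2 hu, map_zero])
  have x3 : ∀ a, RTy z s a → ∀ w ∈ d.comS a, x w ∈ d.comS a := fun a r w hw => by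
    have az := h.r_comm r
    have ha := h.r_mem r
    have x4 := hx _ (cmul az hc)
    rw [show a * c * s * (a * c)⁻¹ = a * (c * s * c⁻¹) * a⁻¹ by group] at x4
    generalize c * s * c⁻¹ = s' at *
    have k : ∀ u ∈ d.comS s, d.ρ (a * s' * a⁻¹) u + d.ρ s' u =
        d.ρ a (d.ρ s' u + u) + (d.ρ s' u + u) := fun u hu => by
      have := ρ_conj' (d := d) az h'.sz u
      rw [h.fixA d ha az hu] at this
      rw [this, map_add, h.fixA d ha az hu]; ch2
    obtain ⟨w, rfl⟩ := d.mem_comS.1 hw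
    obtain ⟨a', ha', b, hb, rfl⟩ := h.split d h' o w
    rw [show d.ρ a (a' + b) + (a' + b) = d.ρ a b + b by rw [map_add, h.fixA d ha az ha']; ch2,
      ← h'.ff d h (fun y a b => o y b a) hb, ← k _ (d.com_mem _ _), map_add, x4, x2,
      k _ (xT _ (d.com_mem _ _))]
    exact d.com_mem _ _
  have k : ∀ y ∈ d.comS s, x y = 0 ∨ x y = y := fun y hy => by
    by_contra n
    rw [not_or] at n
    obtain ⟨v, rfl⟩ := d.mem_comS.1 hy
    have y0 : d.ρ s v + v ≠ 0 := fun e => n.1 (by rw [e, map_zero])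
    have c1 := sub_card_le_two_mul (d.comS s) (d.B v)
    have c2 := card_le_of_subset_list (d.comS s ⊓ LinearMap.ker (d.B v))
      [0, d.ρ s v + v, x (d.ρ s v + v), d.ρ s v + v + x (d.ρ s v + v)] fun w hw => by
      by_contra c
      simp only [List.mem_cons, List.not_mem_nil, or_false, not_or] at c
      obtain ⟨a, r, a1, m1, m2⟩ := h.root d hw.1 hw.2 c.1 y0 c.2.1
      rcases four_cases (h.four r d a1) m1 (x3 a r _ m1) y0 n.1 (Ne.symm n.2) m2 with e | e | e | e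
      exacts [c.1 e, c.2.1 e, c.2.2.1 e, c.2.2.2 e]
    rw [h.cT d] at c1
    simp only [List.length_cons, List.length_nil] at c2
    omega
  have fin : ∀ e : ZMod 2, (∀ y ∈ d.comS s, x y = e • y) → ∀ v, x v = e • v := fun e he v => by
    rw [← h.anti d h' o v, map_add, he _ (d.com_mem _ _), map_add x, x2, he _ (d.com_mem _ _),
      map_smul, ← smul_add, ← smul_add]
  by_cases c0 : ∀ y ∈ d.comS s, x y = 0
  · exact Or.inl (LinearMap.ext fun v => by simpa using fin 0 (by simpa using c0) v)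
  · push Not at c0
    obtain ⟨y, hy, n⟩ := c0
    refine Or.inr (LinearMap.ext fun v => (fin 1 (fun w hw => ?_) v).trans (one_smul _ v))
    rw [one_smul]
    by_contra n'
    have e1 := (k y hy).resolve_left n
    have e2 := (k w hw).resolve_right n'
    rcases k _ (add_mem hy hw) with e | e <;> rw [map_add, e2, add_zero] at e
    exacts [n e, n' (by rw [e2]; linear_combination (norm := ch2) e + e1)]

end Cfsg.Agent.H69.Out
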