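import Cfsg.Agent.H69.WcI

/-! Weakly closed large extraspecial subgroups: perfect pairs in small width. -/

set_option autoImplicit false
set_option linter.unusedSectionVars false

namespace Cfsg.Agent.H69.Out

open Subgroup Cfsg.Agent.H49 Cfsg.Agent.H69.XV Cfsg.Agent.H69.XV.VD Cfsg.Agent.H92.Lx

universe u

variable {G : Type u} [Group G] [Finite G] {V : Type*} [AddCommGroup V] [Module (ZMod 2) V]

theorem OP.exists_sing {z t : G} (h : OP z t) (h8 : 8 < Nat.card (O2C z)) (d : VD (O2C z) z V) :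
    ∃ w ∈ d.comS t, d.q w = 0 ∧ w ≠ 0 := by
  by_contra key
  push Not at key
  obtain ⟨v, hv⟩ := h.exists_move d
  have w0 : d.ρ t v + v ≠ 0 := fun e => hv (XV.add_eq_zero.1 e)
  have m := d.com_mem t v
  have h1 : Eps z t := by
    by_contra h0
    exact w0 (key _ m (h.q_W d h0 m))
  obtain ⟨x, hx, rfl⟩ := d.p_surj v
  have hγ := d.comm_mem h.comm hx
  rw [← d.p_comm' h.comm hx] at w0 m
  have eγ : x * t * x⁻¹ * t⁻¹ * t = x * t * x⁻¹ := by group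
  generalize x * t * x⁻¹ * t⁻¹ = γ at *
  have W2 : ∀ u ∈ d.comS t, u = 0 ∨ u = d.p γ := fun u hu => or_iff_not_imp_left.2 fun u0 =>
    XV.add_eq_zero.1 (key _ (add_mem hu m) (by
      rw [d.q_add, z2_ne fun e => u0 (key u hu e), z2_ne fun e => w0 (key _ m e),
        d.B_com_fix h.comm hu (d.comS_le_fixS h.comm h.t2 m)]; rfl))
  have γt : t * γ * t⁻¹ = γ * z := by
    refine ((d.ρ_fix h.comm hγ).1 (d.mem_fixS.1 (d.comS_le_fixS h.comm h.t2 m))).resolve_left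
      fun e => w0 (key _ m ((d.q_eq_zero hγ).2 ?_))
    have := Cj.sq ⟨x, rfl⟩ h.tt
    rw [← eγ, mul_assoc, ← mul_assoc t, ← comm_of_conj e, mul_assoc, h.tt, mul_one] at this
    exact this
  have γe : γ⁻¹ * t * γ⁻¹⁻¹ = t * z := by
    calc _ = γ⁻¹ * (t * γ * t⁻¹) * t := by group
      _ = _ := by rw [γt, h.comm]; group
  have cases : ∀ v ∈ d.fixS t, ∃ b ∈ O2C z, b * t = t * b ∧ (v = d.p b ∨ v = d.p b + d.p γ) :=
    fun v hv => by
      obtain ⟨b, hb, rfl⟩ := d.p_surj v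
      rcases h.fix_cases d (inv_mem hγ) γe hb hv with c | c
      · exact ⟨b, hb, c, Or.inl rfl⟩
      · exact ⟨_, mul_mem (inv_mem hγ) hb, c, Or.inr (by
          rw [d.p_mul (inv_mem hγ) hb, d.p_inv hγ]; ch2)⟩
  have R1 : ∀ r ∈ O2C z ⊓ O2C t, r = 1 := fun r hr => h.R_triv d h1 hr (by
    rw [← d.perp_fixS h.comm]
    intro v hv
    obtain ⟨b, hb, bt, e⟩ := cases v hv
    have e1 := (d.B_eq_zero hb hr.1).2 (h.R_comm hb bt hr.1 hr.2)
    have e2 := d.B_com_fix h.comm m (h.U_le_fix d (d.mem_sm.2 ⟨r, hr.2, hr.1, rfl⟩))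
    rcases e with rfl | rfl
    · exact e1
    · rw [B_addl, e1, e2, add_zero])
  have A1 : ∀ a ∈ O2C t, a * z = z * a → ∀ v ∈ d.fixS t, d.ρ a v = v := fun a ha az v hv => by
    obtain ⟨b, hb, bt, e⟩ := cases v hv
    have e1 : d.ρ a (d.p b) = d.p b := by
      rw [← XV.add_eq_zero, ← d.p_comm' az hb, R1 _ (h.AB ha az hb bt), d.p_one]
    have e2 : d.ρ a (d.p γ) = d.p γ := by
      refine (W2 _ ?_).resolve_left (ρ_ne_zero az w0)
      obtain ⟨u, hu⟩ := d.mem_comS.1 m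
      rw [← hu, map_add, ← d.ρ_mul az h.comm, h.lxT.cen a ha, d.ρ_mul h.comm az]
      exact d.com_mem _ _
    rcases e with rfl | rfl
    · exact e1
    · rw [map_add, e1, e2]
  have A2 : ∀ a ∈ O2C t, a * z = z * a → ∀ v, d.ρ a v + v = 0 ∨ d.ρ a v + v = d.p γ :=
    fun a ha az v => W2 _ (by
      rw [← d.perp_fixS h.comm]
      intro u hu
      rw [d.B_symm, B_com az, A1 _ (inv_mem ha) (cinv az) u hu, add_self, map_zero])
  have A3 : ∀ a ∈ O2C t, a * z = z * a → d.ρ a (d.p x) = d.p x → a = 1 := fun a ha az e =>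
    R1 a ⟨d.mem_of_ρ az fun v => by
      by_cases c : v ∈ d.fixS t
      · exact A1 a ha az v c
      · have c1 := (A2 t h.lxT.mem h.comm v).resolve_left
          fun e => c (d.mem_fixS.2 (XV.add_eq_zero.1 e))
        have c2 := (A2 t h.lxT.mem h.comm (d.p x)).resolve_left fun e => hv (XV.add_eq_zero.1 e)
        have := A1 a ha az (v + d.p x) (d.mem_fixS.2 (by
          rw [map_add]; linear_combination (norm := ch2) c1 + c2))
        rw [map_add, e] at this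
        exact add_right_cancel this, ha⟩
  have A4 : O2C t ⊓ centralizer {z} ≤ zpowers t := fun a ha => by
    have az := mem_centralizer_singleton_iff.1 ha.2
    rcases A2 a ha.1 az (d.p x) with e | e
    · rw [A3 a ha.1 az (XV.add_eq_zero.1 e)]; exact one_mem _
    · have c2 := (A2 t h.lxT.mem h.comm (d.p x)).resolve_left fun e => hv (XV.add_eq_zero.1 e)
      have := A3 (t * a) (mul_mem h.lxT.mem ha.1) (cmul h.comm az) (by
        rw [d.ρ_mul h.comm az, show d.ρ a (d.p x) = d.ρ t (d.p x) from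
          add_right_cancel (e.trans c2.symm), d.ρ_sq h.comm h.t2])
      rw [eq_inv_of_mul_eq_one_right this]
      exact inv_mem (mem_zpowers t)
  obtain ⟨d'⟩ := exists_VD h.lxT
  have c1 := card_le_of_le A4
  have c2 := d'.card_fixS_le h.comm.symm
  have c3 := d'.card_le_sq_fixS h.comm.symm h.symm.t2
  have c4 := d'.card_Q
  rw [h.lxT.toXS.card_Z] at c1
  rw [card_O2C h.cj] at c4
  nlinarith

theorem exists_good' {z t : G} (hw : WC z) (h8 : 8 < Nat.card (O2C z)) (h : OP z t) :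
    ∃ s s', Cj z s ∧ GP s s' := by
  obtain ⟨d⟩ := exists_VD h.lx
  obtain ⟨w, hw', hq, w0⟩ := h.exists_sing h8 d
  obtain ⟨v, rfl⟩ := d.mem_comS.1 hw'
  obtain ⟨x, hx, rfl⟩ := d.p_surj v
  exact ⟨t, _, h.cj, good_of hw h d hx (fun e => w0 (XV.add_eq_zero.2 e)) hq⟩

theorem exists_perfect' {z t : G} (hw : WC z) (h8 : 8 < Nat.card (O2C z)) (h : OP z t) :
    ∃ t, PF z t := by
  by_contra hn
  have key : ∀ k, ∃ s s', Cj z s ∧ GP s s' ∧ 2 ^ k ≤ Nat.card ↥(O2C s ⊓ O2C s') := fun k => by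
    induction k with
    | zero =>
      obtain ⟨s, s', h1, h2⟩ := exists_good' hw h8 h
      exact ⟨s, s', h1, h2, Nat.card_pos⟩
    | succ k ih =>
      obtain ⟨s, s', h1, h2, h3⟩ := ih
      obtain ⟨d⟩ := exists_VD h2.op.lx
      obtain ⟨d'⟩ := exists_VD h2.op.lxT
      have h4 := h1.trans h2.op.cj
      by_cases c : d.comS s' ≤ d.sm (O2C s')
      swap
      · obtain ⟨t', a, b⟩ := h2.double (hw.of_cj h1) d c
        exact ⟨s', t', h4, a, by omega⟩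
      by_cases c' : d'.comS s ≤ d'.sm (O2C s)
      swap
      · obtain ⟨t', a, b⟩ := h2.symm.double (hw.of_cj h4) d' c'
        rw [inf_comm] at b
        exact ⟨s, t', h1, a, by omega⟩
      obtain ⟨g, rfl⟩ := h1.symm
      obtain ⟨a1, a2⟩ := h2.of_le d c
      obtain ⟨-, a3⟩ := h2.symm.of_le d' c'
      refine absurd ⟨_, h2.conj g, ?_, ?_, ?_⟩ hn
      · rw [card_inf_conj, a1]
      · rw [card_O2C_inf, a2, card_O2C h1]
      · rw [card_O2C_inf, a3, card_O2C h4]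
  obtain ⟨s, s', -, h2, h3⟩ := key 3
  have := h2.op.R_le4
  omega

theorem mem_of_comm {z s : G} (d : VD (O2C z) z V) (sz : s * z = z * s) (s2 : s * s ∈ O2C z)
    (n : ∀ c, c * z = z * c → ∀ v, d.ρ s (d.ρ (c * s * c⁻¹) v) = d.ρ (c * s * c⁻¹) (d.ρ s v)) :
    s ∈ O2C z := by
  let K : Subgroup G :=
    { carrier := {x | x * z = z * x ∧ ∀ c, c * z = z * c → ∀ v,
        d.ρ x (d.ρ (c * s * c⁻¹) v) = d.ρ (c * s * c⁻¹) (d.ρ x v)}
      one_mem' := ⟨by simp, fun c _ v => by rw [d.ρ_one, d.ρ_one]⟩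
      mul_mem' := fun {x y} hx hy => ⟨cmul hx.1 hy.1, fun c hc v => by
        rw [d.ρ_mul hx.1 hy.1, d.ρ_mul hx.1 hy.1, hy.2 c hc, hx.2 c hc]⟩
      inv_mem' := fun {x} hx => ⟨cinv hx.1, fun c hc v => d.ρ_inj hx.1 (by
        rw [d.ρ_ρ_inv hx.1, hx.2 c hc, d.ρ_ρ_inv hx.1])⟩ }
  have Kn : ∀ g, g * z = z * g → ∀ x ∈ K, g * x * g⁻¹ ∈ K := fun g hg x hx =>
    ⟨cconj hg hx.1, fun c hc v => by
      have := hx.2 _ (cmul (cinv hg) hc) (d.ρ g⁻¹ v)
      rw [show g⁻¹ * c * s * (g⁻¹ * c)⁻¹ = g⁻¹ * (c * s * c⁻¹) * g⁻¹⁻¹ by group,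
        ρ_conj' (cinv hg) (cconj hc sz), ρ_conj (cinv hg) (cconj hc sz), inv_inv] at this
      rw [ρ_conj hg hx.1, ρ_conj hg hx.1, this, d.ρ_ρ_inv hg]⟩
  let N : Subgroup G :=
    { carrier := {x | x ∈ K ∧ (∀ y ∈ K, ∀ v, d.ρ x (d.ρ y v) = d.ρ y (d.ρ x v)) ∧
        ∀ v, d.ρ x (d.ρ x v) = v}
      one_mem' := ⟨K.one_mem, fun y _ v => by rw [d.ρ_one, d.ρ_one], fun v => by
        rw [d.ρ_one, d.ρ_one]⟩
      mul_mem' := fun {x y} hx hy => ⟨K.mul_mem hx.1 hy.1, fun c hc v => by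
        rw [d.ρ_mul hx.1.1 hy.1.1, d.ρ_mul hx.1.1 hy.1.1, hy.2.1 c hc, hx.2.1 c hc], fun v => by
        rw [d.ρ_mul hx.1.1 hy.1.1, d.ρ_mul hx.1.1 hy.1.1, hy.2.1 x hx.1, hx.2.2, hy.2.2]⟩
      inv_mem' := fun {x} hx => ⟨K.inv_mem hx.1, fun c hc v => d.ρ_inj hx.1.1 (by
        rw [d.ρ_ρ_inv hx.1.1, hx.2.1 c hc, d.ρ_ρ_inv hx.1.1]), fun v => d.ρ_inj hx.1.1 (by
        rw [d.ρ_ρ_inv hx.1.1, ← hx.2.2 (d.ρ x⁻¹ v), d.ρ_ρ_inv hx.1.1])⟩ }
  have Nn : ∀ g, g * z = z * g → ∀ x ∈ N, g * x * g⁻¹ ∈ N := fun g hg x hx =>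
    ⟨Kn g hg x hx.1, fun y hy v => by
      have := hx.2.1 _ (Kn _ (cinv hg) y hy) (d.ρ g⁻¹ v)
      rw [ρ_conj' (cinv hg) hy.1, ρ_conj (cinv hg) hy.1, inv_inv] at this
      rw [ρ_conj hg hx.1.1, ρ_conj hg hx.1.1, this, d.ρ_ρ_inv hg], fun v => by
      rw [ρ_conj hg hx.1.1 v, ρ_conj' hg hx.1.1, hx.2.2, d.ρ_ρ_inv hg]⟩
  refine (le_O2C (K := centralizer {z}) (N := N) le_rfl
    (fun c hc k hk => mem_centralizer_singleton_iff.2
      (cconj hc (mem_centralizer_singleton_iff.1 hk)))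
    (fun x hx => mem_centralizer_singleton_iff.2 hx.1.1)
    (fun c hc => Nn c (mem_centralizer_singleton_iff.1 hc))
    (isPGroup_of_pow4 d fun x hx => ?_) ⟨⟨sz, n⟩, fun y hy v => ?_,
      d.ρ_sq sz s2⟩)
  · have : x * x ∈ O2C z := d.mem_of_ρ (cmul hx.1.1 hx.1.1) fun v => by
      rw [d.ρ_mul hx.1.1 hx.1.1, hx.2.2]
    exact mul_mem this this
  · simpa using (hy.2 1 (by simp) v).symm

end Cfsg.Agent.H69.Out
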