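import Cfsg.Agent.H69.WcJ

/-! The orthogonal space of dimension four and plus type: the grid of singular vectors. -/

set_option autoImplicit false
set_option linter.unusedSectionVars false

namespace Cfsg.Agent.H69.Out

open Subgroup Cfsg.Agent.H49 Cfsg.Agent.H69.XV Cfsg.Agent.H69.XV.VD Cfsg.Agent.H92.Lx Equiv

universe u

variable {G : Type u} [Group G] [Finite G] {V : Type*} [AddCommGroup V] [Module (ZMod 2) V]

/-- the nine singular vectors -/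
structure Grid {Q : Subgroup G} {z : G} (d : VD Q z V) (P : Fin 3 → Fin 3 → V) : Prop where
  row : ∀ i, ∑ j, P i j = 0
  col : ∀ j, ∑ i, P i j = 0
  B : ∀ i j k l, d.B (P i j) (P k l) = if i ≠ k ∧ j ≠ l then 1 else 0
  q : ∀ i j, d.q (P i j) = 0
  nd : ∀ v, (∀ i j, d.B v (P i j) = 0) → v = 0

/-- `h` permutes rows and columns -/
def Act {Q : Subgroup G} {z : G} (d : VD Q z V) (P : Fin 3 → Fin 3 → V) (h : G)
    (σ τ : Perm (Fin 3)) : Prop := ∀ i j, d.ρ h (P i j) = P (σ i) (τ j)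

/-- `h` interchanges rows and columns -/
def Act' {Q : Subgroup G} {z : G} (d : VD Q z V) (P : Fin 3 → Fin 3 → V) (h : G)
    (σ τ : Perm (Fin 3)) : Prop := ∀ i j, d.ρ h (P i j) = P (σ j) (τ i)

set_option synthInstance.maxSize 2000 in
set_option synthInstance.maxHeartbeats 400000 in
theorem grid_dec : ∀ p q r s : Fin 3 × Fin 3, ¬ (p.1 ≠ q.1 ∧ p.2 ≠ q.2) → (p.1 ≠ r.1 ∧ p.2 ≠ r.2) →
    ¬ (p.1 ≠ s.1 ∧ p.2 ≠ s.2) → ¬ (q.1 ≠ r.1 ∧ q.2 ≠ r.2) → (q.1 ≠ s.1 ∧ q.2 ≠ s.2) →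
    ¬ (r.1 ≠ s.1 ∧ r.2 ≠ s.2) → ∃ σ τ : Perm (Fin 3), p = (σ 0, τ 0) ∧ r = (σ 1, τ 1) ∧
      (q = (σ 0, τ 1) ∧ s = (σ 1, τ 0) ∨ q = (σ 1, τ 0) ∧ s = (σ 0, τ 1)) := by
  decide +kernel

variable {Q : Subgroup G} {z : G} {d : VD Q z V} {P : Fin 3 → Fin 3 → V}

theorem Act.mul {h k : G} {σ τ σ' τ' : Perm (Fin 3)} (a : Act d P h σ τ) (b : Act d P k σ' τ')
    (hz : h * z = z * h) (kz : k * z = z * k) : Act d P (h * k) (σ * σ') (τ * τ') :=
  fun i j => by rw [d.ρ_mul hz kz, b, a]; rfl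

theorem Act.mul' {h k : G} {σ τ σ' τ' : Perm (Fin 3)} (a : Act d P h σ τ) (b : Act' d P k σ' τ')
    (hz : h * z = z * h) (kz : k * z = z * k) : Act' d P (h * k) (σ * σ') (τ * τ') :=
  fun i j => by rw [d.ρ_mul hz kz, b, a]; rfl

theorem Act'.mul {h k : G} {σ τ σ' τ' : Perm (Fin 3)} (a : Act' d P h σ τ) (b : Act d P k σ' τ')
    (hz : h * z = z * h) (kz : k * z = z * k) : Act' d P (h * k) (σ * τ') (τ * σ') :=
  fun i j => by rw [d.ρ_mul hz kz, b, a]; rfl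

theorem Act'.mul' {h k : G} {σ τ σ' τ' : Perm (Fin 3)} (a : Act' d P h σ τ) (b : Act' d P k σ' τ')
    (hz : h * z = z * h) (kz : k * z = z * k) : Act d P (h * k) (σ * τ') (τ * σ') :=
  fun i j => by rw [d.ρ_mul hz kz, b, a]; rfl

theorem Act.inv {h : G} {σ τ : Perm (Fin 3)} (a : Act d P h σ τ) (hz : h * z = z * h) :
    Act d P h⁻¹ σ⁻¹ τ⁻¹ := fun i j => d.ρ_inj hz (by rw [d.ρ_ρ_inv hz, a]; simp)

theorem act_Q {h : G} (hh : h ∈ Q) : Act d P h 1 1 := fun _ _ => d.ρ_Q hh _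

theorem Act.relabel {h : G} {σ τ : Perm (Fin 3)} (a : Act d P h σ τ) (μ κ : Perm (Fin 3)) :
    Act d (fun i j => P (μ i) (κ j)) h (μ⁻¹ * σ * μ) (κ⁻¹ * τ * κ) := fun i j => by
  simp [a (μ i) (κ j)]

namespace Grid

variable (h : Grid d P)
include h

theorem relabel (μ κ : Perm (Fin 3)) : Grid d fun i j => P (μ i) (κ j) :=
  ⟨fun i => (Equiv.sum_comp κ (P (μ i))).trans (h.row _),
    fun j => (Equiv.sum_comp μ (P · (κ j))).trans (h.col _),
    fun i j k l => by simp [h.B], fun i j => h.q _ _,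
    fun v hv => h.nd v fun i j => by simpa using hv (μ⁻¹ i) (κ⁻¹ j)⟩

theorem transpose : Grid d fun i j => P j i :=
  ⟨h.col, h.row, fun i j k l => by simp only [h.B, and_comm], fun i j => h.q _ _,
    fun v hv => h.nd v fun i j => hv j i⟩

theorem r2 (i : Fin 3) : P i 2 = P i 0 + P i 1 := by
  have := h.row i
  rw [Fin.sum_univ_three] at this
  linear_combination (norm := ch2) this

theorem c2 (j : Fin 3) : P 2 j = P 0 j + P 1 j := h.transpose.r2 j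

theorem ext2 {W : Type*} [AddCommGroup W] [Module (ZMod 2) W] (f : V →ₗ[ZMod 2] W)
    {R : Fin 3 → Fin 3 → W} (r : ∀ i, R i 2 = R i 0 + R i 1) (c : ∀ j, R 2 j = R 0 j + R 1 j)
    (e1 : f (P 0 0) = R 0 0) (e2 : f (P 0 1) = R 0 1) (e3 : f (P 1 1) = R 1 1)
    (e4 : f (P 1 0) = R 1 0) (i j : Fin 3) : f (P i j) = R i j := by
  have k : ∀ j, f (P 0 j) = R 0 j ∧ f (P 1 j) = R 1 j := fun j => by
    fin_cases j
    exacts [⟨e1, e4⟩, ⟨e2, e3⟩, ⟨(by rw [h.r2, r, map_add, e1, e2] : f (P 0 2) = R 0 2),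
      (by rw [h.r2, r, map_add, e3, e4] : f (P 1 2) = R 1 2)⟩]
  fin_cases i
  exacts [(k j).1, (k j).2, (by rw [h.c2, c, map_add, (k j).1, (k j).2] : f (P 2 j) = R 2 j)]

theorem coord (v : V) : ∃ x y x' y' : ZMod 2,
    v = x • P 0 0 + y • P 0 1 + x' • P 1 1 + y' • P 1 0 := by
  refine ⟨d.B v (P 1 1), d.B v (P 1 0), d.B v (P 0 0), d.B v (P 0 1),
    XV.add_eq_zero.1 (h.nd _ (h.ext2 _ (R := fun _ _ => 0) (by simp) (by simp) ?_ ?_ ?_ ?_))⟩ <;>
  simp [h.B, add_self]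

theorem ext {f g : V →ₗ[ZMod 2] V} (e : ∀ i j, f (P i j) = g (P i j)) (v : V) : f v = g v := by
  obtain ⟨x, y, x', y', rfl⟩ := h.coord v
  simp [e]

theorem q_coord (x y x' y' : ZMod 2) :
    d.q (x • P 0 0 + y • P 0 1 + x' • P 1 1 + y' • P 1 0) = x * x' + y * y' := by
  have : ∀ (c : ZMod 2) i j, d.q (c • P i j) = 0 := fun c i j => by
    rcases z2 c with rfl | rfl <;> simp [h.q, d.q_zero]
  simp [d.q_add, this, h.B, mul_comm]

theorem inj {i j k l : Fin 3} (e : P i j = P k l) : i = k ∧ j = l := by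
  have k1 : ∀ i j k l : Fin 3, (∀ m n, (if i ≠ m ∧ j ≠ n then (1 : ZMod 2) else 0) =
      if k ≠ m ∧ l ≠ n then 1 else 0) → i = k ∧ j = l := by decide +kernel
  exact k1 i j k l fun m n => by rw [← h.B, e, h.B]

theorem ne_zero (i j : Fin 3) : P i j ≠ 0 := fun e => by
  have := h.B i j (i + 1) (j + 1)
  have k : ∀ i j : Fin 3, i ≠ i + 1 ∧ j ≠ j + 1 := by decide
  rw [e, if_pos (k i j)] at this
  simp at this

theorem sing {v : V} (hq : d.q v = 0) (v0 : v ≠ 0) : ∃ p : Fin 3 × Fin 3, v = P p.1 p.2 := by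
  obtain ⟨x, y, x', y', rfl⟩ := h.coord v
  rw [h.q_coord] at hq
  rcases z2 x with rfl | rfl <;> rcases z2 y with rfl | rfl <;> rcases z2 x' with rfl | rfl <;>
    rcases z2 y' with rfl | rfl <;> first | exact absurd hq (by decide) | skip
  · simp at v0
  · exact ⟨(1, 0), by simp⟩
  · exact ⟨(1, 1), by simp⟩
  · exact ⟨(1, 2), by simp [h.r2, add_comm]⟩
  · exact ⟨(0, 1), by simp⟩
  · exact ⟨(2, 1), by simp [h.c2]⟩
  · exact ⟨(0, 0), by simp⟩
  · exact ⟨(2, 0), by simp [h.c2]⟩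
  · exact ⟨(0, 2), by simp [h.r2]⟩
  · exact ⟨(2, 2), by simp [h.c2, h.r2 0, h.r2 1]; abel⟩

theorem cls {c : G} (hc : c * z = z * c) :
    (∃ σ τ, Act d P c σ τ) ∨ ∃ σ τ, Act' d P c σ τ := by
  have k := fun i j => h.sing ((d.q_ρ hc _).trans (h.q i j)) (ρ_ne_zero hc (h.ne_zero i j))
  choose f hf using k
  have b : ∀ i j k l, (f i j).1 ≠ (f k l).1 ∧ (f i j).2 ≠ (f k l).2 ↔ i ≠ k ∧ j ≠ l :=
    fun i j k l => by
      have := d.B_ρ hc (P i j) (P k l)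
      rw [hf, hf, h.B, h.B] at this
      split_ifs at this with a b b
      exacts [iff_of_true a b, absurd this (by decide), absurd this (by decide), iff_of_false a b]
  obtain ⟨σ, τ, e1, e2, ⟨e3, e4⟩ | ⟨e3, e4⟩⟩ := grid_dec (f 0 0) (f 0 1) (f 1 1) (f 1 0)
    (by simp [b]) (by simp [b]) (by simp [b]) (by simp [b]) (by simp [b]) (by simp [b])
  · exact Or.inl ⟨σ, τ, h.ext2 _ (h.relabel σ τ).r2 (h.relabel σ τ).c2 (by rw [hf, e1])
      (by rw [hf, e3]) (by rw [hf, e2]) (by rw [hf, e4])⟩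
  · exact Or.inr ⟨σ, τ, h.ext2 _ (h.relabel σ τ).c2 (h.relabel σ τ).r2 (by rw [hf, e1])
      (by rw [hf, e3]) (by rw [hf, e2]) (by rw [hf, e4])⟩

theorem uniq {c : G} {σ τ σ' τ' : Perm (Fin 3)} (a : Act d P c σ τ) (b : Act d P c σ' τ') :
    σ = σ' ∧ τ = τ' :=
  ⟨Equiv.ext fun i => (h.inj ((a i 0).symm.trans (b i 0))).1,
    Equiv.ext fun j => (h.inj ((a 0 j).symm.trans (b 0 j))).2⟩

theorem excl {c : G} {σ τ σ' τ' : Perm (Fin 3)} (a : Act d P c σ τ) (b : Act' d P c σ' τ') :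
    False := zero_ne_one (σ.injective ((h.inj ((a 0 0).symm.trans (b 0 0))).1.trans
      (h.inj ((a 1 0).symm.trans (b 1 0))).1.symm))

theorem mem_Q {c : G} (hc : c * z = z * c) (a : Act d P c 1 1) : c ∈ Q :=
  d.mem_of_ρ hc (h.ext (g := LinearMap.id) a)

theorem ρ_eq {c c' : G} {σ τ : Perm (Fin 3)} (a : Act d P c σ τ) (b : Act d P c' σ τ) (v : V) :
    d.ρ c v = d.ρ c' v := h.ext (fun i j => (a i j).trans (b i j).symm) v

set_option synthInstance.maxSize 2000 in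
set_option synthInstance.maxHeartbeats 400000 in
theorem eq_zero {c c' : G} (hc : c * z = z * c) (hc' : c' * z = z * c') {σ σ' : Perm (Fin 3)}
    (a : Act d P c σ 1) (b : Act d P c' σ' 1) (h1 : σ ≠ 1) (h2 : σ' ≠ 1) (h3 : σ ≠ σ')
    (s1 : σ * σ = 1) (s2 : σ' * σ' = 1) {v : V} (e : d.ρ c v = v) (e' : d.ρ c' v = v) : v = 0 := by
  refine h.nd v fun i j => ?_
  have k : ∀ σ σ' : Perm (Fin 3), σ ≠ 1 → σ' ≠ 1 → σ ≠ σ' → σ * σ = 1 → σ' * σ' = 1 →
      ∀ f : Fin 3 → ZMod 2, (∀ i, f (σ i) = f i) → (∀ i, f (σ' i) = f i) → ∑ i, f i = 0 →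
      ∀ i, f i = 0 := by decide +kernel
  refine k σ σ' h1 h2 h3 s1 s2 (fun i => d.B v (P i j)) (fun i => ?_) (fun i => ?_) ?_ i
  · rw [← d.B_ρ hc v (P i j), e, a]; rfl
  · rw [← d.B_ρ hc' v (P i j), e', b]; rfl
  · rw [← map_sum, h.col, map_zero]

end Grid

/-- the perfect partners attached to the rows -/
def Rows {z : G} (d : VD (O2C z) z V) (P : Fin 3 → Fin 3 → V) : Prop :=
  ∀ σ : Perm (Fin 3), σ ≠ 1 → σ * σ = 1 → ∃ t, PF z t ∧ Act d P t σ 1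

theorem Rows.relabel {z : G} {d : VD (O2C z) z V} {P : Fin 3 → Fin 3 → V} (h : Rows d P)
    (μ κ : Perm (Fin 3)) : Rows d fun i j => P (μ i) (κ j) := fun σ h1 h2 => by
  obtain ⟨t, ht, a⟩ := h (μ * σ * μ⁻¹) (by simpa using h1) (by rw [← conj_mul', h2]; simp)
  exact ⟨t, ht, by simpa [mul_assoc] using a.relabel μ κ⟩

theorem Rows.all {z : G} {d : VD (O2C z) z V} {P : Fin 3 → Fin 3 → V} (h : Rows d P)
    (σ : Perm (Fin 3)) : ∃ k, k * z = z * k ∧ Act d P k σ 1 := by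
  have k : ∀ σ : Perm (Fin 3), σ = 1 ∨ (σ ≠ 1 ∧ σ * σ = 1) ∨ ∃ a b : Perm (Fin 3),
      a ≠ 1 ∧ a * a = 1 ∧ b ≠ 1 ∧ b * b = 1 ∧ σ = a * b := by decide +kernel
  rcases k σ with rfl | ⟨h1, h2⟩ | ⟨a, b, h1, h2, h3, h4, rfl⟩
  · exact ⟨1, by simp, act_Q (one_mem _)⟩
  · obtain ⟨t, ht, a⟩ := h σ h1 h2
    exact ⟨t, ht.tz, a⟩
  · obtain ⟨t, ht, a⟩ := h a h1 h2
    obtain ⟨t', ht', a'⟩ := h b h3 h4
    exact ⟨_, cmul ht.tz ht'.tz, a.mul a' ht.tz ht'.tz⟩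

theorem PF.half {z t : G} (h : PF z t) (h32 : Nat.card (O2C z) = 32) (d : VD (O2C z) z V) :
    d.comS t = d.fixS t := by
  have := d.finite
  have := h.card_fix d
  have := d.card_Q
  exact sub_eq_of_card (h.W_le d) (by rw [h.card_W d]; omega)

theorem PF.exists_grid {z t : G} (h : PF z t) (h32 : Nat.card (O2C z) = 32) (d : VD (O2C z) z V) :
    ∃ P, Grid d P ∧ Rows d P := by
  have := d.finite
  obtain ⟨t', h', o⟩ : ∃ t', PF z t' ∧ Opp d t t' := by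
    by_contra n
    refine h.op.nm (mem_of_comm d h.tz h.op.t2 fun c hc v => ?_)
    have h' := h.conjH hc
    have : ¬ Opp d t (c * t * c⁻¹) := fun o => n ⟨_, h', o⟩
    simp only [Opp, not_forall] at this
    obtain ⟨w, hw, hw', w0⟩ := this
    rw [← h'.half h32 d] at hw'
    obtain ⟨a, ha, a0, n1⟩ := h.second d w
    obtain ⟨b, hb, b0, n2⟩ := h'.second d w
    have e1 := d.B_com_fix h.tz hw (h.W_le d ha)
    have e2 := d.B_com_fix h'.tz hw' (h'.W_le d hb)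
    simp only [h.rt d hw ha w0 a0 n1 _, h'.rt d hw' hb w0 b0 n2 _, map_add, map_smul,
      LinearMap.add_apply, LinearMap.smul_apply, d.B_self, d.B_symm a w, d.B_symm b w, e1, e2,
      d.B_symm b a]
    module
  obtain ⟨a, b, a', b', ha, hb, ha', hb', a0, b0, ab, a0', b0', ab', e1, e2, e3, e4⟩ := h.basis h' o
  have e5 := d.B_com_fix h.tz ha (h.W_le d hb)
  have e6 := d.B_com_fix h'.tz ha' (h'.W_le d hb')
  have f1 := (d.B_symm _ _).trans e1
  have f2 := (d.B_symm _ _).trans e2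
  have f3 := (d.B_symm _ _).trans e3
  have f4 := (d.B_symm _ _).trans e4
  have f5 := (d.B_symm _ _).trans e5
  have f6 := (d.B_symm _ _).trans e6
  have g : Grid d ![![a, b, a + b], ![b', a', b' + a'], ![a + b', b + a', a + b + (b' + a')]] := by
    refine ⟨fun i => ?_, fun j => ?_, fun i j k l => ?_, fun i j => ?_, fun v hv => ?_⟩
    · fin_cases i <;> simp [Fin.sum_univ_three] <;> ch2
    · fin_cases j <;> simp [Fin.sum_univ_three] <;> ch2
    · fin_cases i <;> fin_cases j <;> fin_cases k <;> fin_cases l <;>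
        simp [e1, e2, e3, e4, e5, e6, f1, f2, f3, f4, f5, f6, d.B_self] <;> decide
    · fin_cases i <;> fin_cases j <;> simp [d.q_add, h.q_W d ha, h.q_W d hb, h'.q_W d ha',
        h'.q_W d hb', e1, e2, e3, e4, e5, f6]
      decide
    · have m1 : v ∈ d.fixS t := mem_fix_of h.tz fun w hw => by
        rw [d.B_symm]
        rcases h.four d ha hb a0 b0 ab hw with rfl | rfl | rfl | rfl
        exacts [map_zero _, hv 0 0, hv 0 1, hv 0 2]
      refine o v (h.half h32 d ▸ m1) (mem_fix_of h'.tz fun w hw => ?_)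
      rw [d.B_symm]
      rcases h'.four d hb' ha' b0' a0' ab'.symm hw with rfl | rfl | rfl | rfl
      exacts [map_zero _, hv 1 0, hv 1 1, hv 1 2]
  refine ⟨_, g, fun σ h1 h2 => ?_⟩
  have r := h.rt d ha hb a0 b0 ab
  have r' := h'.rt d ha' hb' a0' b0' ab'
  have A : Act d _ t (swap 1 2) 1 := g.ext2 (d.ρ t) (g.relabel (swap 1 2) 1).r2 (g.relabel (swap 1 2) 1).c2
    (by simp [r _, e5, d.B_self, swap_apply_of_ne_of_ne]) (by simp [r _, f5, d.B_self, swap_apply_of_ne_of_ne])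
    (by simp [r _, f1, f2, add_comm]) (by simp [r _, f3, f4, add_comm])
  have A' : Act d _ t' (swap 0 2) 1 := g.ext2 (d.ρ t') (g.relabel (swap 0 2) 1).r2 (g.relabel (swap 0 2) 1).c2
    (by simp [r' _, e1, e3]) (by simp [r' _, e2, e4])
    (by simp [r' _, e6, d.B_self, swap_apply_of_ne_of_ne]) (by simp [r' _, f6, d.B_self, swap_apply_of_ne_of_ne])
  have k : ∀ σ : Perm (Fin 3), σ ≠ 1 → σ * σ = 1 → σ = swap 1 2 ∨ σ = swap 0 2 ∨
      σ = swap 1 2 * swap 0 2 * (swap 1 2)⁻¹ := by decide +kernel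
  rcases k σ h1 h2 with rfl | rfl | rfl
  · exact ⟨t, h, A⟩
  · exact ⟨t', h', A'⟩
  · exact ⟨_, h'.conjH h.tz, (Act.mul A A' h.tz h'.tz).mul (Act.inv A h.tz) (cmul h.tz h'.tz)
      (cinv h.tz)⟩

end Cfsg.Agent.H69.Out
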