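import Cfsg.Agent.H69.WcK
import Cfsg.Agent.H66.ExtTh

/-! Width two: transfer arguments. -/

set_option autoImplicit false
set_option linter.unusedSectionVars false

namespace Cfsg.Agent.H69.Out

open Subgroup Cfsg.Agent.H49 Cfsg.Agent.H69.XV Cfsg.Agent.H69.XV.VD Cfsg.Agent.H92.Lx Equiv

universe u

variable {G : Type u} [Group G] [Finite G] {V : Type*} [AddCommGroup V] [Module (ZMod 2) V]

theorem ri2 {M K : Subgroup G} (h : ∀ a ∈ K, ∀ b ∈ K, a ∉ M → b ∉ M → a * b ∈ M) {x : G}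
    (hx : x ∈ K) (n : x ∉ M) : M.relIndex K = 2 :=
  relIndex_eq_two_iff.2 ⟨x, hx, fun b hb => by
    by_cases c : b ∈ M
    · exact Or.inr ⟨c, fun e => n ((mul_mem_cancel_left c).1 e)⟩
    · exact Or.inl ⟨h b hb x hx c n, c⟩⟩

theorem conj_nm {M K : Subgroup G} (h : ∀ a ∈ K, ∀ b ∈ K, a ∉ M → b ∉ M → a * b ∈ M) {x g : G}
    (hx : x ∈ K) (n : x ∉ M) (hg : g ∈ K) : g * x * g⁻¹ ∉ M := fun e => by
  by_cases c : g ∈ M
  · exact n ((mul_mem_cancel_left c).1 ((mul_mem_cancel_right (inv_mem c)).1 e))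
  · exact c (inv_mem_iff.1 ((mul_mem_cancel_left (h g hg x hx c n)).1 e))

theorem le_cent {Q S : Subgroup G} {z : G} (h : LX Q z) (hS : IsPGroup 2 S) (le : Q ≤ S) :
    S ≤ centralizer {z} := by
  obtain ⟨x, hx, h1, hc⟩ := exists_fixed_of_dvd hS le_normalizer
    (h.toXS.card_Z ▸ card_dvd_of_le ((zpowers_le.2 h.mem).trans le))
  obtain rfl := (h.mem_centralizer_iff'.1 (centralizer_le le hc)).resolve_left h1
  exact fun s hs => mem_centralizer_singleton_iff.2 (mem_centralizer_iff.1 hc s hs)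

theorem pow_cases {Q : Subgroup G} {z x : G} (h : XS Q z) (e : x * x = 1 ∨ x * x = z) {k : ℕ}
    (hk : 1 ≤ k) : x ^ 2 ^ k = 1 ∨ x ^ 2 ^ k = z := by
  obtain ⟨k, rfl⟩ := Nat.exists_eq_add_of_le hk
  rw [pow_add, pow_one, pow_mul, pow_two]
  exact h.mem_Z.1 (pow_mem (h.mem_Z.2 e) _)

theorem pow4 {Q : Subgroup G} {z x : G} (h : XS Q z) (e : x * x = 1 ∨ x * x = z) :
    x ^ 2 ^ 2 = 1 := by
  rw [show x ^ 2 ^ 2 = x * x * (x * x) by norm_num [pow_succ, mul_assoc]]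
  rcases e with e | e <;> simp [e, h.zz]

section

variable {Q : Subgroup G} {z : G} {d : VD Q z V} {P : Fin 3 → Fin 3 → V}

theorem p_sq (d : VD Q z V) {c e : G} (hc : c * z = z * c) (h2 : c * c ∈ Q) (he : e ∈ Q) :
    e * c * (e * c) ∈ Q ∧ d.p (e * c * (e * c)) = d.p e + d.ρ c (d.p e) + d.p (c * c) := by
  have m := d.lx.conj_mem hc he
  rw [show e * c * (e * c) = e * (c * e * c⁻¹) * (c * c) by group]
  exact ⟨mul_mem (mul_mem he m) h2, by rw [d.p_mul (mul_mem he m) h2, d.p_mul he m, d.ρ_p hc he]⟩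

theorem fix_sq (d : VD Q z V) {c : G} (hc : c * z = z * c) (h2 : c * c ∈ Q) :
    d.ρ c (d.p (c * c)) = d.p (c * c) := by rw [d.ρ_p hc h2]; congr 1; group

theorem cent1 (d : VD Q z V) {c y u : G} (hc : c * z = z * c) (hy : y ∈ Q) (hu : u ∈ Q)
    (n : u * y ≠ y * u) (f : d.ρ c (d.p y) = d.p y) : y * c = c * y ∨ y * (u * c) = u * c * y :=
  ((d.ρ_fix hc hy).1 f).imp comm_of_conj fun e => comm_of_conj (by
    calc _ = u * (c * y * c⁻¹) * u⁻¹ := by group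
      _ = u * y * u⁻¹ * (u * z * u⁻¹) := by rw [e]; group
      _ = y := by
        rw [d.xs.conj_of_ne hu hy n, d.xs.cen u hu, mul_inv_cancel_right, mul_assoc, d.xs.zz, mul_one])

/-- elements acting on the columns through `K` -/
def HA (d : VD Q z V) (P : Fin 3 → Fin 3 → V) (K : Subgroup (Perm (Fin 3))) : Subgroup G where
  carrier := {c | c * z = z * c ∧ ∃ σ, ∃ τ ∈ K, Act d P c σ τ}
  one_mem' := ⟨by simp, 1, 1, one_mem _, act_Q (one_mem _)⟩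
  mul_mem' := fun ⟨a, _, _, m, e⟩ ⟨a', _, _, m', e'⟩ => ⟨cmul a a', _, _, mul_mem m m', e.mul e' a a'⟩
  inv_mem' := fun ⟨a, _, _, m, e⟩ => ⟨cinv a, _, _, inv_mem m, e.inv a⟩

theorem Grid.sq_Q (g : Grid d P) {m : G} {K : Subgroup (Perm (Fin 3))} (hm : m ∈ HA d P K)
    (h4 : m * m * (m * m) = 1) : m * m ∈ Q := by
  obtain ⟨mz, σ, τ, -, a⟩ := hm
  have a2 := a.mul a mz mz
  have k : ∀ σ : Perm (Fin 3), σ * σ * (σ * σ) = 1 → σ * σ = 1 := by decide +kernel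
  obtain ⟨e1, e2⟩ := g.uniq (a2.mul a2 (cmul mz mz) (cmul mz mz)) (h4 ▸ act_Q (one_mem _))
  rw [k σ e1, k τ e2] at a2
  exact g.mem_Q (cmul mz mz) a2

theorem Grid.two (g : Grid d P) : ∀ a ∈ centralizer {z}, ∀ b ∈ centralizer {z}, a ∉ HA d P ⊤ →
    b ∉ HA d P ⊤ → a * b ∈ HA d P ⊤ := fun a ha b hb n n' => by
  rw [mem_centralizer_singleton_iff] at ha hb
  obtain ⟨_, _, e⟩ := (g.cls ha).resolve_left fun ⟨σ, τ, e⟩ => n ⟨ha, σ, τ, trivial, e⟩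
  obtain ⟨_, _, e'⟩ := (g.cls hb).resolve_left fun ⟨σ, τ, e⟩ => n' ⟨hb, σ, τ, trivial, e⟩
  exact ⟨cmul ha hb, _, _, trivial, e.mul' e' ha hb⟩

end

variable {z : G} {d : VD (O2C z) z V} {P : Fin 3 → Fin 3 → V} (hw : WC z) (g : Grid d P)
include hw g

theorem Grid.back {K : Subgroup (Perm (Fin 3))} {k y : G} (hm : k * y * k⁻¹ ∈ HA d P K)
    (e : y * y = z) : k ∈ centralizer ({z} : Set G) := by
  have := g.sq_Q hm (by rw [← conj_mul', ← conj_mul', e, hw.lx.zz, mul_one, mul_inv_cancel])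
  rw [← conj_mul', e] at this
  exact mem_centralizer_singleton_iff.2 (mul_inv_eq_iff_eq_mul.1 (hw.wc k this))

theorem Grid.no_tr (h8 : 8 < Nat.card (O2C z)) {s : G} (hs : Cj z s) (sz : s * z = z * s) :
    s ∈ HA d P ⊤ := by
  refine ⟨sz, ?_⟩
  obtain ⟨σ, τ, a⟩ | ⟨σ, τ, a⟩ := g.cls sz
  · exact ⟨σ, τ, trivial, a⟩
  exfalso
  have o := op_of_wc hw hs (fun e => g.excl (act_Q (e ▸ hw.lx.mem)) a) sz
  have e := (g.uniq (a.mul' a sz sz) (o.tt ▸ act_Q (one_mem _))).2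
  have a' : ∀ i j, d.ρ s (P (σ i) j) = P (σ j) i := fun i j => by
    rw [a, ← Perm.mul_apply τ, e]; rfl
  obtain ⟨w, hw', q, w0⟩ := o.exists_sing h8 d
  obtain ⟨u, rfl⟩ := d.mem_comS.1 hw'
  have g' : Grid d fun i j => P (σ i) j := g.relabel σ 1
  obtain ⟨x, y, x', y', rfl⟩ := g'.coord u
  have k := g'.q_coord 0 (y + y') 0 (y + y')
  simp only [map_add, map_smul, a'] at q w0
  have e' : x • P (σ 0) 0 + y • P (σ 1) 0 + x' • P (σ 1) 1 + y' • P (σ 0) 1 +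
      (x • P (σ 0) 0 + y • P (σ 0) 1 + x' • P (σ 1) 1 + y' • P (σ 1) 0) =
      (0 : ZMod 2) • P (σ 0) 0 + (y + y') • P (σ 0) 1 + (0 : ZMod 2) • P (σ 1) 1 +
        (y + y') • P (σ 1) 0 := by
    refine eq_of_one_smul ?_; match_scalars <;> (ring_nf <;> reduce_mod_char)
  rw [e'] at q w0
  rw [q] at k
  exact w0 (by simp [show y + y' = 0 by simpa using k.symm])

theorem Grid.caseI (hG : ∀ K : Subgroup G, K.index ≠ 2) (h8 : 8 < Nat.card (O2C z)) (r : Rows d P)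
    {h : G} (hz : h * z = z * h) : h ∈ HA d P ⊤ := by
  refine ⟨hz, ?_⟩
  obtain ⟨σ, τ, a⟩ | ⟨σ, τ, a⟩ := g.cls hz
  · exact ⟨σ, τ, trivial, a⟩
  exfalso
  have X := hw.lx.toXS
  obtain ⟨x, xz, ax⟩ : ∃ x, x * z = z * x ∧ Act' d P x 1 1 := by
    obtain ⟨k, kz, b⟩ := r.all σ⁻¹
    obtain ⟨k', kz', b'⟩ := r.all τ⁻¹
    exact ⟨_, cmul (cmul kz hz) kz', by simpa using (b.mul' a kz hz).mul b' (cmul kz hz) kz'⟩
  have Φ : ∀ {x e}, x * z = z * x ∧ Act' d P x 1 1 → e ∈ O2C z →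
      e * x * z = z * (e * x) ∧ Act' d P (e * x) 1 1 := fun hx he =>
    ⟨cmul (X.cen _ he) hx.1, (act_Q he).mul' hx.2 (X.cen _ he) hx.1⟩
  obtain ⟨y₁, m₁, p₁⟩ := d.p_surj (P 0 0 + P 1 1)
  obtain ⟨y₂, m₂, p₂⟩ := d.p_surj (P 0 0 + P 0 1 + P 1 0)
  obtain ⟨y₃, m₃, p₃⟩ := d.p_surj (P 0 0 + P 0 1 + P 1 1)
  have n : y₁ * y₂ ≠ y₂ * y₁ := by rw [Ne, ← d.B_eq_zero m₁ m₂, p₁, p₂]; simp [g.B]
  have c₁ : y₁ * y₃ = y₃ * y₁ := by rw [← d.B_eq_zero m₁ m₃, p₁, p₃]; simp [g.B]; decide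
  have c₂ : y₂ * y₃ = y₃ * y₂ := by rw [← d.B_eq_zero m₂ m₃, p₂, p₃]; simp [g.B]; decide
  obtain ⟨x, hx, e₁⟩ : ∃ x, (x * z = z * x ∧ Act' d P x 1 1) ∧ y₁ * x = x * y₁ := by
    rcases cent1 d xz m₁ m₂ n.symm (by simp [p₁, ax 0 0, ax 1 1]) with e | e
    exacts [⟨_, ⟨xz, ax⟩, e⟩, ⟨_, Φ ⟨xz, ax⟩ m₂, e⟩]
  obtain ⟨x, hx, e₁, e₂⟩ : ∃ x, (x * z = z * x ∧ Act' d P x 1 1) ∧ y₁ * x = x * y₁ ∧
      y₂ * x = x * y₂ := by
    rcases cent1 d hx.1 m₂ m₁ n (by simp [p₂, hx.2 0 0, hx.2 0 1, hx.2 1 0]; abel) with e | e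
    exacts [⟨_, hx, e₁, e⟩, ⟨_, Φ hx m₁, by rw [mul_assoc, ← e₁], e⟩]
  obtain ⟨x, hx, e₁, e₂, e₃⟩ : ∃ x, (x * z = z * x ∧ Act' d P x 1 1) ∧ y₁ * x = x * y₁ ∧
      y₂ * x = x * y₂ ∧ (x * x = 1 ∨ x * x = z) := by
    have m := g.mem_Q (cmul hx.1 hx.1) (hx.2.mul' hx.2 hx.1 hx.1)
    have f := congrArg (d.B (P 0 1)) (fix_sq d hx.1 m)
    have f₁ := (d.B_eq_zero m₁ m).2 (cmul e₁.symm e₁.symm).symm
    have f₂ := (d.B_eq_zero m₂ m).2 (cmul e₂.symm e₂.symm).symm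
    obtain ⟨a, b, a', b', e⟩ := g.coord (d.p (x * x))
    rw [e] at f f₁ f₂
    simp [p₁, p₂, g.B, hx.2 0 0, hx.2 0 1, hx.2 1 0, hx.2 1 1] at f f₁ f₂
    subst f
    obtain rfl : a' = 0 := by simpa [add_assoc, CharTwo.add_self_eq_zero] using f₂
    obtain rfl : a = 0 := by simpa using f₁
    rcases z2 b with rfl | rfl
    · exact ⟨x, hx, e₁, e₂, (d.p_eq_zero m).1 (by simpa using e)⟩
    · obtain ⟨k1, k2⟩ := p_sq d hx.1 m m₃
      refine ⟨_, Φ hx m₃, (cmul c₁.symm e₁.symm).symm, (cmul c₂.symm e₂.symm).symm,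
        (d.p_eq_zero k1).1 ?_⟩
      rw [k2, e, p₃]
      simp only [map_add, hx.2 0 0, hx.2 0 1, hx.2 1 1, Perm.one_apply]
      ch2
  have xc := mem_centralizer_singleton_iff.2 hx.1
  have nx : x ∉ HA d P ⊤ := fun ⟨_, _, _, _, b⟩ => g.excl b hx.2
  obtain ⟨S, hS⟩ := (X.isPGroup.to_sup_of_normal_left' (K := zpowers x)
    (IsPGroup.iff_orderOf.2 fun ⟨_, k, rfl⟩ => (Nat.dvd_prime_pow Nat.prime_two).1
      (orderOf_dvd_of_pow_eq_one (n := 2 ^ 2) (Subtype.ext (by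
        simp only [SubgroupClass.coe_pow, OneMemClass.coe_one]
        rw [← zpow_natCast, ← zpow_mul, mul_comm, zpow_mul, zpow_natCast, pow4 X e₃, one_zpow]))) |>.imp
        fun _ => And.right) (zpowers_le.2 (hw.lx.nz xc))).exists_le_sylow
  have QS := le_sup_left.trans hS
  have SH := le_cent hw.lx S.isPGroup' QS
  obtain ⟨k, k1, k2⟩ := H66.ext_thompson hG S (M := HA d P ⊤)
    (ri2 (fun a ha b hb => g.two a (SH ha) b (SH hb)) (hS (mem_sup_right (mem_zpowers x))) nx)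
    (pow4 X e₃) fun k j hj m => by
      rcases pow_cases X e₃ hj with e | e <;> rw [e] at m ⊢
      · simp
      · exact g.no_tr hw h8 ⟨k, rfl⟩ (mem_centralizer_singleton_iff.1 (SH m))
  have q : ∀ y ∈ O2C z, d.q (d.p y) = 1 → k * y * k⁻¹ ∉ HA d P ⊤ := fun y hy e m =>
    conj_nm g.two xc nx (g.back hw m ((X.sq hy).resolve_left fun c =>
      zero_ne_one (((d.q_eq_zero hy).2 c).symm.trans e))) k1
  refine q (y₁ * y₂) (mul_mem m₁ m₂) ?_ (conj_mul' k y₁ y₂ ▸ g.two _ (SH (k2 _ (QS m₁) e₁)) _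
    (SH (k2 _ (QS m₂) e₂)) (q _ m₁ ?_) (q _ m₂ ?_)) <;>
  simp [d.p_mul m₁ m₂, p₁, p₂, d.q_add, g.q, g.B]
  decide

theorem Grid.two' (h0 : ∀ c, c * z = z * c → c ∈ HA d P ⊤) : ∀ a ∈ centralizer {z},
    ∀ b ∈ centralizer {z}, a ∉ HA d P (alternatingGroup _) → b ∉ HA d P (alternatingGroup _) →
    a * b ∈ HA d P (alternatingGroup _) := fun a ha b hb n n' => by
  rw [mem_centralizer_singleton_iff] at ha hb
  obtain ⟨-, σ, τ, -, e⟩ := h0 a ha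
  obtain ⟨-, σ', τ', -, e'⟩ := h0 b hb
  exact ⟨cmul ha hb, _, _, (mul_mem_iff_of_index_two alternatingGroup.index_eq_two).2
    (iff_of_false (fun m => n ⟨ha, σ, τ, m, e⟩) fun m => n' ⟨hb, σ', τ', m, e'⟩), e.mul e' ha hb⟩

theorem Grid.caseIIb (hG : ∀ K : Subgroup G, K.index ≠ 2) (r : Rows d P)
    (h0 : ∀ c, c * z = z * c → c ∈ HA d P ⊤)
    (h1 : ∀ s, s * z = z * s → s * s = 1 → s ∈ HA d P (alternatingGroup _)) {h : G}
    (hz : h * z = z * h) : h ∈ HA d P (alternatingGroup _) := by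
  have X := hw.lx.toXS
  by_contra n
  obtain ⟨x, xz, nx, e⟩ : ∃ x, x * z = z * x ∧ x ∉ HA d P (alternatingGroup _) ∧
      (x * x = 1 ∨ x * x = z) := by
    obtain ⟨-, σ, τ, -, a⟩ := h0 h hz
    obtain ⟨k, kz, b⟩ := r.all σ⁻¹
    have k1 : ∀ τ : Perm (Fin 3), Perm.sign τ ≠ 1 → ∃ κ, κ⁻¹ * τ * κ = swap 1 2 := by
      decide +kernel
    obtain ⟨κ, e⟩ := k1 τ fun m => n ⟨hz, σ, τ, m, a⟩
    have a' := (b.mul a kz hz).relabel 1 κ
    have g' := g.relabel 1 κ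
    have nx : k * h ∉ HA d P (alternatingGroup _) := fun m =>
      n ((mul_mem_cancel_left (show k ∈ HA d P _ from ⟨kz, _, _, one_mem _, b⟩)).1 m)
    have xz := cmul kz hz
    rw [one_mul τ, e] at a'
    generalize k * h = x at *
    generalize (fun i j => P ((1 : Perm (Fin 3)) i) (κ j)) = R at *
    have m := g'.mem_Q (cmul xz xz) (by simpa using a'.mul a' xz xz)
    have f := fix_sq d xz m
    obtain ⟨a, b, a₁, b₁, e⟩ := g'.coord (d.p (x * x))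
    have f₁ := congrArg (d.B (R 1 1)) f
    have f₂ := congrArg (d.B (R 0 1)) f
    have s0 : swap (1 : Fin 3) 2 0 = 0 := by decide
    rw [e] at f₁ f₂
    simp [g'.B, a' 0 0, a' 0 1, a' 1 0, a' 1 1, s0] at f₁ f₂
    obtain ⟨y, hy, e'⟩ := d.p_surj (a • R 0 1 + b₁ • R 1 1)
    obtain ⟨k1, k2⟩ := p_sq d xz m hy
    refine ⟨_, cmul (X.cen y hy) xz, fun c => nx ((mul_mem_cancel_left
      (show y ∈ HA d P _ from ⟨X.cen y hy, _, _, one_mem _, act_Q hy⟩)).1 c), (d.p_eq_zero k1).1 ?_⟩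
    rw [k2, e, e', f₁, f₂]
    simp only [map_add, map_smul, a' 0 1, a' 1 1]
    simp [g'.r2]
    refine eq_of_one_smul ?_; match_scalars <;> (ring_nf <;> reduce_mod_char)
  have xc := mem_centralizer_singleton_iff.2 xz
  obtain ⟨S, -, hS⟩ := exists_sylow hw.lx
  obtain ⟨K, -, hK, -⟩ := H87.thompson_transfer (H := centralizer {z}) (Nat.not_even_iff_odd.1
      fun c => S.not_dvd_index (c.two_dvd.trans (index_dvd_of_le hS))) (ri2 (g.two' hw h0) xc nx) (pow4 X e)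
    (fun k m => conj_nm (g.two' hw h0) xc nx (g.back hw m
      (e.resolve_left fun c => nx (h1 x xz c))) m) fun k j hj m => by
      rcases pow_cases X e hj with e | e <;> rw [e] at m ⊢
      · simp
      · exact h1 _ (mem_centralizer_singleton_iff.1 m) (Cj.sq ⟨k, rfl⟩ X.zz)
  exact hG K hK

end Cfsg.Agent.H69.Out
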