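import Cfsg.Agent.H97.XSBase

/-!
# S5177, case 1: the extraspecial subgroup has exponent `p`
-/

set_option autoImplicit false
set_option linter.unusedSectionVars false

namespace Cfsg.Agent.H69.XsC1b

open Cfsg Cfsg.FusionSystem Cfsg.Agent.H97 Cfsg.Agent.H98 Cfsg.Agent.H96 Cfsg.Agent.H5 Subgroup
open Cfsg.Agent.H97.XS
open scoped commutatorElement

universe u

variable {Ω : Type*} [Group Ω] {p : ℕ} [hp : Fact p.Prime] {S Q E : Subgroup Ω} [Finite S]
  {F : FusionSystem S} {z : Ω}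

theorem exists_comm (h : XQ p S Q z) {u c : Ω} (hu : u ∈ Q) (huz : u ∉ zpowers z)
    (hc : c ∈ zpowers z) : ∃ y ∈ Q, y * u * y⁻¹ = c * u := by
  obtain ⟨y, hy, hn⟩ : ∃ y ∈ Q, ¬ Commute u y := by
    by_contra! hn
    exact huz (h.cen u hu hn)
  obtain ⟨k, hk⟩ := mem_zpowers_of_card_eq h.card_z (h.comm y hy u hu)
    (fun e => hn (commutatorElement_eq_one_iff_commute.1 e).symm) hc
  refine ⟨y ^ k, Q.zpow_mem hy k, ?_⟩
  rw [← hk]
  show _ = ⁅y, u⁆ ^ k * u
  rw [← h.comm_zpow_left hy hu, commutatorElement_def, inv_mul_cancel_right]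

theorem c1b : C1bStmt.{u} := by
  intro Ω _ p hp S Q E _ F z h α hα hwQ hwZ hC hW hH ⟨e, he, _, hr⟩
  have := finite_of_le h.ES
  set w := ext α z with hw
  have wE : w ∈ E := ext_mem α h.zE
  have zw : Commute z w := h.zc w (h.ES wE)
  have zW : z ∈ zpowers z ⊔ zpowers w := mem_sup_left (mem_zpowers z)
  have wW : w ∈ zpowers z ⊔ zpowers w := mem_sup_right (mem_zpowers w)
  have WE : zpowers z ⊔ zpowers w ≤ E := sup_le h.zleE (zpowers_le.2 wE)
  have WQ : zpowers z ⊔ zpowers w ≤ Q := sup_le h.zle (zpowers_le.2 hwQ)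
  -- `S` normalizes `E`
  have nQ : ∀ g ∈ Q, g ∈ normalizer (E : Set Ω) := fun g hg => mem_normalizer_of_conj_mem fun x hx => by
    refine hC _ (S.mul_mem (S.mul_mem (h.le hg) (h.ES hx)) (S.inv_mem (h.le hg))) ?_
    have c1 : Commute x (⁅g⁻¹, w⁆ * w) :=
      (h.zcomm (h.comm _ (Q.inv_mem hg) _ hwQ) (h.ES hx)).symm.mul_right (h.ext_comm α hx).symm
    rw [commutatorElement_def, inv_mul_cancel_right] at c1
    show g * x * g⁻¹ * w = w * (g * x * g⁻¹)
    calc g * x * g⁻¹ * w = g * (x * (g⁻¹ * w * g⁻¹⁻¹)) * g⁻¹ := by group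
      _ = _ := by rw [c1.eq]; group
  have nS : normalizerIn S E = S := by
    refine le_antisymm H97.normalizerIn_le fun g hg => ⟨hg, ?_⟩
    obtain ⟨x, hx, hxQ⟩ := SetLike.not_le_iff_exists.1 h.not_le
    obtain ⟨q, hq, k, rfl⟩ := h.exists_eq (h.ES hx) hxQ hg
    exact Subgroup.mul_mem _ (nQ q hq) (Subgroup.pow_mem _ (Subgroup.le_normalizer hx) k)
  have cA : ∀ y (hy : y ∈ Q), conjAut E (nQ y hy) ∈ F.autGroup E := fun y hy =>
    autInducedBy_le_autGroup F h.ES le_rfl (conjAut_mem_autInducedBy (h.le hy) _)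
  have cz : ∀ y (hy : y ∈ Q), ext (conjAut E (nQ y hy)) z = z := fun y hy => by
    rw [ext_conjAut _ h.zE, ← (h.zc y (h.le hy)).eq, mul_inv_cancel_right]
  -- the two transvections
  obtain ⟨y, hy, ey⟩ := exists_comm h.toXQ hwQ hwZ (mem_zpowers z)
  have uW := hW _ (Subgroup.inv_mem _ hα) z zW
  obtain ⟨y', hy', ey'⟩ := exists_comm h.toXQ (WQ uW) (fun e => hwZ (by simpa using h.inv_mem e))
    (Subgroup.inv_mem _ (mem_zpowers z))
  set x := conjAut E (nQ y hy)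
  set x' := α * conjAut E (nQ y' hy') * α⁻¹ with hx'
  have xA : x ∈ F.autGroup E := cA y hy
  have xA' : x' ∈ F.autGroup E :=
    Subgroup.mul_mem _ (Subgroup.mul_mem _ hα (cA y' hy')) (Subgroup.inv_mem _ hα)
  have xz : ext x z = z := cz y hy
  have xw : ext x w = z * w := by rw [ext_conjAut _ wE, ey]
  have xz' : ext x' z = w⁻¹ * z := by
    rw [hx', ext_mul, ext_mul, ext_conjAut _ (WE uW), ey',
      (homOn_ext α).map_mul (E.inv_mem h.zE) (WE uW), (homOn_ext α).map_inv h.zE, ext_ext_inv]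
  have xw' : ext x' w = w := by rw [hx', ext_mul, ext_mul, hw, ext_inv_ext, cz y' hy']
  set n := x * x' * x with hn
  have nz : ext n z = w⁻¹ := by
    rw [hn, ext_mul, ext_mul, xz, xz', (homOn_ext x).map_mul (E.inv_mem wE) h.zE,
      (homOn_ext x).map_inv wE, xw, xz]
    group
  have nw : ext n w = z := by
    rw [hn, ext_mul, ext_mul, xw, (homOn_ext x').map_mul h.zE wE, xz', xw', mul_assoc, zw.eq,
      inv_mul_cancel_left, xz]
  have nA : n * n ∈ F.autGroup E := by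
    have : n ∈ F.autGroup E := Subgroup.mul_mem _ (Subgroup.mul_mem _ xA xA') xA
    exact Subgroup.mul_mem _ this this
  have tz : ext (n * n) z = z⁻¹ := by rw [ext_mul, nz, (homOn_ext n).map_inv wE, nw]
  have tw : ext (n * n) w = w⁻¹ := by rw [ext_mul, nw, nz]
  have tW : ∀ a ∈ zpowers z ⊔ zpowers w, ext (n * n) a = a⁻¹ := fun a ha => by
    obtain ⟨_, ⟨i, rfl⟩, j, rfl⟩ := (mem_sup_zpowers_iff (A := zpowers z)
      (have := finite_of_le (h.zle.trans h.le)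
      mem_normalizer_of_conj_mem fun b hb => by
        rwa [← (h.zcomm hb (h.ES wE)).eq, mul_inv_cancel_right])).1 ha
    show ext (n * n) (z ^ i * w ^ j) = (z ^ i * w ^ j)⁻¹
    rw [(homOn_ext _).map_mul (E.zpow_mem h.zE i) (E.zpow_mem wE j), (homOn_ext _).map_zpow h.zE,
      (homOn_ext _).map_zpow wE, tz, tw, (zw.zpow_zpow i j).eq, mul_inv_rev, inv_zpow, inv_zpow]
  obtain ⟨σ, hσ, -, eσ⟩ := h.extW WE hW nA fun g hg => ⟨g, hg, fun a ha => by
    rw [tW _ (hW.conj_mem h.ES WE hg ha), tW a ha]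
    group⟩
  rw [nS] at hσ
  have σQ := h.char hσ.mor.homOn hσ.mor.injOn hσ.mem he hr
  have σZ : ∀ a ∈ zpowers z, σ a = a⁻¹ := fun a ha => by
    rw [eσ a (mem_sup_left ha), tW a (mem_sup_left ha)]
  intro q hq
  have h1 : ⁅σ q, w⁆ = ⁅q, w⁆ := by
    have := σZ _ (h.comm q hq w hwQ)
    rw [homOn_comm hσ.mor.homOn (h.le hq) (h.le hwQ), eσ w wW, tw,
      h.comm_inv_right hwQ (σQ q hq)] at this
    exact inv_injective this
  have hq' : q⁻¹ * σ q ∈ Q := Q.mul_mem (Q.inv_mem hq) (σQ q hq)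
  have h2 := hH _ (hC _ (h.le hq') (commutatorElement_eq_one_iff_commute.1 (by
    rw [h.comm_mul_left (Q.inv_mem hq) (σQ q hq) hwQ, h.comm_inv_left hq hwQ, h1,
      inv_mul_cancel]))) hq'
  rw [h.mul_pow (Q.inv_mem hq) (σQ q hq), ← hσ.mor.homOn.map_pow (h.le hq), σZ _ (h.pow q hq),
    inv_pow, ← mul_inv_rev, inv_eq_one, ← pow_two] at h2
  have h3 := h.zpow_eq_one (h.pow q hq)
  exact (pow_eq_one_iff_of_coprime ((Nat.coprime_primes Nat.prime_two hp.out).2 h.odd.symm)).1 ⟨h2, h3⟩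

end Cfsg.Agent.H69.XsC1b
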